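import Mathlib
import Cfsg.Agent.Lib.Helper10.BR0

set_option autoImplicit false

namespace Cfsg.Agent.Lib.Helper10.BR

open Cfsg
open scoped ComplexConjugate

/-- BR-L1 -/
theorem psum_zero {G : Type*} [Group G] [Fintype G] (P : Subgroup G) (ψ : G → ℂ)
    (hψ : IsCharacter G ψ) (h0 : psum P ψ 1 = 0) (y : G) : psum P ψ y = 0 := by
  classical
  obtain ⟨n, ρ, rfl⟩ := hψ
  let _ : Fintype P := Fintype.ofFinite P
  rw [psum_eq_sum] at h0 ⊢
  set E : Module.End ℂ (Fin n → ℂ) := ∑ u : P, ρ (u : G) with hE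
  have htr : ∀ y : G, ∑ u : P, ρ.character (y * (u : G)) =
      LinearMap.trace ℂ (Fin n → ℂ) (ρ y * E) := by
    intro y
    rw [hE, Finset.mul_sum, map_sum]
    refine Finset.sum_congr rfl fun u _ => ?_
    rw [Representation.character, map_mul]
  have hEE : E * E = (Nat.card P : ℂ) • E := by
    have hstep : ∀ u : P, ρ (u : G) * E = E := by
      intro u
      rw [hE, Finset.mul_sum]
      have h1 := Fintype.sum_equiv (Equiv.mulLeft u) (fun v : P => ρ ((u * v : P) : G))
        (fun v : P => ρ (v : G)) (fun v => rfl)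
      rw [← h1]
      refine Finset.sum_congr rfl fun v _ => ?_
      rw [← map_mul]
      rfl
    conv_lhs => rw [hE, Finset.sum_mul]
    rw [Finset.sum_congr rfl (fun u _ => hstep u), Finset.sum_const, Finset.card_univ,
      Nat.card_eq_fintype_card, Nat.cast_smul_eq_nsmul]
  have hc : (Nat.card P : ℂ) ≠ 0 := by
    have : 0 < Nat.card P := Nat.card_pos
    exact_mod_cast this.ne'
  set π : Module.End ℂ (Fin n → ℂ) := (Nat.card P : ℂ)⁻¹ • E with hπ
  have hidem : IsIdempotentElem π := by
    show π * π = π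
    rw [hπ, smul_mul_smul_comm, hEE, smul_smul]
    congr 1
    field_simp
  have htrE : LinearMap.trace ℂ (Fin n → ℂ) E = 0 := by
    have h1 := htr 1
    rw [map_one, one_mul] at h1
    rw [← h1]
    exact h0
  have htrπ : LinearMap.trace ℂ (Fin n → ℂ) π = 0 := by
    rw [hπ, map_smul, htrE, smul_zero]
  have hπ0 : π = 0 := (LinearMap.IsIdempotentElem.trace_eq_zero_iff hidem).1 htrπ
  have hE0 : E = 0 := by
    have : E = (Nat.card P : ℂ) • π := by
      rw [hπ, smul_smul, mul_inv_cancel₀ hc, one_smul]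
    rw [this, hπ0, smul_zero]
  rw [htr y, hE0, mul_zero, map_zero]

end Cfsg.Agent.Lib.Helper10.BR
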