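import Mathlib
import Cfsg.Agent.Lib.Helper10.BR0
import Cfsg.Agent.Lib.Helper4.CharDecomp
import Cfsg.Agent.Lib.Helper35.Abel

set_option autoImplicit false

namespace Cfsg.Agent.Lib.Helper10.BR

open Cfsg
open scoped ComplexConjugate

/-- BR-L4 -/
theorem abelian_norm_ge {G : Type*} [Group G] [Fintype G] (P : Subgroup G)
    (hP : ∀ a ∈ P, ∀ b ∈ P, a * b = b * a) (ψ : G → ℂ) (hψ : IsCharacter G ψ) :
    (ψ 1).re * (Nat.card P : ℝ) ≤ (psum P (fun g => ψ g * conj (ψ g)) 1).re := by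
  classical
  let _ : Fintype P := Fintype.ofFinite P
  have hfin : Finite (IrrCharacter P) := Cfsg.Agent.Lib.Helper4.irr_finite
  let _ : Fintype (IrrCharacter P) := Fintype.ofFinite _
  have hres : IsCharacter P (fun h : P => ψ h) :=
    Cfsg.Agent.Lib.Helper4.isCharacter_restrict P ψ hψ
  obtain ⟨m, hm⟩ := Cfsg.Agent.Lib.Helper4.exists_decomp_of_isCharacter _ hres
  have hcomm : ∀ a b : P, a * b = b * a := fun a b => Subtype.ext (hP a a.2 b b.2)
  have hdeg : ∀ χ : IrrCharacter P, (χ : P → ℂ) 1 = 1 :=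
    fun χ => Cfsg.Agent.Lib.Helper35.irr_one_of_comm hcomm χ
  have hinner : classInner (fun h : P => ψ h) (fun h : P => ψ h) =
      ∑ χ : IrrCharacter P, (m χ : ℂ) * conj (m χ : ℂ) := by
    have := Cfsg.Agent.Lib.Helper4.classInner_sum_sum_irr (G := P) (fun χ => (m χ : ℂ))
      (fun χ => (m χ : ℂ))
    rw [← hm] at this
    exact this
  have h1 : ψ 1 = ∑ χ : IrrCharacter P, (m χ : ℂ) := by
    have h := congrFun hm 1
    simp only [Finset.sum_apply, Pi.smul_apply, smul_eq_mul, hdeg, mul_one] at h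
    rw [← h]
    rfl
  have hsum : psum P (fun g => ψ g * conj (ψ g)) 1 =
      (Nat.card P : ℂ) * ∑ χ : IrrCharacter P, (m χ : ℂ) * conj (m χ : ℂ) := by
    rw [psum_eq_sum, ← hinner, classInner]
    have hc : (Nat.card P : ℂ) ≠ 0 := by
      have : 0 < Nat.card P := Nat.card_pos
      exact_mod_cast this.ne'
    rw [← mul_assoc, mul_inv_cancel₀ hc, one_mul]
    refine Finset.sum_congr rfl fun u _ => ?_
    rw [one_mul]
  rw [hsum, h1]
  have e1 : (∑ χ : IrrCharacter P, (m χ : ℂ)).re = ((∑ χ : IrrCharacter P, m χ : ℕ) : ℝ) := by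
    rw [← Nat.cast_sum]
    simp
  have e2 : ((Nat.card P : ℂ) * ∑ χ : IrrCharacter P, (m χ : ℂ) * conj (m χ : ℂ)).re =
      (Nat.card P : ℝ) * ((∑ χ : IrrCharacter P, m χ * m χ : ℕ) : ℝ) := by
    have : (∑ χ : IrrCharacter P, (m χ : ℂ) * conj (m χ : ℂ)) =
        ((∑ χ : IrrCharacter P, m χ * m χ : ℕ) : ℂ) := by
      rw [Nat.cast_sum]
      refine Finset.sum_congr rfl fun χ _ => ?_
      rw [Complex.conj_natCast, Nat.cast_mul]
    rw [this]
    simp
  rw [e1, e2, mul_comm]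
  have hle : (∑ χ : IrrCharacter P, m χ : ℕ) ≤ ∑ χ : IrrCharacter P, m χ * m χ :=
    Finset.sum_le_sum fun χ _ => Nat.le_mul_self (m χ)
  have hle' : ((∑ χ : IrrCharacter P, m χ : ℕ) : ℝ) ≤ ((∑ χ : IrrCharacter P, m χ * m χ : ℕ) : ℝ) := by
    exact_mod_cast hle
  exact mul_le_mul_of_nonneg_left hle' (Nat.cast_nonneg _)

end Cfsg.Agent.Lib.Helper10.BR
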