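import Mathlib

set_option autoImplicit false

namespace Cfsg.Agent.Lib.Helper5.J3IS1

theorem exists_subgroup_of_table {G : Type*} [Group G] (n : ℕ) (hn : 0 < n) (f : ℕ → G)
    (hm : ∀ i < n, ∀ j < n, ∃ k < n, f i * f j = f k)
    (hinj : ∀ i < n, ∀ j < n, f i = f j → i = j) :
    ∃ S : Subgroup G, (∀ g, g ∈ S ↔ ∃ i < n, f i = g) ∧ Nat.card S = n := by
  classical
  set T : Finset G := (Finset.range n).image f with hT
  have hTcard : T.card = n := by
    rw [hT, Finset.card_image_of_injOn, Finset.card_range]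
    intro i hi j hj hij
    exact hinj i (Finset.mem_range.1 (Finset.mem_coe.1 hi)) j
      (Finset.mem_range.1 (Finset.mem_coe.1 hj)) hij
  have hTmem : ∀ g, g ∈ T ↔ ∃ i < n, f i = g := by
    intro g
    simp [hT]
  have hmul : ∀ a ∈ T, ∀ b ∈ T, a * b ∈ T := by
    intro a ha b hb
    obtain ⟨i, hi, rfl⟩ := (hTmem a).1 ha
    obtain ⟨j, hj, rfl⟩ := (hTmem b).1 hb
    obtain ⟨k, hk, hk'⟩ := hm i hi j hj
    exact (hTmem _).2 ⟨k, hk, hk'.symm⟩
  have hsurj : ∀ a ∈ T, ∀ c ∈ T, ∃ b ∈ T, a * b = c := by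
    intro a ha c hc
    have himg : T.image (fun b => a * b) = T := by
      apply Finset.eq_of_subset_of_card_le
      · intro x hx
        obtain ⟨b, hb, rfl⟩ := Finset.mem_image.1 hx
        exact hmul a ha b hb
      · rw [Finset.card_image_of_injective _ (mul_right_injective a)]
    rw [← himg] at hc
    obtain ⟨b, hb, hb'⟩ := Finset.mem_image.1 hc
    exact ⟨b, hb, hb'⟩
  have h1 : (1 : G) ∈ T := by
    have ha : f 0 ∈ T := (hTmem _).2 ⟨0, hn, rfl⟩
    obtain ⟨b, hb, hab⟩ := hsurj (f 0) ha (f 0) ha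
    have hb1 : b = 1 := by simpa using hab
    rwa [hb1] at hb
  have hinv : ∀ a ∈ T, a⁻¹ ∈ T := by
    intro a ha
    obtain ⟨c, hc, hac⟩ := hsurj a ha 1 h1
    have hc' : c = a⁻¹ := eq_inv_of_mul_eq_one_right hac
    rwa [hc'] at hc
  refine ⟨{ carrier := (T : Set G)
            mul_mem' := fun {a b} ha hb => Finset.mem_coe.2 (hmul a (Finset.mem_coe.1 ha) b (Finset.mem_coe.1 hb))
            one_mem' := Finset.mem_coe.2 h1
            inv_mem' := fun {a} ha => Finset.mem_coe.2 (hinv a (Finset.mem_coe.1 ha)) }, ?_, ?_⟩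
  · intro g
    exact hTmem g
  · show Nat.card ((T : Set G)) = n
    rw [Nat.card_coe_set_eq, Set.ncard_coe_finset, hTcard]

end Cfsg.Agent.Lib.Helper5.J3IS1
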