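import Mathlib

set_option autoImplicit false

namespace Cfsg.Agent.Lib.Helper5.J3IS2

theorem split_structure {C : Type*} [Group C] [Finite C] (Q H : Subgroup C)
    (hQ : Nat.card Q = 32) (hH : Nat.card H = 60) (hC : Nat.card C ≤ 1920)
    (hdisj : Q ⊓ H = ⊥) (hnorm : ∀ h ∈ H, ∀ q ∈ Q, h * q * h⁻¹ ∈ Q)
    (hA5 : Nonempty (H ≃* alternatingGroup (Fin 5))) :
    Nat.card C = 1920 ∧ (∀ c : C, ∃ q ∈ Q, ∃ h ∈ H, c = q * h) ∧
      ∃ (_ : Q.Normal), Q.IsComplement' H ∧ Nonempty (C ⧸ Q ≃* alternatingGroup (Fin 5)) := by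
  have hinj : Function.Injective (fun x : Q × H => (x.1 : C) * (x.2 : C)) := by
    rintro ⟨⟨q₁, hq₁⟩, ⟨h₁, hh₁⟩⟩ ⟨⟨q₂, hq₂⟩, ⟨h₂, hh₂⟩⟩ hx
    simp only at hx
    have h1 : q₂⁻¹ * q₁ = h₂ * h₁⁻¹ := by
      have : q₁ = q₂ * h₂ * h₁⁻¹ := by rw [← hx]; group
      rw [this]; group
    have hmem : q₂⁻¹ * q₁ ∈ Q ⊓ H :=
      ⟨Q.mul_mem (Q.inv_mem hq₂) hq₁, by rw [h1]; exact H.mul_mem hh₂ (H.inv_mem hh₁)⟩
    rw [hdisj, Subgroup.mem_bot] at hmem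
    have hq : q₁ = q₂ := by
      have := inv_mul_eq_one.1 hmem
      exact this.symm
    have hh : h₁ = h₂ := by
      rw [hmem] at h1
      have := mul_inv_eq_one.1 h1.symm
      exact this.symm
    subst hq; subst hh; rfl
  have hcard : Nat.card C = 1920 := by
    have h1 : Nat.card (Q × H) ≤ Nat.card C := Nat.card_le_card_of_injective _ hinj
    rw [Nat.card_prod, hQ, hH] at h1
    omega
  have hcompl : Q.IsComplement' H := by
    apply Subgroup.isComplement'_of_card_mul_and_disjoint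
    · rw [hQ, hH, hcard]
    · exact disjoint_iff.2 hdisj
  have hsurj : ∀ c : C, ∃ q ∈ Q, ∃ h ∈ H, c = q * h := by
    intro c
    obtain ⟨⟨⟨q, hq⟩, ⟨h, hh⟩⟩, hx⟩ := hcompl.2 c
    exact ⟨q, hq, h, hh, hx.symm⟩
  have hnormal : Q.Normal := by
    constructor
    intro q' hq' c
    obtain ⟨q, hq, h, hh, rfl⟩ := hsurj c
    have : q * h * q' * (q * h)⁻¹ = q * (h * q' * h⁻¹) * q⁻¹ := by group
    rw [this]
    exact Q.mul_mem (Q.mul_mem hq (hnorm h hh q' hq')) (Q.inv_mem hq)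
  refine ⟨hcard, hsurj, hnormal, hcompl, ?_⟩
  obtain ⟨e⟩ := hA5
  have _ := hnormal
  exact ⟨(Subgroup.IsComplement'.QuotientMulEquiv hcompl.symm).trans e⟩

end Cfsg.Agent.Lib.Helper5.J3IS2
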