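import Mathlib

set_option autoImplicit false

namespace Cfsg.Agent.Lib.Helper5.J3OALL

theorem class_enum {J : Type*} [Group J] [Finite J] (t : J) (n : ℕ) (x : ℕ → J)
    (hx : ∀ i < n, IsConj t (x i)) (hinj : ∀ i < n, ∀ j < n, x i = x j → i = j)
    (hcard : n * Nat.card (Subgroup.centralizer ({t} : Set J)) = Nat.card J) :
    ∀ y : J, IsConj t y → ∃ i < n, x i = y := by
  have h1 : (Subgroup.centralizer ({t} : Set J)).index *
      Nat.card (Subgroup.centralizer ({t} : Set J)) = Nat.card J := Subgroup.index_mul_card _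
  have hpos : 0 < Nat.card (Subgroup.centralizer ({t} : Set J)) := Nat.card_pos
  have hidx : (Subgroup.centralizer ({t} : Set J)).index = n := by
    have := h1.trans hcard.symm
    exact Nat.eq_of_mul_eq_mul_right hpos this
  have hch : ∀ i : Fin n, ∃ g : J, g * t * g⁻¹ = x i := fun i => isConj_iff.mp (hx i i.2)
  choose g hg using hch
  have hinj' : Function.Injective
      (fun i : Fin n => (QuotientGroup.mk (g i) : J ⧸ Subgroup.centralizer ({t} : Set J))) := by
    intro i j hij
    have hmem : (g i)⁻¹ * g j ∈ Subgroup.centralizer ({t} : Set J) := QuotientGroup.eq.mp hij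
    rw [Subgroup.mem_centralizer_iff] at hmem
    have hc : t * ((g i)⁻¹ * g j) = (g i)⁻¹ * g j * t := hmem t rfl
    have hxx : x i = x j := by
      rw [← hg i, ← hg j]
      have : g j * t * (g j)⁻¹ = g i * ((g i)⁻¹ * g j * t) * (g j)⁻¹ := by group
      rw [this, ← hc]; group
    exact Fin.ext (hinj i i.2 j j.2 hxx)
  have hcardeq : Nat.card (Fin n) = Nat.card (J ⧸ Subgroup.centralizer ({t} : Set J)) := by
    rw [Nat.card_eq_fintype_card, Fintype.card_fin, ← hidx]
    rfl
  have hsurj : Function.Surjective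
      (fun i : Fin n => (QuotientGroup.mk (g i) : J ⧸ Subgroup.centralizer ({t} : Set J))) :=
    ((Nat.bijective_iff_injective_and_card _).2 ⟨hinj', hcardeq⟩).2
  intro y hy
  obtain ⟨h, hh⟩ := isConj_iff.mp hy
  obtain ⟨i, hi⟩ := hsurj (QuotientGroup.mk h)
  refine ⟨i, i.2, ?_⟩
  have hmem : (g i)⁻¹ * h ∈ Subgroup.centralizer ({t} : Set J) := QuotientGroup.eq.mp hi
  rw [Subgroup.mem_centralizer_iff] at hmem
  have hc : t * ((g i)⁻¹ * h) = (g i)⁻¹ * h * t := hmem t rfl
  rw [← hg i, ← hh]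
  have : h * t * h⁻¹ = g i * ((g i)⁻¹ * h * t) * h⁻¹ := by group
  rw [this, ← hc]; group

end Cfsg.Agent.Lib.Helper5.J3OALL
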