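import Mathlib

set_option autoImplicit false

namespace Cfsg.Agent.Lib.Helper5.J3ORES

theorem exists_equiv_of_closure {Γ : Type*} [Group Γ] (Φ : Γ →* Γ) (hΦ : Function.Injective Φ)
    (a b : Γ) (H : Subgroup Γ) (hH : H = Subgroup.closure {a, b}) [Finite H]
    (ha : Φ a ∈ H) (hb : Φ b ∈ H) :
    ∃ φ : H ≃* H, ∀ h : H, (φ h : Γ) = Φ h := by
  have hmap : ∀ h : Γ, h ∈ H → Φ h ∈ H := by
    intro h hh
    have hle : H.map Φ ≤ H := by
      have h1 : H.map Φ = Subgroup.closure (Φ '' {a, b}) := by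
        rw [hH, MonoidHom.map_closure]
      rw [h1, Subgroup.closure_le]
      rintro _ ⟨c, hc, rfl⟩
      rcases hc with rfl | rfl
      · exact ha
      · exact hb
    exact hle ⟨h, hh, rfl⟩
  let f : H →* H := (Φ.comp H.subtype).codRestrict H (fun h => hmap h h.2)
  have hfinj : Function.Injective f := by
    intro u v huv
    have h1 : ((f u : H) : Γ) = ((f v : H) : Γ) := congrArg Subtype.val huv
    exact Subtype.ext (hΦ h1)
  have hfbij : Function.Bijective f := ⟨hfinj, Finite.injective_iff_surjective.mp hfinj⟩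
  exact ⟨MulEquiv.ofBijective f hfbij, fun h => rfl⟩

end Cfsg.Agent.Lib.Helper5.J3ORES
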