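import Cfsg.Agent.Lib.Helper5.CharInd

set_option autoImplicit false

namespace Cfsg.Agent.Lib.Helper5

open Module Cfsg.Agent.Lib.Helper4
open scoped ComplexConjugate

variable {G : Type*} [Group G] [Fintype G]

/-- A sum over the group of a function of the form `g ↦ [mk g fixed] / |class of g|` counts the
fixed conjugacy classes. -/
theorem sum_class_indicator [DecidableEq G] [Fintype (ConjClasses G)]
    [DecidableEq (ConjClasses G)] (P : ConjClasses G → Prop) [DecidablePred P] :
    ∑ g : G, (if P (ConjClasses.mk g) then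
        ((Finset.univ.filter (fun x : G => IsConj x g)).card : ℂ)⁻¹ else 0) =
      ∑ C : ConjClasses G, (if P C then (1 : ℂ) else 0) := by
  rw [← Finset.sum_fiberwise Finset.univ (ConjClasses.mk : G → ConjClasses G)]
  apply Finset.sum_congr rfl
  intro C _
  obtain ⟨g₀, rfl⟩ := ConjClasses.mk_surjective C
  have hfib : ∀ g : G, ConjClasses.mk g = ConjClasses.mk g₀ →
      (Finset.univ.filter (fun x : G => IsConj x g)) =
        (Finset.univ.filter (fun x : G => ConjClasses.mk x = ConjClasses.mk g₀)) := by
    intro g hg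
    ext x
    simp only [Finset.mem_filter, Finset.mem_univ, true_and]
    rw [← hg, ConjClasses.mk_eq_mk_iff_isConj]
  have h1 : ∀ g ∈ Finset.univ.filter (fun x : G => ConjClasses.mk x = ConjClasses.mk g₀),
      (if P (ConjClasses.mk g) then
        ((Finset.univ.filter (fun x : G => IsConj x g)).card : ℂ)⁻¹ else 0) =
      (if P (ConjClasses.mk g₀) then
        ((Finset.univ.filter (fun x : G => ConjClasses.mk x = ConjClasses.mk g₀)).card : ℂ)⁻¹
        else 0) := by
    intro g hg
    have hg' : ConjClasses.mk g = ConjClasses.mk g₀ := (Finset.mem_filter.mp hg).2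
    rw [hfib g hg', hg']
  rw [Finset.sum_congr rfl h1, Finset.sum_const, nsmul_eq_mul]
  have hne : ((Finset.univ.filter (fun x : G => ConjClasses.mk x = ConjClasses.mk g₀)).card : ℂ)
      ≠ 0 := by
    have hmem : g₀ ∈ Finset.univ.filter (fun x : G => ConjClasses.mk x = ConjClasses.mk g₀) := by
      simp
    exact_mod_cast (Finset.card_pos.mpr ⟨g₀, hmem⟩).ne'
  by_cases hP : P (ConjClasses.mk g₀)
  · rw [if_pos hP, if_pos hP, mul_inv_cancel₀ hne]
  · rw [if_neg hP, if_neg hP, mul_zero]

/-- Brauer's permutation lemma for one automorphism. -/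
theorem brauer_perm (α : G ≃* G) :
    Nat.card {C : ConjClasses G // ConjClasses.map α.toMonoidHom C = C} =
      Nat.card {χ : IrrCharacter G // (χ : G → ℂ) ∘ α = (χ : G → ℂ)} := by
  classical
  have := irr_finite (G := G)
  letI : Fintype (IrrCharacter G) := Fintype.ofFinite _
  letI : Fintype (ConjClasses G) := Fintype.ofFinite _
  have hG : (Nat.card G : ℂ) ≠ 0 := card_ne_zero_complex
  have hχα : ∀ χ : IrrCharacter G, IsIrrCharacter G ((χ : G → ℂ) ∘ α) := fun χ =>
    isIrrCharacter_comp_of_surjective (χ : G → ℂ) χ.2 α.toMonoidHom α.surjective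
  have h1 : ∀ χ : IrrCharacter G, (if (χ : G → ℂ) ∘ α = (χ : G → ℂ) then (1 : ℂ) else 0) =
      classInner (χ : G → ℂ) ((χ : G → ℂ) ∘ α) := by
    intro χ
    have h := classInner_irr χ ⟨(χ : G → ℂ) ∘ α, hχα χ⟩
    rw [h]
    by_cases hc : (χ : G → ℂ) ∘ α = (χ : G → ℂ)
    · rw [if_pos hc, if_pos (Subtype.ext hc.symm)]
    · rw [if_neg hc, if_neg]
      intro h2
      exact hc (congrArg Subtype.val h2).symm
  have key : (Nat.card {χ : IrrCharacter G // (χ : G → ℂ) ∘ α = (χ : G → ℂ)} : ℂ) =
      (Nat.card {C : ConjClasses G // ConjClasses.map α.toMonoidHom C = C} : ℂ) := by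
    rw [Nat.card_eq_fintype_card, Fintype.card_subtype, ← Finset.sum_boole]
    rw [Nat.card_eq_fintype_card, Fintype.card_subtype, ← Finset.sum_boole]
    rw [Finset.sum_congr rfl (fun χ _ => h1 χ)]
    simp only [classInner_def, Function.comp_apply]
    rw [← Finset.mul_sum, Finset.sum_comm]
    simp only [col_orth]
    rw [Finset.mul_sum]
    rw [← sum_class_indicator (fun C => ConjClasses.map α.toMonoidHom C = C)]
    apply Finset.sum_congr rfl
    intro g _
    have hiff : IsConj g (α g) ↔ ConjClasses.map α.toMonoidHom (ConjClasses.mk g) =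
        ConjClasses.mk g := by
      change _ ↔ ConjClasses.mk (α g) = ConjClasses.mk g
      rw [ConjClasses.mk_eq_mk_iff_isConj, isConj_comm]
    by_cases hc : IsConj g (α g)
    · rw [if_pos hc, if_pos (hiff.mp hc)]
      have h2 := card_conj_class_mul g
      have hne : ((Finset.univ.filter (fun x : G => IsConj x g)).card : ℂ) ≠ 0 := by
        intro h0
        rw [h0, zero_mul] at h2
        exact hG h2.symm
      rw [← h2]
      field_simp
    · rw [if_neg hc, if_neg (fun h => hc (hiff.mpr h)), mul_zero]
  exact_mod_cast key.symm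

end Cfsg.Agent.Lib.Helper5
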