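import Mathlib
import Cfsg.Agent.Lib.Helper4.FCDefs
import Cfsg.Agent.S4034

/-!
# Project FC (helper4, S4146): piece E3 (helper5)

With `M` of MSUB: `M ∩ C(a)` is normal in `M`, of index dividing `cs a = n`; so an element `y ∈ M`
of order prime to `n` lies in `C(a)`.
-/

set_option autoImplicit false

namespace Cfsg.Agent.Lib.Helper4.FC

universe u

/-- if `|H : H ∩ K| = |G : K|` then `G = H K` -/
theorem e3_helper5_prod {G : Type u} [Group G] [Finite G] (H K : Subgroup G)
    (h : K.relIndex H = K.index) : ∀ g : G, ∃ c ∈ H, c⁻¹ * g ∈ K := by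
  intro g
  have hstab : MulAction.stabilizer H ((1 : G) : G ⧸ K) = K.subgroupOf H := by
    ext x
    rw [MulAction.mem_stabilizer_iff, Subgroup.mem_subgroupOf]
    have h1 : x • ((1 : G) : G ⧸ K) = (((x : G) * 1 : G) : G ⧸ K) := rfl
    rw [h1, mul_one, QuotientGroup.eq, mul_one, inv_mem_iff]
  have hcard : (MulAction.orbit H ((1 : G) : G ⧸ K)).ncard = Nat.card (G ⧸ K) := by
    rw [← MulAction.index_stabilizer, hstab]
    exact h
  have huniv : MulAction.orbit H ((1 : G) : G ⧸ K) = Set.univ :=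
    (Set.eq_univ_iff_ncard _).mpr hcard
  have hg : (g : G ⧸ K) ∈ MulAction.orbit H ((1 : G) : G ⧸ K) := by
    rw [huniv]; trivial
  obtain ⟨c, hc⟩ := hg
  have h2 : (((c : G) * 1 : G) : G ⧸ K) = (g : G ⧸ K) := hc
  rw [mul_one, QuotientGroup.eq] at h2
  exact ⟨(c : G), c.2, h2⟩

theorem fc_e3 : MSubStmt.{u} → L1Stmt.{u} → E3Stmt.{u} := by
  intro hMSub hL1 G _ _ n m a y hfour hmn han hy hco
  obtain ⟨M, hMn, hM⟩ := hMSub G n m hfour hmn
  have hfour' := hfour
  obtain ⟨hn1, hm1, hnm, hall, -, -, -⟩ := hfour'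
  have hyM : y ∈ M := (hM y).mpr hy
  have han' : (Cen a).index = n := han
  have key : ∀ u : G, u ∈ M → u ∈ Cen a → ∀ g : G, g * u * g⁻¹ ∈ Cen a := by
    intro u huM hua g
    rcases (hM u).mp huM with h1 | h1
    · have htop : Cen u = ⊤ := Subgroup.index_eq_one.mp h1
      have hg : g ∈ Cen u := by rw [htop]; trivial
      have hcomm : u * g = g * u := Subgroup.mem_centralizer_iff.mp hg u rfl
      have e1 : g * u * g⁻¹ = u := by rw [← hcomm, mul_inv_cancel_right]
      rw [e1]; exact hua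
    · have h1' : (Cen u).index = m := h1
      have hidx : (Cen a ⊓ Cen u).index = n * m := by
        have h3 := hL1 G a u (by rw [han, h1]; exact hnm)
        rw [h3, han, h1]
      have hrel : (Cen u).relIndex (Cen a) = (Cen u).index := by
        have h2 : (Cen u ⊓ Cen a).relIndex (Cen a) * (Cen a).index = (Cen u ⊓ Cen a).index :=
          Subgroup.relIndex_mul_index inf_le_right
        rw [Subgroup.inf_relIndex_right, inf_comm, hidx, han'] at h2
        have hn0 : 0 < n := by omega
        rw [h1']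
        have h4 : (Cen u).relIndex (Cen a) * n = m * n := by rw [h2, mul_comm]
        exact Nat.eq_of_mul_eq_mul_right hn0 h4
      obtain ⟨c, hc, hd⟩ := e3_helper5_prod (Cen a) (Cen u) hrel g
      have hdu : u * (c⁻¹ * g) = (c⁻¹ * g) * u := Subgroup.mem_centralizer_iff.mp hd u rfl
      have e1 : g * u * g⁻¹ = c * u * c⁻¹ := by
        calc g * u * g⁻¹ = c * ((c⁻¹ * g) * u) * g⁻¹ := by group
          _ = c * (u * (c⁻¹ * g)) * g⁻¹ := by rw [hdu]
          _ = c * u * c⁻¹ := by group
      rw [e1]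
      exact (Cen a).mul_mem ((Cen a).mul_mem hc hua) ((Cen a).inv_mem hc)
  have hN : ((Cen a).subgroupOf M).Normal := by
    constructor
    intro u hu g
    rw [Subgroup.mem_subgroupOf] at hu ⊢
    exact key (u : G) u.2 hu (g : G)
  have hk : y ^ ((Cen a).relIndex M) ∈ Cen a := by
    have h5 := Subgroup.pow_index_mem ((Cen a).subgroupOf M) (⟨y, hyM⟩ : M)
    rw [Subgroup.mem_subgroupOf] at h5
    exact h5
  have hkn : (Cen a).relIndex M ∣ n := by
    rw [← han']; exact Cfsg.Agent.S4034.relIndex_dvd_index_normal (Cen a) M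
  have hyC : y ∈ Cen a := by
    apply Cfsg.Agent.S4034.mem_of_pow_mem_of_coprime (Cen a) y
      (a := (Cen a).relIndex M) (b := orderOf y) ?_ hk ?_
    · exact Nat.Coprime.coprime_dvd_left hkn hco.symm
    · rw [pow_orderOf_eq_one]; exact (Cen a).one_mem
  exact Subgroup.mem_centralizer_iff.mp hyC a rfl

end Cfsg.Agent.Lib.Helper4.FC
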