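import Mathlib
import Cfsg.Agent.Lib.Helper15.FH0

/-! # Feit–Higman, piece R2a: powers of `A B` and `B A` (Chebyshev recursion) -/

set_option autoImplicit false

namespace Cfsg.Agent.Lib.Helper5

open Cfsg Cfsg.Agent.Lib.Helper8 Cfsg.Agent.Lib.Helper15.FH

universe u

/-- Powers of a `2 × 2` matrix with characteristic polynomial `X² - 2 r cos θ X + r²`. -/
theorem R2a_pow_of_quadratic (Z : Matrix (Fin 2) (Fin 2) ℝ) (r θ : ℝ)
    (hZ : Z * Z = (2 * r * Real.cos θ) • Z - (r ^ 2) • (1 : Matrix (Fin 2) (Fin 2) ℝ)) (k : ℕ) :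
    (Real.sin θ * r) • Z ^ k =
      r ^ k • (Real.sin (k * θ) • Z -
        (r * Real.sin ((k - 1 : ℝ) * θ)) • (1 : Matrix (Fin 2) (Fin 2) ℝ)) := by
  induction k with
  | zero =>
    have h : Real.sin (((0 : ℕ) : ℝ) * θ) = 0 := by simp
    have h' : Real.sin ((((0 : ℕ) : ℝ) - 1) * θ) = -Real.sin θ := by
      rw [← Real.sin_neg]
      congr 1
      push_cast
      ring
    rw [h, h', pow_zero, pow_zero]
    module
  | succ k ih =>
    rw [pow_succ, ← smul_mul_assoc, ih]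
    simp only [smul_mul_assoc, Matrix.sub_mul, Matrix.one_mul, hZ]
    have h1 : Real.sin (((k + 1 : ℕ) : ℝ) * θ) =
        Real.sin (k * θ) * Real.cos θ + Real.cos (k * θ) * Real.sin θ := by
      push_cast
      rw [add_mul, one_mul, Real.sin_add]
    have h2 : Real.sin ((((k + 1 : ℕ) : ℝ) - 1) * θ) = Real.sin (k * θ) := by
      congr 1
      push_cast
      ring
    have h3 : Real.sin (((k : ℝ) - 1) * θ) =
        Real.sin (k * θ) * Real.cos θ - Real.cos (k * θ) * Real.sin θ := by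
      rw [sub_mul, one_mul, Real.sin_sub]
    rw [h1, h2, h3]
    module

theorem R2a_cayley_AB (u v a : ℝ) :
    (!![u, 0; 0, -1] * !![a, 1; a * (v - 1 - a) + v, v - 1 - a] : Matrix (Fin 2) (Fin 2) ℝ) *
        (!![u, 0; 0, -1] * !![a, 1; a * (v - 1 - a) + v, v - 1 - a]) =
      ((u + 1) * a - (v - 1)) •
          (!![u, 0; 0, -1] * !![a, 1; a * (v - 1 - a) + v, v - 1 - a] :
            Matrix (Fin 2) (Fin 2) ℝ) -
        (u * v) • (1 : Matrix (Fin 2) (Fin 2) ℝ) := by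
  ext i j
  fin_cases i <;> fin_cases j <;> simp [Matrix.mul_apply, Fin.sum_univ_two] <;> ring

theorem R2a_cayley_BA (u v a : ℝ) :
    (!![a, 1; a * (v - 1 - a) + v, v - 1 - a] * !![u, 0; 0, -1] : Matrix (Fin 2) (Fin 2) ℝ) *
        (!![a, 1; a * (v - 1 - a) + v, v - 1 - a] * !![u, 0; 0, -1]) =
      ((u + 1) * a - (v - 1)) •
          (!![a, 1; a * (v - 1 - a) + v, v - 1 - a] * !![u, 0; 0, -1] :
            Matrix (Fin 2) (Fin 2) ℝ) -
        (u * v) • (1 : Matrix (Fin 2) (Fin 2) ℝ) := by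
  ext i j
  fin_cases i <;> fin_cases j <;> simp [Matrix.mul_apply, Fin.sum_univ_two] <;> ring

theorem R2a_trace_eq (u v θ : ℝ) (hu : 0 < u) :
    2 * Real.sqrt (u * v) * Real.cos θ = (u + 1) * fhA u v θ - (v - 1) := by
  have : u + 1 ≠ 0 := by positivity
  rw [fhA_def]
  field_simp
  ring

theorem matAB_pow (u v θ : ℝ) (hu : 0 < u) (hv : 0 < v) (k : ℕ) :
    (Real.sin θ * Real.sqrt (u * v)) • (matA u * matB u v θ) ^ k =
      Real.sqrt (u * v) ^ k • (Real.sin (k * θ) • (matA u * matB u v θ) -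
        (Real.sqrt (u * v) * Real.sin ((k - 1 : ℝ) * θ)) • (1 : Matrix (Fin 2) (Fin 2) ℝ)) := by
  apply R2a_pow_of_quadratic
  rw [R2a_trace_eq u v θ hu, Real.sq_sqrt (by positivity), matA_def, matB_def]
  exact R2a_cayley_AB u v (fhA u v θ)

theorem matBA_pow (u v θ : ℝ) (hu : 0 < u) (hv : 0 < v) (k : ℕ) :
    (Real.sin θ * Real.sqrt (u * v)) • (matB u v θ * matA u) ^ k =
      Real.sqrt (u * v) ^ k • (Real.sin (k * θ) • (matB u v θ * matA u) -
        (Real.sqrt (u * v) * Real.sin ((k - 1 : ℝ) * θ)) • (1 : Matrix (Fin 2) (Fin 2) ℝ)) := by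
  apply R2a_pow_of_quadratic
  rw [R2a_trace_eq u v θ hu, Real.sq_sqrt (by positivity), matA_def, matB_def]
  exact R2a_cayley_BA u v (fhA u v θ)

end Cfsg.Agent.Lib.Helper5
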