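import Mathlib
import Cfsg.Agent.Lib.Helper15.FH0

/-! # Feit–Higman, piece T1: the trigonometric sum for even `m` -/

set_option autoImplicit false

namespace Cfsg.Agent.Lib.Helper5

open Cfsg Cfsg.Agent.Lib.Helper8 Cfsg.Agent.Lib.Helper15.FH

universe u

/-- Telescoping sum of cosines in arithmetic progression. -/
theorem T1_tele (θ β : ℝ) (N : ℕ) :
    2 * Real.sin θ * ∑ i ∈ Finset.range N, Real.cos (2 * (i : ℝ) * θ + β) =
      Real.sin ((2 * (N : ℝ) - 1) * θ + β) - Real.sin (β - θ) := by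
  induction N with
  | zero =>
    rw [Finset.sum_range_zero, mul_zero]
    have : (2 * ((0 : ℕ) : ℝ) - 1) * θ + β = β - θ := by
      push_cast
      ring
    rw [this, sub_self]
  | succ N ih =>
    rw [Finset.sum_range_succ, mul_add, ih]
    have h1 : (2 * ((N + 1 : ℕ) : ℝ) - 1) * θ + β = (2 * (N : ℝ) * θ + β) + θ := by
      push_cast
      ring
    have h2 : (2 * (N : ℝ) - 1) * θ + β = (2 * (N : ℝ) * θ + β) - θ := by ring
    rw [h1, h2, Real.sin_add, Real.sin_sub]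
    ring

/-- Over a full period the cosine sums vanish. -/
theorem T1_cos_sum (n j : ℕ) (θ : ℝ) (hθ : (n : ℝ) * θ = j * Real.pi) (hS : Real.sin θ ≠ 0)
    (β : ℝ) : ∑ i ∈ Finset.range n, Real.cos (2 * (i : ℝ) * θ + β) = 0 := by
  have h := T1_tele θ β n
  have h1 : (2 * (n : ℝ) - 1) * θ + β = (β - θ) + j * (2 * Real.pi) := by
    have : (2 * (n : ℝ) - 1) * θ + β = 2 * ((n : ℝ) * θ) + (β - θ) := by ring
    rw [this, hθ]
    ring
  rw [h1, Real.sin_add_nat_mul_two_pi, sub_self] at h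
  have h2 : 2 * Real.sin θ ≠ 0 := mul_ne_zero two_ne_zero hS
  exact (mul_eq_zero.mp h).resolve_left h2

/-- Splitting a sum over `range (2 n)` by parity. -/
theorem T1_split (f : ℕ → ℝ) (n : ℕ) :
    ∑ k ∈ Finset.range (2 * n), f k = ∑ i ∈ Finset.range n, (f (2 * i) + f (2 * i + 1)) := by
  induction n with
  | zero => simp
  | succ n ih =>
    have : 2 * (n + 1) = 2 * n + 1 + 1 := by ring
    rw [this, Finset.sum_range_succ, Finset.sum_range_succ, ih, Finset.sum_range_succ]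
    ring

theorem T1_termA_even (u v θ : ℝ) (hu : 0 < u) (hv : 0 < v) (i : ℕ) :
    (altP u v (2 * i))⁻¹ * fhTrA u v θ (2 * i) ^ 2 = 4 * Real.cos (i * θ) ^ 2 := by
  have hr : Real.sqrt (u * v) ^ 2 = u * v := Real.sq_sqrt (by positivity)
  have hr0 : Real.sqrt (u * v) ≠ 0 := (Real.sqrt_pos.mpr (by positivity)).ne'
  rw [altP_two_mul, fhTrA_def, if_pos (even_two_mul i),
    Nat.mul_div_cancel_left i (by norm_num : 0 < 2)]
  generalize Real.sqrt (u * v) = r at hr hr0 ⊢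
  rw [← hr, ← pow_mul]
  field_simp
  ring

theorem T1_termB_even (u v θ : ℝ) (hu : 0 < u) (hv : 0 < v) (i : ℕ) :
    (altP v u (2 * i))⁻¹ * fhTrB u v θ (2 * i) ^ 2 = 4 * Real.cos (i * θ) ^ 2 := by
  have hr : Real.sqrt (u * v) ^ 2 = v * u := by
    rw [Real.sq_sqrt (by positivity)]
    ring
  have hr0 : Real.sqrt (u * v) ≠ 0 := (Real.sqrt_pos.mpr (by positivity)).ne'
  rw [altP_two_mul, fhTrB_def, if_pos (even_two_mul i),
    Nat.mul_div_cancel_left i (by norm_num : 0 < 2)]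
  generalize Real.sqrt (u * v) = r at hr hr0 ⊢
  rw [← hr, ← pow_mul]
  field_simp
  ring

theorem T1_odd_alg (u v r R s0 s1 S : ℝ) (hu : 0 < u) (hv : 0 < v) (hr : 0 < r) (hR : R ≠ 0)
    (hruv : r ^ 2 = u * v) (hS : S ≠ 0) :
    (R ^ 2 * u)⁻¹ * ((R * (u - 1) * s1 + R / r * (u * (v - 1)) * s0) / S) ^ 2 =
      ((u - 1) ^ 2 / u * s1 ^ 2 + 2 * ((u - 1) * (v - 1) / r) * (s0 * s1) +
        (v - 1) ^ 2 / v * s0 ^ 2) / S ^ 2 := by
  have hu' : u ≠ 0 := hu.ne'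
  have hr' : r ≠ 0 := hr.ne'
  obtain rfl : v = r ^ 2 / u := by
    field_simp
    linarith
  field_simp
  ring

theorem T1_termA_odd (u v θ : ℝ) (hu : 0 < u) (hv : 0 < v) (hS : Real.sin θ ≠ 0) (i : ℕ) :
    (altP u v (2 * i + 1))⁻¹ * fhTrA u v θ (2 * i + 1) ^ 2 =
      ((u - 1) ^ 2 / u * Real.sin (((i : ℝ) + 1) * θ) ^ 2 +
        2 * ((u - 1) * (v - 1) / Real.sqrt (u * v)) *
          (Real.sin (i * θ) * Real.sin (((i : ℝ) + 1) * θ)) +
        (v - 1) ^ 2 / v * Real.sin (i * θ) ^ 2) / Real.sin θ ^ 2 := by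
  have hr : Real.sqrt (u * v) ^ 2 = u * v := Real.sq_sqrt (by positivity)
  have hr0 : 0 < Real.sqrt (u * v) := Real.sqrt_pos.mpr (by positivity)
  have hdiv : (2 * i + 1) / 2 = i := by omega
  rw [altP_two_mul_add_one, fhTrA_def, if_neg (Nat.not_even_two_mul_add_one i), hdiv]
  have h1 : (u * v) ^ i = (Real.sqrt (u * v) ^ i) ^ 2 := by
    rw [← pow_mul, mul_comm i 2, pow_mul, hr]
  rw [h1]
  exact T1_odd_alg u v _ _ _ _ _ hu hv hr0 (pow_ne_zero _ hr0.ne') hr hS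

theorem T1_termB_odd (u v θ : ℝ) (hu : 0 < u) (hv : 0 < v) (hS : Real.sin θ ≠ 0) (i : ℕ) :
    (altP v u (2 * i + 1))⁻¹ * fhTrB u v θ (2 * i + 1) ^ 2 =
      ((v - 1) ^ 2 / v * Real.sin (((i : ℝ) + 1) * θ) ^ 2 +
        2 * ((v - 1) * (u - 1) / Real.sqrt (u * v)) *
          (Real.sin (i * θ) * Real.sin (((i : ℝ) + 1) * θ)) +
        (u - 1) ^ 2 / u * Real.sin (i * θ) ^ 2) / Real.sin θ ^ 2 := by
  have hr : Real.sqrt (u * v) ^ 2 = v * u := by
    rw [Real.sq_sqrt (by positivity)]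
    ring
  have hr0 : 0 < Real.sqrt (u * v) := Real.sqrt_pos.mpr (by positivity)
  have hdiv : (2 * i + 1) / 2 = i := by omega
  rw [altP_two_mul_add_one, fhTrB_def, if_neg (Nat.not_even_two_mul_add_one i), hdiv]
  have h1 : (v * u) ^ i = (Real.sqrt (u * v) ^ i) ^ 2 := by
    rw [← pow_mul, mul_comm i 2, pow_mul, hr]
  rw [h1]
  exact T1_odd_alg v u _ _ _ _ _ hv hu hr0 (pow_ne_zero _ hr0.ne') hr hS

theorem fh_trig_sum_even (m j : ℕ) (u v : ℝ) (hu : 0 < u) (hv : 0 < v) (hj : 0 < j)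
    (hjm : 2 * j < m) (hm : Even m) :
    ∑ k ∈ Finset.range (m + 1), (altP u v k)⁻¹ * fhTrA u v (fhθ m j) k ^ 2 +
      ∑ k ∈ Finset.Ico 1 m, (altP v u k)⁻¹ * fhTrB u v (fhθ m j) k ^ 2 = fhSigma m u v j := by
  obtain ⟨n, rfl⟩ := hm
  have hn2 : n + n = 2 * n := by ring
  rw [hn2] at hjm ⊢
  have hjn : j < n := by omega
  have hn0 : (n : ℝ) ≠ 0 := Nat.cast_ne_zero.mpr (by omega)
  have hnpos : (0 : ℝ) < n := Nat.cast_pos.mpr (by omega)
  have hjpos : (0 : ℝ) < j := Nat.cast_pos.mpr hj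
  rw [fhSigma_def]
  generalize hθdef : fhθ (2 * n) j = θ
  rw [fhθ_def] at hθdef
  push_cast at hθdef
  have hθ : (n : ℝ) * θ = j * Real.pi := by
    rw [← hθdef]
    field_simp
  have hθpos : 0 < θ := by
    rw [← hθdef]
    positivity
  have hθlt : θ < Real.pi := by
    have h1 : θ = Real.pi * (j / n) := by
      rw [← hθdef]
      field_simp
    have h2 : (j : ℝ) / n < 1 := by
      rw [div_lt_one hnpos]
      exact_mod_cast hjn
    rw [h1]
    nlinarith [Real.pi_pos]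
  have hS : Real.sin θ ≠ 0 := (Real.sin_pos_of_pos_of_lt_pi hθpos hθlt).ne'
  have hB0 : (altP v u 0)⁻¹ * fhTrB u v θ 0 ^ 2 = 4 := by
    have := T1_termB_even u v θ hu hv 0
    simpa using this
  have hcn : Real.cos ((n : ℝ) * θ) ^ 2 = 1 := by
    rw [hθ, Real.cos_nat_mul_pi, ← pow_mul, mul_comm, pow_mul]
    norm_num
  rw [Finset.sum_range_succ, T1_split, Finset.sum_Ico_eq_sub _ (by omega : 1 ≤ 2 * n), T1_split,
    Finset.sum_range_one, hB0, T1_termA_even u v θ hu hv n, hcn]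
  simp only [T1_termA_even u v θ hu hv, T1_termB_even u v θ hu hv, T1_termA_odd u v θ hu hv hS,
    T1_termB_odd u v θ hu hv hS]
  have hsum : ∀ i : ℕ,
      (4 * Real.cos (i * θ) ^ 2 +
        ((u - 1) ^ 2 / u * Real.sin (((i : ℝ) + 1) * θ) ^ 2 +
          2 * ((u - 1) * (v - 1) / Real.sqrt (u * v)) *
            (Real.sin (i * θ) * Real.sin (((i : ℝ) + 1) * θ)) +
          (v - 1) ^ 2 / v * Real.sin (i * θ) ^ 2) / Real.sin θ ^ 2) +
      (4 * Real.cos (i * θ) ^ 2 +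
        ((v - 1) ^ 2 / v * Real.sin (((i : ℝ) + 1) * θ) ^ 2 +
          2 * ((v - 1) * (u - 1) / Real.sqrt (u * v)) *
            (Real.sin (i * θ) * Real.sin (((i : ℝ) + 1) * θ)) +
          (u - 1) ^ 2 / u * Real.sin (i * θ) ^ 2) / Real.sin θ ^ 2) =
      (4 + ((u - 1) ^ 2 / u + (v - 1) ^ 2 / v +
          2 * ((u - 1) * (v - 1) / Real.sqrt (u * v)) * Real.cos θ) / Real.sin θ ^ 2) +
        (4 - ((u - 1) ^ 2 / u + (v - 1) ^ 2 / v) / (2 * Real.sin θ ^ 2)) *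
          Real.cos (2 * (i : ℝ) * θ + 0) +
        (-(2 * ((u - 1) * (v - 1) / Real.sqrt (u * v))) / Real.sin θ ^ 2) *
          Real.cos (2 * (i : ℝ) * θ + θ) +
        (-((u - 1) ^ 2 / u + (v - 1) ^ 2 / v) / (2 * Real.sin θ ^ 2)) *
          Real.cos (2 * (i : ℝ) * θ + 2 * θ) := by
    intro i
    have ea : 2 * ((i : ℝ) * θ) = 2 * (i : ℝ) * θ + 0 := by ring
    have eb : 2 * (((i : ℝ) + 1) * θ) = 2 * (i : ℝ) * θ + 2 * θ := by ring
    have hc : Real.cos (i * θ) ^ 2 = 1 / 2 + Real.cos (2 * (i : ℝ) * θ + 0) / 2 := by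
      rw [Real.cos_sq, ea]
    have hs0 : Real.sin (i * θ) ^ 2 = 1 / 2 - Real.cos (2 * (i : ℝ) * θ + 0) / 2 := by
      rw [Real.sin_sq_eq_half_sub, ea]
    have hs1 : Real.sin (((i : ℝ) + 1) * θ) ^ 2 =
        1 / 2 - Real.cos (2 * (i : ℝ) * θ + 2 * θ) / 2 := by
      rw [Real.sin_sq_eq_half_sub, eb]
    have hp : Real.sin (i * θ) * Real.sin (((i : ℝ) + 1) * θ) =
        (Real.cos θ - Real.cos (2 * (i : ℝ) * θ + θ)) / 2 := by
      have e1 : Real.cos θ = Real.cos (((i : ℝ) + 1) * θ - i * θ) := by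
        congr 1
        ring
      have e2 : 2 * (i : ℝ) * θ + θ = ((i : ℝ) + 1) * θ + i * θ := by ring
      rw [e1, e2, Real.cos_sub, Real.cos_add]
      ring
    rw [hc, hs0, hs1, hp]
    field_simp
    ring
  have hcomb : ∀ A B : ℝ, A + 4 * 1 + (B - 4) = A + B := by
    intro A B
    ring
  rw [hcomb, ← Finset.sum_add_distrib, Finset.sum_congr rfl (fun i _ => hsum i)]
  simp only [Finset.sum_add_distrib, ← Finset.mul_sum, T1_cos_sum n j θ hθ hS, Finset.sum_const,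
    Finset.card_range, nsmul_eq_mul]
  have hu' : u ≠ 0 := hu.ne'
  have hv' : v ≠ 0 := hv.ne'
  have hr' : Real.sqrt (u * v) ≠ 0 := (Real.sqrt_pos.mpr (by positivity)).ne'
  generalize Real.sqrt (u * v) = r at hr' ⊢
  generalize Real.sin θ = S at hS ⊢
  generalize Real.cos θ = C
  push_cast
  field_simp
  ring

end Cfsg.Agent.Lib.Helper5
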