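import Mathlib

/-!
# Auxiliary lemmas for the Glauberman correspondence (helper5)

* `comb_var`: for integers `a t`, `n * Σ a² - (Σ a)²` is `0` or at least `n - 1`;
* `four_inv`, `four_parseval`: finite Fourier analysis on `ZMod p`;
* `sum_modEq_fixed`: sums of invariant functions over a `p`-group action, modulo `p`;
* `resAut`: restriction of an action by automorphisms to an invariant subgroup.
-/

set_option autoImplicit false

namespace Cfsg.Agent.Lib.Helper5

open scoped ComplexConjugate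

/-- combinatorial lemma: `n * Σ a² − (Σ a)²` is `0` or at least `n − 1`. -/
theorem comb_var {ι : Type*} [Fintype ι] (a : ι → ℤ) :
    (Fintype.card ι : ℤ) * ∑ t, a t ^ 2 - (∑ t, a t) ^ 2 = 0 ∨
      (Fintype.card ι : ℤ) - 1 ≤ (Fintype.card ι : ℤ) * ∑ t, a t ^ 2 - (∑ t, a t) ^ 2 := by
  classical
  rcases isEmpty_or_nonempty ι with h | h
  · left; simp
  obtain ⟨t₀, -, ht₀⟩ := Finset.exists_min_image Finset.univ a Finset.univ_nonempty
  obtain ⟨m, hm⟩ : ∃ m, m = a t₀ := ⟨_, rfl⟩
  obtain ⟨b, hb⟩ : ∃ b : ι → ℤ, b = fun t => a t - m := ⟨_, rfl⟩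
  have hb0 : ∀ t, 0 ≤ b t := fun t => by
    have := ht₀ t (Finset.mem_univ t)
    rw [hb]; simp only; omega
  have hbt : b t₀ = 0 := by rw [hb]; simp [hm]
  obtain ⟨n, hn⟩ : ∃ n : ℤ, n = (Fintype.card ι : ℤ) := ⟨_, rfl⟩
  have hD : n * ∑ t, a t ^ 2 - (∑ t, a t) ^ 2 = n * ∑ t, b t ^ 2 - (∑ t, b t) ^ 2 := by
    have h1 : ∑ t, b t = ∑ t, a t - n * m := by
      rw [hb]
      simp only [Finset.sum_sub_distrib, Finset.sum_const, Finset.card_univ, nsmul_eq_mul, hn]
    have h2 : ∑ t, b t ^ 2 = ∑ t, a t ^ 2 - 2 * m * ∑ t, a t + n * m ^ 2 := by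
      rw [hb]
      have h3 : ∀ t, (a t - m) ^ 2 = a t ^ 2 - 2 * m * a t + m ^ 2 := fun t => by ring
      simp only [h3, Finset.sum_add_distrib, Finset.sum_sub_distrib, Finset.sum_const,
        Finset.card_univ, nsmul_eq_mul, hn, ← Finset.mul_sum]
    rw [h1, h2]; ring
  rw [← hn, hD]
  obtain ⟨s, hs⟩ : ∃ s : Finset ι, s = Finset.univ.filter (fun t => b t ≠ 0) := ⟨_, rfl⟩
  have hsum : ∑ t, b t = ∑ t ∈ s, b t := by
    rw [hs, Finset.sum_filter]
    apply Finset.sum_congr rfl
    intro t _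
    by_cases h : b t = 0 <;> simp [h]
  have hsum2 : ∑ t, b t ^ 2 = ∑ t ∈ s, b t ^ 2 := by
    rw [hs, Finset.sum_filter]
    apply Finset.sum_congr rfl
    intro t _
    by_cases h : b t = 0 <;> simp [h]
  have hCS : (∑ t ∈ s, b t) ^ 2 ≤ (s.card : ℤ) * ∑ t ∈ s, b t ^ 2 := sq_sum_le_card_mul_sum_sq
  have hge : (s.card : ℤ) ≤ ∑ t ∈ s, b t ^ 2 := by
    have h1 : (s.card : ℤ) = ∑ t ∈ s, (1 : ℤ) := by simp
    rw [h1]
    apply Finset.sum_le_sum
    intro t ht
    have h2 : b t ≠ 0 := by
      rw [hs] at ht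
      exact (Finset.mem_filter.mp ht).2
    have h0 := hb0 t
    have h3 : 1 ≤ b t := by omega
    nlinarith
  have hslt : (s.card : ℤ) ≤ n - 1 := by
    have h1 : s ⊆ Finset.univ.erase t₀ := by
      intro t ht
      rw [Finset.mem_erase]
      refine ⟨?_, Finset.mem_univ _⟩
      rintro rfl
      rw [hs] at ht
      exact (Finset.mem_filter.mp ht).2 hbt
    have h2 := Finset.card_le_card h1
    rw [Finset.card_erase_of_mem (Finset.mem_univ _), Finset.card_univ] at h2
    have h3 : 0 < Fintype.card ι := Fintype.card_pos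
    rw [hn]
    omega
  rw [hsum, hsum2]
  by_cases hs0 : s.card = 0
  · left
    have h1 : s = ∅ := Finset.card_eq_zero.mp hs0
    simp [h1]
  · right
    have hs1 : (1 : ℤ) ≤ s.card := by exact_mod_cast Nat.one_le_iff_ne_zero.mpr hs0
    nlinarith [mul_nonneg (sub_nonneg.mpr hge) (sub_nonneg.mpr (le_trans hslt (by linarith : n - 1 ≤ n))),
      mul_nonneg (sub_nonneg.mpr hs1) (sub_nonneg.mpr hslt)]

section Fourier

variable (p : ℕ) [hp : Fact p.Prime]

/-- the standard additive character of `ZMod p`, orthogonality in the first variable -/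
theorem stdChar_sum (b : ZMod p) :
    ∑ t : ZMod p, ZMod.stdAddChar (t * b) = if b = 0 then (p : ℂ) else 0 := by
  classical
  have : NeZero p := ⟨hp.out.ne_zero⟩
  have h := AddChar.sum_mulShift (R := ZMod p) (R' := ℂ) b (ZMod.isPrimitive_stdAddChar p)
  rw [h, ZMod.card]
  split_ifs <;> simp

/-- Fourier inversion on `ZMod p` -/
theorem four_inv (f : ZMod p → ℂ) (k : ZMod p) :
    f k = ∑ t : ZMod p, ((p : ℂ)⁻¹ * ∑ k' : ZMod p, ZMod.stdAddChar (-(t * k')) * f k') *
      ZMod.stdAddChar (t * k) := by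
  classical
  have : NeZero p := ⟨hp.out.ne_zero⟩
  have hp0 : (p : ℂ) ≠ 0 := by exact_mod_cast hp.out.ne_zero
  have h1 : ∀ t : ZMod p, ((p : ℂ)⁻¹ * ∑ k' : ZMod p, ZMod.stdAddChar (-(t * k')) * f k') *
      ZMod.stdAddChar (t * k) =
      ∑ k' : ZMod p, (p : ℂ)⁻¹ * f k' * ZMod.stdAddChar (t * (k - k')) := by
    intro t
    rw [Finset.mul_sum, Finset.sum_mul]
    apply Finset.sum_congr rfl
    intro k' _
    have h2 : t * (k - k') = -(t * k') + t * k := by ring
    rw [h2, AddChar.map_add_eq_mul]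
    ring
  rw [Finset.sum_congr rfl (fun t _ => h1 t), Finset.sum_comm]
  have h3 : ∀ k' : ZMod p, ∑ t : ZMod p, (p : ℂ)⁻¹ * f k' * ZMod.stdAddChar (t * (k - k')) =
      if k' = k then f k' else 0 := by
    intro k'
    rw [← Finset.mul_sum, stdChar_sum]
    by_cases h : k' = k
    · subst h
      simp only [sub_self, if_true]
      field_simp
    · have h4 : k - k' ≠ 0 := fun h5 => h (sub_eq_zero.mp h5).symm
      simp [h, h4]
  rw [Finset.sum_congr rfl (fun k' _ => h3 k')]
  simp

/-- Parseval on `ZMod p` -/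
theorem four_parseval (a : ZMod p → ℂ) :
    ∑ k : ZMod p, (∑ t : ZMod p, a t * ZMod.stdAddChar (t * k)) *
      conj (∑ t : ZMod p, a t * ZMod.stdAddChar (t * k)) =
      (p : ℂ) * ∑ t : ZMod p, a t * conj (a t) := by
  classical
  have : NeZero p := ⟨hp.out.ne_zero⟩
  have h1 : ∀ k : ZMod p, (∑ t : ZMod p, a t * ZMod.stdAddChar (t * k)) *
      conj (∑ t : ZMod p, a t * ZMod.stdAddChar (t * k)) =
      ∑ t : ZMod p, ∑ t' : ZMod p, a t * conj (a t') * ZMod.stdAddChar (k * (t - t')) := by
    intro k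
    rw [map_sum, Finset.sum_mul_sum]
    apply Finset.sum_congr rfl
    intro t _
    apply Finset.sum_congr rfl
    intro t' _
    have h2 : k * (t - t') = t * k + -(t' * k) := by ring
    rw [h2, AddChar.map_add_eq_mul, AddChar.map_neg_eq_conj, RingHom.map_mul]
    ring
  rw [Finset.sum_congr rfl (fun k _ => h1 k), Finset.sum_comm]
  rw [Finset.mul_sum]
  apply Finset.sum_congr rfl
  intro t _
  rw [Finset.sum_comm]
  have h3 : ∀ t' : ZMod p, ∑ k : ZMod p, a t * conj (a t') * ZMod.stdAddChar (k * (t - t')) =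
      if t' = t then (p : ℂ) * (a t * conj (a t)) else 0 := by
    intro t'
    rw [← Finset.mul_sum, stdChar_sum]
    by_cases h : t' = t
    · subst h
      simp only [sub_self, if_true]
      ring
    · have h4 : t - t' ≠ 0 := fun h5 => h (sub_eq_zero.mp h5).symm
      simp [h, h4]
  rw [Finset.sum_congr rfl (fun t' _ => h3 t')]
  simp

end Fourier

section OrbitSum

/-- sums of an invariant `ℕ`-valued function over a finite set acted on by a `p`-group:
modulo `p` only the fixed points matter. -/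
theorem sum_modEq_fixed {P X : Type*} [Group P] [MulAction P X] [Fintype X] (p : ℕ)
    [hp : Fact p.Prime] (hP : IsPGroup p P) (F : X → ℕ) (hF : ∀ (g : P) (x : X), F (g • x) = F x)
    (Q : X → Prop) [DecidablePred Q] (hQ : ∀ x, Q x ↔ ∀ g : P, g • x = x) :
    ∑ x, F x ≡ ∑ x, (if Q x then F x else 0) [MOD p] := by
  classical
  let Z := Σ x : X, Fin (F x)
  have hext : ∀ z w : Z, z.1 = w.1 → (z.2 : ℕ) = (w.2 : ℕ) → z = w := by
    rintro ⟨x, i⟩ ⟨y, j⟩ h1 h2
    simp only at h1 h2
    subst h1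
    congr 1
    exact Fin.ext h2
  let act : MulAction P Z :=
    { smul := fun g z => ⟨g • z.1, Fin.cast (hF g z.1).symm z.2⟩
      one_smul := fun z => hext _ _ (one_smul P z.1) rfl
      mul_smul := fun g h z => hext _ _ (mul_smul g h z.1) rfl }
  have h1 := hP.card_modEq_card_fixedPoints Z
  have h2 : Nat.card Z = ∑ x, F x := by
    rw [Nat.card_eq_fintype_card, Fintype.card_sigma]
    simp
  have hfix : ∀ z : Z, z ∈ MulAction.fixedPoints P Z ↔ Q z.1 := by
    intro z
    rw [MulAction.mem_fixedPoints, hQ]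
    constructor
    · intro h g
      have := congrArg Sigma.fst (h g)
      exact this
    · intro h g
      exact hext _ _ (h g) rfl
  have h3 : Nat.card (MulAction.fixedPoints P Z) = ∑ x, (if Q x then F x else 0) := by
    have e : MulAction.fixedPoints P Z ≃ {z : Z // Q z.1} :=
      Equiv.subtypeEquivRight hfix
    rw [Nat.card_congr e, Nat.card_eq_fintype_card, Fintype.card_subtype]
    rw [Finset.card_filter, Fintype.sum_sigma]
    apply Finset.sum_congr rfl
    intro x _
    by_cases h : Q x <;> simp [h]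
  rw [h2, h3] at h1
  exact h1

end OrbitSum

section ResAut

variable {S G : Type*} [Group S] [Group G]

/-- restriction of an action by automorphisms to an invariant subgroup -/
def resAut (φ : S →* MulAut G) (K : Subgroup G) (hK : ∀ (w : S), ∀ b ∈ K, φ w b ∈ K) :
    S →* MulAut K where
  toFun w :=
    { toFun := fun b => ⟨φ w b, hK w b b.2⟩
      invFun := fun b => ⟨φ w⁻¹ b, hK w⁻¹ b b.2⟩
      left_inv := fun b => by
        apply Subtype.ext
        simp
      right_inv := fun b => by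
        apply Subtype.ext
        simp
      map_mul' := fun a b => by
        apply Subtype.ext
        simp }
  map_one' := by
    ext b
    simp
  map_mul' := fun a b => by
    ext c
    simp

@[simp] theorem resAut_apply (φ : S →* MulAut G) (K : Subgroup G)
    (hK : ∀ (w : S), ∀ b ∈ K, φ w b ∈ K) (w : S) (b : K) :
    ((resAut φ K hK w b : K) : G) = φ w b := rfl

end ResAut

end Cfsg.Agent.Lib.Helper5
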