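import Mathlib
import Cfsg.Agent.Lib.Helper5.GlA

/-!
# Twisted conjugacy for a coprime automorphism group of prime order (helper5)

`Z` is a group of prime order `p` acting on a finite group `B` of order prime to `p` through
`φ : Z →* MulAut B`.  For `z ≠ 1` every element of `B` is of the form `g * c * (φ z g)⁻¹`
with `c` fixed (`tw_exists`), the elements `g` with `g * c * (φ z g)⁻¹` fixed are themselves
fixed (`tw_stab`), and sums of twisted class functions over `B` reduce to sums over the fixed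
points (`tw_sum`).  Fixed points conjugate in `B` are conjugate by fixed points (`tw_conj`).
-/

set_option autoImplicit false

namespace Cfsg.Agent.Lib.Helper5

open SemidirectProduct
open scoped Pointwise

section

variable {B : Type*} [Group B] [Fintype B] {Z : Type*} [CommGroup Z] [Fintype Z]
  (φ : Z →* MulAut B) (p : ℕ) [hp : Fact p.Prime]

theorem aut_pow_fix (f : MulAut B) (c : B) (h : f c = c) (m : ℕ) : (f ^ m) c = c := by
  induction m with
  | zero => simp
  | succ m ih => rw [pow_succ, MulAut.mul_apply, h, ih]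

/-- an element fixed by a nontrivial element of `Z` is fixed by all of `Z` -/
theorem fix_all (hZ : Fintype.card Z = p) (z : Z) (hz : z ≠ 1) (b : B) (h : φ z b = b) (w : Z) :
    φ w b = b := by
  have h1 : Subgroup.zpowers z = ⊤ :=
    zpowers_eq_top_of_prime_card (p := p) (by rw [Nat.card_eq_fintype_card, hZ]) hz
  have h2 : w ∈ Subgroup.zpowers z := by rw [h1]; trivial
  obtain ⟨i, rfl⟩ := Subgroup.mem_zpowers_iff.mp h2
  have h3 : ∀ n : ℕ, φ (z ^ n) b = b := fun n => by
    rw [map_pow]; exact aut_pow_fix _ _ h n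
  rcases Int.natAbs_eq i with hi | hi
  · rw [hi, zpow_natCast]; exact h3 _
  · rw [hi, zpow_neg, zpow_natCast, map_inv]
    rw [MulAut.inv_apply, MulEquiv.symm_apply_eq]
    exact (h3 _).symm

theorem sd_pow (c : B) (z : Z) (hc : φ z c = c) (m : ℕ) :
    ((⟨c, z⟩ : B ⋊[φ] Z)) ^ m = ⟨c ^ m, z ^ m⟩ := by
  induction m with
  | zero => rw [pow_zero, pow_zero, pow_zero]; rfl
  | succ m ih =>
    rw [pow_succ, ih]
    apply SemidirectProduct.ext
    · rw [SemidirectProduct.mul_left]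
      simp only
      rw [map_pow, aut_pow_fix _ _ hc, pow_succ]
    · rw [SemidirectProduct.mul_right]
      simp only
      rw [pow_succ]

/-- the exponent `m = |B|^(p-1)`: it is `1` mod `p` and a multiple of `|B|`. -/
theorem expo_modEq (hB : ¬ p ∣ Fintype.card B) :
    (Fintype.card B) ^ (p - 1) ≡ 1 [MOD p] := by
  have h1 : (Fintype.card B).Coprime p :=
    (Nat.Coprime.symm ((Nat.Prime.coprime_iff_not_dvd hp.out).mpr hB))
  have h2 := Nat.ModEq.pow_totient h1
  rwa [Nat.totient_prime hp.out] at h2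

theorem expo_dvd : Fintype.card B ∣ (Fintype.card B) ^ (p - 1) := by
  have h1 : 1 ≤ p - 1 := by have := hp.out.two_le; omega
  exact dvd_pow_self _ (by omega)

theorem pow_expo_B (c : B) : c ^ ((Fintype.card B) ^ (p - 1)) = 1 := by
  obtain ⟨k, hk⟩ := expo_dvd (B := B) p
  rw [hk, pow_mul, pow_card_eq_one, one_pow]

theorem pow_expo_Z (hZ : Fintype.card Z = p) (hB : ¬ p ∣ Fintype.card B) (z : Z) :
    z ^ ((Fintype.card B) ^ (p - 1)) = z := by
  have h1 : z ^ p = 1 := by rw [← hZ]; exact pow_card_eq_one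
  rw [pow_eq_pow_mod _ h1]
  have h2 : (Fintype.card B) ^ (p - 1) % p = 1 % p := expo_modEq p hB
  rw [h2, Nat.mod_eq_of_lt hp.out.one_lt, pow_one]

/-- stabilisers for twisted conjugacy: if `v * c * (φ z v)⁻¹ = c₀` with `c, c₀` fixed, then
`v` is fixed. -/
theorem tw_stab (hZ : Fintype.card Z = p) (hB : ¬ p ∣ Fintype.card B) (z : Z) (v c c₀ : B)
    (hc : φ z c = c) (hc₀ : φ z c₀ = c₀) (h : v * c * (φ z v)⁻¹ = c₀) : φ z v = v := by
  have h1 : (inl v : B ⋊[φ] Z) * ⟨c, z⟩ * (inl v)⁻¹ = ⟨c₀, z⟩ := by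
    apply SemidirectProduct.ext
    · simp only [SemidirectProduct.mul_left, SemidirectProduct.mul_right,
        SemidirectProduct.inv_left, left_inl, right_inl, map_one, MulAut.one_apply, one_mul,
        inv_one, map_inv]
      exact h
    · simp [SemidirectProduct.mul_right]
  have h2 : ((inl v : B ⋊[φ] Z) * ⟨c, z⟩ * (inl v)⁻¹) ^ ((Fintype.card B) ^ (p - 1)) =
      (⟨c₀, z⟩ : B ⋊[φ] Z) ^ ((Fintype.card B) ^ (p - 1)) := by rw [h1]
  rw [conj_pow, sd_pow φ c z hc, sd_pow φ c₀ z hc₀, pow_expo_B p, pow_expo_B p,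
    pow_expo_Z p hZ hB] at h2
  have h3 := congrArg SemidirectProduct.left h2
  simp only [SemidirectProduct.mul_left, SemidirectProduct.mul_right,
    SemidirectProduct.inv_left, left_inl, right_inl, map_one, MulAut.one_apply, one_mul,
    inv_one, map_inv, mul_one] at h3
  exact (mul_inv_eq_one.mp h3).symm

/-- every element is twisted conjugate to a fixed element -/
theorem tw_exists (hZ : Fintype.card Z = p) (hB : ¬ p ∣ Fintype.card B) (z : Z) (hz : z ≠ 1)
    (b : B) : ∃ g c : B, φ z c = c ∧ g * c * (φ z g)⁻¹ = b := by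
  classical
  have : Finite (B ⋊[φ] Z) := Finite.of_equiv (B × Z) SemidirectProduct.equivProd.symm
  obtain ⟨m, hm⟩ : ∃ m, m = (Fintype.card B) ^ (p - 1) := ⟨_, rfl⟩
  obtain ⟨x, hx⟩ : ∃ x : B ⋊[φ] Z, x = ⟨b, z⟩ := ⟨_, rfl⟩
  obtain ⟨y, hy⟩ : ∃ y : B ⋊[φ] Z, y = x ^ m := ⟨_, rfl⟩
  obtain ⟨s, hs⟩ : ∃ s : B ⋊[φ] Z, s = inr z := ⟨_, rfl⟩
  have hcard : Nat.card (B ⋊[φ] Z) = Fintype.card B * p := by
    rw [SemidirectProduct.card, Nat.card_eq_fintype_card, Nat.card_eq_fintype_card, hZ]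
  have hyr : y.right = z := by
    have h1 : (rightHom : B ⋊[φ] Z →* Z) (x ^ m) = (rightHom x) ^ m := map_pow _ _ _
    rw [hy]
    change (rightHom : B ⋊[φ] Z →* Z) (x ^ m) = z
    rw [h1, hm]
    have h2 : (rightHom : B ⋊[φ] Z →* Z) x = z := by rw [hx]; rfl
    rw [h2, pow_expo_Z p hZ hB]
  have hyp : y ^ p = 1 := by
    rw [hy, ← pow_mul]
    obtain ⟨k, hk⟩ := expo_dvd (B := B) p
    have h1 : m * p = Nat.card (B ⋊[φ] Z) * k := by rw [hcard, hm, hk]; ring
    rw [h1, pow_mul, pow_card_eq_one', one_pow]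
  have hy1 : y ≠ 1 := by
    intro h
    rw [h] at hyr
    exact hz hyr.symm
  have hsp : s ^ p = 1 := by
    rw [hs, ← map_pow, ← hZ, pow_card_eq_one, map_one]
  have hs1 : s ≠ 1 := by
    intro h
    rw [hs] at h
    have := congrArg SemidirectProduct.right h
    exact hz this
  have hfact : (Nat.card (B ⋊[φ] Z)).factorization p = 1 := by
    rw [hcard, Nat.factorization_mul Fintype.card_ne_zero hp.out.ne_zero]
    simp [Nat.factorization_eq_zero_of_not_dvd hB, hp.out.factorization_self]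
  have hcy : Nat.card (Subgroup.zpowers y) = p ^ (Nat.card (B ⋊[φ] Z)).factorization p := by
    rw [hfact, pow_one, Nat.card_zpowers, orderOf_eq_prime hyp hy1]
  have hcs : Nat.card (Subgroup.zpowers s) = p ^ (Nat.card (B ⋊[φ] Z)).factorization p := by
    rw [hfact, pow_one, Nat.card_zpowers, orderOf_eq_prime hsp hs1]
  obtain ⟨γ, hγ⟩ := MulAction.exists_smul_eq (B ⋊[φ] Z) (Sylow.ofCard _ hcy) (Sylow.ofCard _ hcs)
  have h1 : γ * y * γ⁻¹ ∈ Subgroup.zpowers s := by
    have h2 : γ * y * γ⁻¹ ∈ ((γ • Sylow.ofCard _ hcy : Sylow p (B ⋊[φ] Z)) : Subgroup (B ⋊[φ] Z)) := by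
      rw [Sylow.coe_subgroup_smul]
      have h3 : MulAut.conj γ • y ∈ MulAut.conj γ • (Subgroup.zpowers y) :=
        Subgroup.smul_mem_pointwise_smul _ _ _ (Subgroup.mem_zpowers y)
      exact h3
    rw [hγ] at h2
    exact h2
  obtain ⟨i, hi⟩ := Subgroup.mem_zpowers_iff.mp h1
  have h4 : γ * y * γ⁻¹ = s := by
    have h5 := congrArg SemidirectProduct.right hi
    have h6 : (s ^ i).right = z ^ i := by
      change (rightHom : B ⋊[φ] Z →* Z) (s ^ i) = z ^ i
      rw [map_zpow, hs]; rfl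
    have h7 : (γ * y * γ⁻¹).right = z := by
      simp [SemidirectProduct.mul_right, hyr]
    rw [h6, h7] at h5
    rw [← hi, hs, ← map_zpow, h5]
  have h8 : (γ * x * γ⁻¹) * s = s * (γ * x * γ⁻¹) := by
    rw [← h4, hy]
    group
  have h9 := congrArg SemidirectProduct.left h8
  rw [hx, hs] at h9
  simp only [SemidirectProduct.mul_left, SemidirectProduct.mul_right,
    SemidirectProduct.inv_left, SemidirectProduct.inv_right, left_inr, right_inr, map_one,
    one_mul, mul_one] at h9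
  -- h9 : fixed point statement for the left component of γ x γ⁻¹
  obtain ⟨a, w⟩ := γ
  simp only at h9
  have hcomm : ∀ u : B, φ (w * z) (φ w⁻¹ u) = φ z u := by
    intro u
    rw [← MulAut.mul_apply, ← map_mul]
    congr 2
    rw [mul_comm w z, mul_assoc, mul_inv_cancel, mul_one]
  rw [hcomm] at h9
  refine ⟨φ w⁻¹ a⁻¹, φ w⁻¹ (a * φ w b * φ z a⁻¹), ?_, ?_⟩
  · have h10 : φ z (φ w⁻¹ (a * φ w b * φ z a⁻¹)) = φ w⁻¹ (φ z (a * φ w b * φ z a⁻¹)) := by
      rw [← MulAut.mul_apply, ← MulAut.mul_apply, ← map_mul, ← map_mul, mul_comm]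
    rw [h10]
    congr 1
    exact h9.symm
  · have h11 : φ z (φ w⁻¹ a⁻¹) = φ w⁻¹ (φ z a⁻¹) := by
      rw [← MulAut.mul_apply, ← MulAut.mul_apply, ← map_mul, ← map_mul, mul_comm]
    rw [h11]
    simp only [map_mul, map_inv, MulAut.inv_apply, MulEquiv.symm_apply_apply, inv_inv]
    group

end

section

variable {B : Type*} [Group B] [Fintype B] {Z : Type*} [CommGroup Z] [Fintype Z]
  (φ : Z →* MulAut B) (p : ℕ) [hp : Fact p.Prime] {C : Type*} [Group C] [Fintype C]
  (j : C →* B)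

/-- sums of twisted class functions reduce to the fixed points -/
theorem tw_sum (hZ : Fintype.card Z = p) (hB : ¬ p ∣ Fintype.card B) (z : Z) (hz : z ≠ 1)
    (hj : Function.Injective j) (hC : ∀ b : B, b ∈ j.range ↔ φ z b = b)
    (f : B → ℂ) (hf : ∀ g b : B, f (g * b * (φ z g)⁻¹) = f b) :
    (Fintype.card C : ℂ) * ∑ b, f b = (Fintype.card B : ℂ) * ∑ c : C, f (j c) := by
  classical
  have hfix : ∀ c : C, φ z (j c) = j c := fun c => (hC (j c)).mp ⟨c, rfl⟩
  obtain ⟨Θ, hΘ⟩ : ∃ Θ : B × C → B, Θ = fun q => q.1 * j q.2 * (φ z q.1)⁻¹ := ⟨_, rfl⟩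
  have h1 : ∑ q : B × C, f (Θ q) = (Fintype.card B : ℂ) * ∑ c : C, f (j c) := by
    rw [Fintype.sum_prod_type]
    have h2 : ∀ g : B, ∑ c : C, f (Θ (g, c)) = ∑ c : C, f (j c) := by
      intro g
      apply Finset.sum_congr rfl
      intro c _
      rw [hΘ]
      exact hf g (j c)
    rw [Finset.sum_congr rfl (fun g _ => h2 g), Finset.sum_const, Finset.card_univ, nsmul_eq_mul]
  have h3 : ∑ q : B × C, f (Θ q) = (Fintype.card C : ℂ) * ∑ b, f b := by
    rw [← Finset.sum_fiberwise Finset.univ Θ (fun q => f (Θ q)), Finset.mul_sum]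
    apply Finset.sum_congr rfl
    intro b _
    have h4 : ∑ q ∈ Finset.univ.filter (fun q => Θ q = b), f (Θ q) =
        ∑ q ∈ Finset.univ.filter (fun q => Θ q = b), f b := by
      apply Finset.sum_congr rfl
      intro q hq
      rw [(Finset.mem_filter.mp hq).2]
    rw [h4, Finset.sum_const, nsmul_eq_mul]
    congr 2
    -- the fibre has `|C|` elements
    obtain ⟨g₀, c₀', hc₀', hb⟩ := tw_exists φ p hZ hB z hz b
    obtain ⟨c₀, rfl⟩ := (hC c₀').mpr hc₀'
    rw [← Finset.card_univ (α := C)]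
    symm
    apply Finset.card_bij (fun (u : C) _ => ((g₀ * j u, u⁻¹ * c₀ * u) : B × C))
    · intro u _
      rw [Finset.mem_filter]
      refine ⟨Finset.mem_univ _, ?_⟩
      rw [hΘ, ← hb]
      simp only [map_mul, map_inv, hfix]
      group
    · intro u _ u' _ h
      have h5 := congrArg Prod.fst h
      simp only at h5
      exact hj (mul_left_cancel h5)
    · intro q hq
      obtain ⟨g, c⟩ := q
      have h5 : g * j c * (φ z g)⁻¹ = b := by
        have := (Finset.mem_filter.mp hq).2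
        rw [hΘ] at this
        exact this
      have h6 : (g₀⁻¹ * g) * j c * (φ z (g₀⁻¹ * g))⁻¹ = j c₀ := by
        have h7 : g * j c * (φ z g)⁻¹ = g₀ * j c₀ * (φ z g₀)⁻¹ := by rw [h5, hb]
        have h8 : (g₀⁻¹ * g) * j c * (φ z (g₀⁻¹ * g))⁻¹ =
            g₀⁻¹ * (g * j c * (φ z g)⁻¹) * (φ z g₀) := by
          simp only [map_mul, map_inv]
          group
        rw [h8, h7]
        group
      have h9 := tw_stab φ p hZ hB z (g₀⁻¹ * g) (j c) (j c₀) (hfix c) (hfix c₀) h6
      obtain ⟨u, hu⟩ := (hC _).mpr h9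
      refine ⟨u, Finset.mem_univ _, ?_⟩
      have h10 : j u * j c * (j u)⁻¹ = j c₀ := by
        rw [hu]
        rw [h9] at h6
        exact h6
      have h11 : u * c * u⁻¹ = c₀ := by
        apply hj
        simp only [map_mul, map_inv]
        exact h10
      apply Prod.ext
      · simp only
        rw [hu]
        group
      · simp only
        rw [← h11]
        group
  rw [← h1, h3]

/-- fixed points which are conjugate in `B` are conjugate by a fixed point -/
theorem tw_conj (hZ : Fintype.card Z = p) (hB : ¬ p ∣ Fintype.card B) (z : Z) (hz : z ≠ 1)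
    (hj : Function.Injective j) (hC : ∀ b : B, b ∈ j.range ↔ φ z b = b)
    (c c' : C) (h : IsConj (j c) (j c')) : IsConj c c' := by
  classical
  have hfix : ∀ c : C, φ z (j c) = j c := fun c => (hC (j c)).mp ⟨c, rfl⟩
  obtain ⟨g, hg⟩ := isConj_iff.mp h
  obtain ⟨K, hKdef⟩ : ∃ K : Subgroup B, K = Subgroup.centralizer {j c} := ⟨_, rfl⟩
  have hKmem : ∀ x : B, x ∈ K ↔ j c * x = x * j c := by
    intro x
    rw [hKdef, Subgroup.mem_centralizer_iff]
    simp
  have hK : ∀ (w : Z), ∀ x ∈ K, φ w x ∈ K := by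
    intro w x hx
    rw [hKmem] at hx ⊢
    have h1 : φ w (j c) = j c := fix_all φ p hZ z hz (j c) (hfix c) w
    have h2 := congrArg (φ w) hx
    rw [map_mul, map_mul, h1] at h2
    exact h2
  have hb : g⁻¹ * φ z g ∈ K := by
    rw [hKmem]
    have h1 := congrArg (φ z) hg
    rw [map_mul, map_mul, map_inv, hfix, hfix, ← hg] at h1
    -- h1 : φ z g * j c * (φ z g)⁻¹ = g * j c * g⁻¹
    have h2 : j c * (g⁻¹ * φ z g) = g⁻¹ * (g * j c * g⁻¹) * φ z g := by group
    rw [h2, ← h1]
    group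
  let _ : Fintype K := Fintype.ofFinite _
  have hKp : ¬ p ∣ Fintype.card K := by
    intro h1
    apply hB
    have h2 := Subgroup.card_subgroup_dvd_card K
    rw [Nat.card_eq_fintype_card, Nat.card_eq_fintype_card] at h2
    exact dvd_trans h1 h2
  obtain ⟨u, c₁, hc₁, hu⟩ := tw_exists (resAut φ K hK) p hZ hKp z hz ⟨g⁻¹ * φ z g, hb⟩
  have hc₁' : φ z (c₁ : B) = c₁ := by
    have := congrArg Subtype.val hc₁
    simpa using this
  have hu' : (u : B) * c₁ * (φ z u)⁻¹ = g⁻¹ * φ z g := by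
    have := congrArg Subtype.val hu
    simpa using this
  have hv : (g * u) * c₁ * (φ z (g * u))⁻¹ = 1 := by
    have h1 : (g * u) * c₁ * (φ z (g * u))⁻¹ = g * ((u : B) * c₁ * (φ z u)⁻¹) * (φ z g)⁻¹ := by
      simp only [map_mul]
      group
    rw [h1, hu']
    group
  have hfixv := tw_stab φ p hZ hB z (g * u) c₁ 1 hc₁' (map_one _) hv
  obtain ⟨w, hw⟩ := (hC _).mpr hfixv
  rw [isConj_iff]
  refine ⟨w, ?_⟩
  apply hj
  rw [map_mul, map_mul, map_inv, hw, ← hg]
  have h3 : j c * (u : B) = u * j c := (hKmem u).mp u.2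
  have h4 : (u : B) * j c * (u : B)⁻¹ = j c := by rw [← h3]; group
  calc g * ↑u * j c * (g * ↑u)⁻¹ = g * ((u : B) * j c * (u : B)⁻¹) * g⁻¹ := by group
    _ = g * j c * g⁻¹ := by rw [h4]

end

end Cfsg.Agent.Lib.Helper5
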