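import Mathlib
import Cfsg.Agent.Lib.Helper5.GlTw
import Cfsg.Agent.Lib.Helper5.BrauerPerm
import Cfsg.Agent.S0868
import Cfsg.Agent.Lib.Helper20.ExtPrime
import Cfsg.Agent.Lib.Helper20.CliffordRel
import Cfsg.Agent.Lib.Helper83.Ortho

/-!
# The Glauberman correspondence for an automorphism of prime order (helper5)

`B` is a finite group of order prime to `p`, `α` an automorphism with `α ^ p = 1`, and
`j : C →* B` an injective homomorphism whose range is the fixed-point subgroup of `α`.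
For every `α`-invariant irreducible character `χ` of `B` there is exactly one irreducible
character `β` of `C` whose multiplicity in `χ ∘ j` is prime to `p` (`step_ex`); this multiplicity
is `±1` mod `p`; and `χ ↦ β` is a bijection (`step_inj`, `step_surj`).
-/

set_option autoImplicit false

namespace Cfsg.Agent.Lib.Helper5

open scoped ComplexConjugate
open Cfsg Cfsg.Agent.Lib SemidirectProduct

/-- a `Fintype` structure on a semidirect product (used as a local instance) -/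
@[reducible] noncomputable def sdFintype {N G : Type*} [Group N] [Group G] [Fintype N] [Fintype G]
    (φ : G →* MulAut N) : Fintype (N ⋊[φ] G) :=
  Fintype.ofEquiv (N × G) SemidirectProduct.equivProd.symm

attribute [local instance] sdFintype

section AutHom

variable {B : Type*} [Group B] [Fintype B] (p : ℕ) [hp : Fact p.Prime] (α : MulAut B)
  (hα : α ^ p = 1)

/-- the action of the cyclic group of order `p` defined by an automorphism with `α ^ p = 1` -/
def autHom : Multiplicative (ZMod p) →* MulAut B :=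
  MonoidHom.mk' (fun z => α ^ (Multiplicative.toAdd z).val) (by
    intro a b
    change α ^ (Multiplicative.toAdd (a * b)).val = _
    rw [toAdd_mul, ZMod.val_add, ← pow_eq_pow_mod _ hα, pow_add])

theorem autHom_apply (z : Multiplicative (ZMod p)) :
    autHom p α hα z = α ^ (Multiplicative.toAdd z).val := rfl

theorem autHom_gen : autHom p α hα (Multiplicative.ofAdd 1) = α := by
  rw [autHom_apply, toAdd_ofAdd, ZMod.val_one, pow_one]

theorem autHom_fix (z : Multiplicative (ZMod p)) (b : B) (h : α b = b) :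
    autHom p α hα z b = b := by
  rw [autHom_apply]; exact aut_pow_fix α b h _

theorem autHom_fix_iff (z : Multiplicative (ZMod p)) (hz : z ≠ 1) (b : B) :
    autHom p α hα z b = b ↔ α b = b := by
  constructor
  · intro h
    have h1 := fix_all (autHom p α hα) p (by simp) z hz b h (Multiplicative.ofAdd 1)
    rwa [autHom_gen] at h1
  · exact autHom_fix p α hα z b

theorem autHom_inv_char (χ : B → ℂ) (hinv : ∀ b, χ (α b) = χ b) (z : Multiplicative (ZMod p))
    (b : B) : χ (autHom p α hα z b) = χ b := by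
  rw [autHom_apply]
  generalize (Multiplicative.toAdd z).val = n
  induction n generalizing b with
  | zero => simp
  | succ n ih => rw [pow_succ, MulAut.mul_apply, ih, hinv]

end AutHom

section Ext

variable {B : Type*} [Group B] [Fintype B] (p : ℕ) [hp : Fact p.Prime] (α : MulAut B)
  (hα : α ^ p = 1)

/-- conjugation by `inl g` in the semidirect product -/
theorem sd_conj_inl {Z : Type*} [Group Z] (φ : Z →* MulAut B) (g b : B) (z : Z) :
    (inl g : B ⋊[φ] Z) * ⟨b, z⟩ * (inl g)⁻¹ = ⟨g * b * (φ z g)⁻¹, z⟩ := by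
  apply SemidirectProduct.ext
  · simp [SemidirectProduct.mul_left, SemidirectProduct.mul_right, SemidirectProduct.inv_left]
  · simp [SemidirectProduct.mul_right]

/-- the kernel of the projection onto `ZMod p`, in bijection with `B` -/
noncomputable def kerEquiv {Z : Type*} [Group Z] (φ : Z →* MulAut B) :
    (rightHom : B ⋊[φ] Z →* Z).ker ≃* B where
  toFun n := n.1.left
  invFun b := ⟨inl b, by simp [MonoidHom.mem_ker]⟩
  left_inv n := by
    apply Subtype.ext
    apply SemidirectProduct.ext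
    · rfl
    · exact (MonoidHom.mem_ker.mp n.2).symm
  right_inv b := rfl
  map_mul' a b := by
    have ha : a.1.right = 1 := MonoidHom.mem_ker.mp a.2
    change (a.1 * b.1).left = a.1.left * b.1.left
    rw [SemidirectProduct.mul_left, ha, map_one, MulAut.one_apply]

theorem kerEquiv_apply {Z : Type*} [Group Z] (φ : Z →* MulAut B)
    (n : (rightHom : B ⋊[φ] Z →* Z).ker) : kerEquiv φ n = n.1.left := rfl

theorem kerEquiv_symm_apply {Z : Type*} [Group Z] (φ : Z →* MulAut B) (b : B) :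
    (((kerEquiv φ).symm b : (rightHom : B ⋊[φ] Z →* Z).ker) : B ⋊[φ] Z) = inl b := rfl

theorem ker_mul_inr {Z : Type*} [Group Z] (φ : Z →* MulAut B)
    (n : (rightHom : B ⋊[φ] Z →* Z).ker) (z : Z) :
    (n : B ⋊[φ] Z) * inr z = ⟨n.1.left, z⟩ := by
  have hn : n.1.right = 1 := MonoidHom.mem_ker.mp n.2
  apply SemidirectProduct.ext
  · simp [SemidirectProduct.mul_left]
  · simp [SemidirectProduct.mul_right, hn]

/-- an invariant irreducible character of `B` extends to the semidirect product -/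
theorem ext_exists (χ : B → ℂ) (hχ : IsIrrCharacter B χ) (hinv : ∀ b, χ (α b) = χ b) :
    ∃ ψ : B ⋊[autHom p α hα] Multiplicative (ZMod p) → ℂ,
      IsIrrCharacter (B ⋊[autHom p α hα] Multiplicative (ZMod p)) ψ ∧ ∀ b : B, ψ ⟨b, 1⟩ = χ b := by
  classical
  obtain ⟨N, hN⟩ : ∃ N : Subgroup (B ⋊[autHom p α hα] Multiplicative (ZMod p)),
      N = (rightHom : B ⋊[autHom p α hα] Multiplicative (ZMod p) →* _).ker := ⟨_, rfl⟩
  subst hN
  have hidx : (rightHom : B ⋊[autHom p α hα] Multiplicative (ZMod p) →* _).ker.index = p := by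
    rw [Subgroup.index_ker, MonoidHom.range_eq_top.mpr rightHom_surjective, Subgroup.card_top,
      Nat.card_eq_fintype_card]
    simp
  have hcomm : commutator (B ⋊[autHom p α hα] Multiplicative (ZMod p)) ≤
      (rightHom : B ⋊[autHom p α hα] Multiplicative (ZMod p) →* _).ker :=
    Abelianization.commutator_subset_ker _
  have hη : IsIrrCharacter (rightHom : B ⋊[autHom p α hα] Multiplicative (ZMod p) →* _).ker
      (fun n => χ (kerEquiv (autHom p α hα) n)) :=
    Helper20.irr_comp_surjective (kerEquiv (autHom p α hα)).toMonoidHom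
      (kerEquiv (autHom p α hα)).surjective hχ
  obtain ⟨ψ, hψ, hψN⟩ := Helper20.extends_of_prime_index
    (rightHom : B ⋊[autHom p α hα] Multiplicative (ZMod p) →* _).ker p hp.out hidx hcomm
    (fun n => χ (kerEquiv (autHom p α hα) n)) hη (by
      intro g m
      have hm : m.1.right = 1 := MonoidHom.mem_ker.mp m.2
      simp only [kerEquiv_apply]
      have h1 : (g * (m : B ⋊[autHom p α hα] Multiplicative (ZMod p)) * g⁻¹).left =
          g.left * autHom p α hα g.right m.1.left * g.left⁻¹ := by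
        simp [SemidirectProduct.mul_left, SemidirectProduct.mul_right,
          SemidirectProduct.inv_left, hm]
      rw [h1, Helper83.irr_classFunction hχ, autHom_inv_char p α hα χ hinv])
  refine ⟨ψ, hψ, fun b => ?_⟩
  have h2 := hψN ((kerEquiv (autHom p α hα)).symm b)
  simp only [MulEquiv.apply_symm_apply] at h2
  rw [← h2]
  rfl

end Ext

section Coset

variable {B : Type*} [Group B] [Fintype B] {Z : Type*} [Group Z] [Fintype Z] (φ : Z →* MulAut B)

theorem ker_res_irr (ψ : B ⋊[φ] Z → ℂ) (χ : B → ℂ)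
    (hres : ∀ b, ψ ⟨b, 1⟩ = χ b) :
    (fun n : (rightHom : B ⋊[φ] Z →* Z).ker => ψ n) = fun n => χ (kerEquiv φ n) := by
  funext n
  rw [kerEquiv_apply, ← hres]
  congr 1
  apply SemidirectProduct.ext
  · rfl
  · exact MonoidHom.mem_ker.mp n.2

/-- the coset sums of `|ψ|²` for an irreducible character restricting irreducibly to `B` -/
theorem coset_norm (ψ : B ⋊[φ] Z → ℂ) (hψ : IsIrrCharacter (B ⋊[φ] Z) ψ) (χ : B → ℂ)
    (hχ : IsIrrCharacter B χ) (hres : ∀ b, ψ ⟨b, 1⟩ = χ b) (z : Z) :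
    ∑ b : B, ψ ⟨b, z⟩ * conj (ψ ⟨b, z⟩) = Fintype.card B := by
  classical
  let _ : Fintype (rightHom : B ⋊[φ] Z →* Z).ker := Fintype.ofFinite _
  have hψN : IsIrrCharacter (rightHom : B ⋊[φ] Z →* Z).ker
      (fun n : (rightHom : B ⋊[φ] Z →* Z).ker => ψ n) := by
    rw [ker_res_irr φ ψ χ hres]
    exact Helper20.irr_comp_surjective (kerEquiv φ).toMonoidHom (kerEquiv φ).surjective hχ
  have h := (Cfsg.Agent.S0868.result (rightHom : B ⋊[φ] Z →* Z).ker ψ hψ hψN ψ hψ _ rfl).2.2 rfl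
  have h1 := congrFun h (inr z)
  have h2 : ∑ n : (rightHom : B ⋊[φ] Z →* Z).ker,
      ψ ((n : B ⋊[φ] Z) * inr z) * conj (ψ ((n : B ⋊[φ] Z) * inr z)) =
      ∑ b : B, ψ ⟨b, z⟩ * conj (ψ ⟨b, z⟩) := by
    apply Fintype.sum_equiv (kerEquiv φ).toEquiv
    intro n
    rw [ker_mul_inr]
    rfl
  have hcard : Nat.card (rightHom : B ⋊[φ] Z →* Z).ker = Fintype.card B := by
    rw [Nat.card_congr (kerEquiv φ).toEquiv, Nat.card_eq_fintype_card]
  rw [h2, hcard] at h1
  have hB0 : (Fintype.card B : ℂ) ≠ 0 := by exact_mod_cast Fintype.card_ne_zero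
  field_simp at h1
  exact h1

/-- coset orthogonality for extensions of distinct irreducible characters -/
theorem coset_orth (ψ ψ' : B ⋊[φ] Z → ℂ) (hψ : IsIrrCharacter (B ⋊[φ] Z) ψ)
    (hψ' : IsIrrCharacter (B ⋊[φ] Z) ψ') (χ χ' : B → ℂ)
    (hχ : IsIrrCharacter B χ) (hχ' : IsIrrCharacter B χ') (hres : ∀ b, ψ ⟨b, 1⟩ = χ b)
    (hres' : ∀ b, ψ' ⟨b, 1⟩ = χ' b) (hne : χ ≠ χ') (z : Z) :
    ∑ b : B, ψ ⟨b, z⟩ * conj (ψ' ⟨b, z⟩) = 0 := by
  classical
  let _ : Fintype (rightHom : B ⋊[φ] Z →* Z).ker := Fintype.ofFinite _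
  have hψN' : IsIrrCharacter (rightHom : B ⋊[φ] Z →* Z).ker
      (fun n : (rightHom : B ⋊[φ] Z →* Z).ker => ψ' n) := by
    rw [ker_res_irr φ ψ' χ' hres']
    exact Helper20.irr_comp_surjective (kerEquiv φ).toMonoidHom (kerEquiv φ).surjective hχ'
  have h0 : classInner (fun n : (rightHom : B ⋊[φ] Z →* Z).ker => ψ n)
      (fun n : (rightHom : B ⋊[φ] Z →* Z).ker => ψ' n) = 0 := by
    rw [ker_res_irr φ ψ' χ' hres', ker_res_irr φ ψ χ hres,
      Helper20.classInner_comp_equiv (kerEquiv φ) χ χ', Helper35.classInner_irr' hχ hχ',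
      if_neg hne]
  have h := (Cfsg.Agent.S0868.result (rightHom : B ⋊[φ] Z →* Z).ker ψ' hψ' hψN' ψ hψ _ rfl).2.1 h0
  have h1 := congrFun h (inr z)
  simp only [Pi.zero_apply] at h1
  have h2 : ∑ n : (rightHom : B ⋊[φ] Z →* Z).ker,
      ψ ((n : B ⋊[φ] Z) * inr z) * conj (ψ' ((n : B ⋊[φ] Z) * inr z)) =
      ∑ b : B, ψ ⟨b, z⟩ * conj (ψ' ⟨b, z⟩) := by
    apply Fintype.sum_equiv (kerEquiv φ).toEquiv
    intro n
    rw [ker_mul_inr]
    rfl
  have hcard : Nat.card (rightHom : B ⋊[φ] Z →* Z).ker = Fintype.card B := by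
    rw [Nat.card_congr (kerEquiv φ).toEquiv, Nat.card_eq_fintype_card]
  rw [h2, hcard] at h1
  have hB0 : (Fintype.card B : ℂ) ≠ 0 := by exact_mod_cast Fintype.card_ne_zero
  rcases mul_eq_zero.mp h1 with h3 | h3
  · exact absurd (inv_eq_zero.mp h3) hB0
  · exact h3

end Coset

section Fix

variable {B : Type*} [Group B] [Fintype B] (p : ℕ) [hp : Fact p.Prime] (α : MulAut B)
  (hα : α ^ p = 1) {C : Type*} [Group C] [Fintype C] (j : C →* B)

/-- the function `c ↦ ψ (j c, k)` on the fixed points -/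
def cosetFun (ψ : B ⋊[autHom p α hα] Multiplicative (ZMod p) → ℂ) (k : ZMod p) : C → ℂ :=
  fun c => ψ ⟨j c, Multiplicative.ofAdd k⟩

theorem cosetFun_apply (ψ : B ⋊[autHom p α hα] Multiplicative (ZMod p) → ℂ) (k : ZMod p) (c : C) :
    cosetFun p α hα j ψ k c = ψ ⟨j c, Multiplicative.ofAdd k⟩ := rfl

theorem fix_sum (hB : ¬ p ∣ Fintype.card B) (hj : Function.Injective j)
    (hC : ∀ b : B, b ∈ j.range ↔ α b = b)
    (ψ ψ' : B ⋊[autHom p α hα] Multiplicative (ZMod p) → ℂ)
    (hψ : IsIrrCharacter (B ⋊[autHom p α hα] Multiplicative (ZMod p)) ψ)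
    (hψ' : IsIrrCharacter (B ⋊[autHom p α hα] Multiplicative (ZMod p)) ψ')
    (z : Multiplicative (ZMod p)) (hz : z ≠ 1) :
    (Fintype.card C : ℂ) * ∑ b, ψ ⟨b, z⟩ * conj (ψ' ⟨b, z⟩) =
      (Fintype.card B : ℂ) * ∑ c : C, ψ ⟨j c, z⟩ * conj (ψ' ⟨j c, z⟩) :=
  tw_sum (autHom p α hα) p j (by simp) hB z hz hj
    (fun b => (hC b).trans (autHom_fix_iff p α hα z hz b).symm)
    (fun b => ψ ⟨b, z⟩ * conj (ψ' ⟨b, z⟩))
    (fun g b => by
      rw [← sd_conj_inl, Helper83.irr_classFunction hψ, Helper83.irr_classFunction hψ'])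

theorem fix_inner_self (hB : ¬ p ∣ Fintype.card B) (hj : Function.Injective j)
    (hC : ∀ b : B, b ∈ j.range ↔ α b = b)
    (ψ : B ⋊[autHom p α hα] Multiplicative (ZMod p) → ℂ)
    (hψ : IsIrrCharacter (B ⋊[autHom p α hα] Multiplicative (ZMod p)) ψ)
    (χ : B → ℂ) (hχ : IsIrrCharacter B χ) (hres : ∀ b, ψ ⟨b, 1⟩ = χ b)
    (k : ZMod p) (hk : k ≠ 0) :
    classInner (cosetFun p α hα j ψ k) (cosetFun p α hα j ψ k) = 1 := by
  have hz : Multiplicative.ofAdd k ≠ 1 := fun h => hk (ofAdd_eq_one.mp h)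
  have h1 := fix_sum p α hα j hB hj hC ψ ψ hψ hψ _ hz
  rw [coset_norm (autHom p α hα) ψ hψ χ hχ hres] at h1
  have hB0 : (Fintype.card B : ℂ) ≠ 0 := by exact_mod_cast Fintype.card_ne_zero
  have hC0 : (Fintype.card C : ℂ) ≠ 0 := by exact_mod_cast Fintype.card_ne_zero
  have h2 : ∑ c : C, ψ ⟨j c, Multiplicative.ofAdd k⟩ * conj (ψ ⟨j c, Multiplicative.ofAdd k⟩) =
      Fintype.card C := by
    have h3 : (Fintype.card B : ℂ) * (Fintype.card C : ℂ) = (Fintype.card B : ℂ) *
        ∑ c : C, ψ ⟨j c, Multiplicative.ofAdd k⟩ * conj (ψ ⟨j c, Multiplicative.ofAdd k⟩) := by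
      rw [← h1]; ring
    exact (mul_left_cancel₀ hB0 h3).symm
  unfold classInner
  simp only [cosetFun_apply]
  rw [h2, Nat.card_eq_fintype_card, inv_mul_cancel₀ hC0]

theorem fix_inner_orth (hB : ¬ p ∣ Fintype.card B) (hj : Function.Injective j)
    (hC : ∀ b : B, b ∈ j.range ↔ α b = b)
    (ψ ψ' : B ⋊[autHom p α hα] Multiplicative (ZMod p) → ℂ)
    (hψ : IsIrrCharacter (B ⋊[autHom p α hα] Multiplicative (ZMod p)) ψ)
    (hψ' : IsIrrCharacter (B ⋊[autHom p α hα] Multiplicative (ZMod p)) ψ')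
    (χ χ' : B → ℂ) (hχ : IsIrrCharacter B χ) (hχ' : IsIrrCharacter B χ')
    (hres : ∀ b, ψ ⟨b, 1⟩ = χ b) (hres' : ∀ b, ψ' ⟨b, 1⟩ = χ' b) (hne : χ ≠ χ')
    (k : ZMod p) (hk : k ≠ 0) :
    classInner (cosetFun p α hα j ψ k) (cosetFun p α hα j ψ' k) = 0 := by
  have hz : Multiplicative.ofAdd k ≠ 1 := fun h => hk (ofAdd_eq_one.mp h)
  have h1 := fix_sum p α hα j hB hj hC ψ ψ' hψ hψ' _ hz
  rw [coset_orth (autHom p α hα) ψ ψ' hψ hψ' χ χ' hχ hχ' hres hres' hne, mul_zero] at h1
  have hB0 : (Fintype.card B : ℂ) ≠ 0 := by exact_mod_cast Fintype.card_ne_zero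
  have h2 : ∑ c : C, ψ ⟨j c, Multiplicative.ofAdd k⟩ * conj (ψ' ⟨j c, Multiplicative.ofAdd k⟩) =
      0 := by
    rcases mul_eq_zero.mp h1.symm with h3 | h3
    · exact absurd h3 hB0
    · exact h3
  unfold classInner
  simp only [cosetFun_apply]
  rw [h2, mul_zero]

end Fix

section Mult

variable {B : Type*} [Group B] [Fintype B] (p : ℕ) [hp : Fact p.Prime] (α : MulAut B)
  (hα : α ^ p = 1) {C : Type*} [Group C] [Fintype C] (j : C →* B)

/-- the homomorphism `C × ZMod p → B ⋊ ZMod p` -/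
def prodHom (hfix : ∀ c : C, α (j c) = j c) :
    C × Multiplicative (ZMod p) →* B ⋊[autHom p α hα] Multiplicative (ZMod p) where
  toFun q := ⟨j q.1, q.2⟩
  map_one' := by
    apply SemidirectProduct.ext <;> simp
  map_mul' a b := by
    apply SemidirectProduct.ext
    · simp [SemidirectProduct.mul_left, autHom_fix p α hα _ _ (hfix b.1)]
    · rfl

theorem prodHom_apply (hfix : ∀ c : C, α (j c) = j c) (q : C × Multiplicative (ZMod p)) :
    prodHom p α hα j hfix q = ⟨j q.1, q.2⟩ := rfl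

/-- the linear character of `C × ZMod p` attached to `t` -/
noncomputable def linHomT (C : Type*) [Group C] (t : ZMod p) : C × Multiplicative (ZMod p) →* ℂˣ :=
  ((AddChar.toMonoidHom (AddChar.mulShift (ZMod.stdAddChar (N := p)) t)).toHomUnits).comp
    (MonoidHom.snd C (Multiplicative (ZMod p)))

theorem linHomT_apply (t : ZMod p) (q : C × Multiplicative (ZMod p)) :
    ((linHomT p C t q : ℂˣ) : ℂ) = ZMod.stdAddChar (t * Multiplicative.toAdd q.2) := by
  simp [linHomT]

theorem cosetFun_class (hfix : ∀ c : C, α (j c) = j c)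
    (ψ : B ⋊[autHom p α hα] Multiplicative (ZMod p) → ℂ)
    (hψ : IsIrrCharacter (B ⋊[autHom p α hα] Multiplicative (ZMod p)) ψ) (k : ZMod p) (c x : C) :
    cosetFun p α hα j ψ k (x * c * x⁻¹) = cosetFun p α hα j ψ k c := by
  rw [cosetFun_apply, cosetFun_apply]
  have h1 : (⟨j (x * c * x⁻¹), Multiplicative.ofAdd k⟩ :
      B ⋊[autHom p α hα] Multiplicative (ZMod p)) =
      inl (j x) * ⟨j c, Multiplicative.ofAdd k⟩ * (inl (j x))⁻¹ := by
    rw [sd_conj_inl, autHom_fix p α hα _ _ (hfix x)]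
    simp [map_mul]
  rw [h1, Helper83.irr_classFunction hψ]

/-- integrality of the Fourier coefficients of the coset functions -/
theorem mult_nat (hfix : ∀ c : C, α (j c) = j c)
    (ψ : B ⋊[autHom p α hα] Multiplicative (ZMod p) → ℂ)
    (hψ : IsIrrCharacter (B ⋊[autHom p α hα] Multiplicative (ZMod p)) ψ)
    (β : C → ℂ) (hβ : IsIrrCharacter C β) (t : ZMod p) :
    ∃ a : ℕ, (p : ℂ)⁻¹ * ∑ k : ZMod p, ZMod.stdAddChar (-(t * k)) *
      classInner (cosetFun p α hα j ψ k) β = a := by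
  classical
  have hl : IsIrrCharacter (C × Multiplicative (ZMod p))
      (fun q => ((linHomT p C t q : ℂˣ) : ℂ)) := Helper83.isIrr_of_hom _
  have hθ : IsIrrCharacter (C × Multiplicative (ZMod p)) (fun q => β q.1) :=
    Helper20.irr_comp_surjective (MonoidHom.fst C (Multiplicative (ZMod p))) Prod.fst_surjective hβ
  have hl1 : (fun q : C × Multiplicative (ZMod p) => ((linHomT p C t q : ℂˣ) : ℂ)) 1 = 1 := by
    simp
  have hirr := Helper20.irr_linear_mul_irr hl hl1 hθ
  have hchar : IsCharacter (C × Multiplicative (ZMod p))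
      (fun q => ψ (prodHom p α hα j hfix q)) :=
    Helper20.isCharacter_comp _ (Helper35.isChar_of_irr hψ)
  obtain ⟨a, ha⟩ := Helper35.classInner_char_nat hchar (Helper35.isChar_of_irr hirr)
  refine ⟨a, ?_⟩
  rw [← ha, classInner_def]
  have hcard : (Nat.card (C × Multiplicative (ZMod p)) : ℂ) = (Fintype.card C : ℂ) * p := by
    rw [Nat.card_prod, Nat.card_eq_fintype_card, Nat.card_eq_fintype_card]
    simp
  have hinner : ∀ k : ZMod p, ∑ c : C, ψ (prodHom p α hα j hfix (c, Multiplicative.ofAdd k)) *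
      conj (((fun q : C × Multiplicative (ZMod p) => ((linHomT p C t q : ℂˣ) : ℂ)) *
        fun q : C × Multiplicative (ZMod p) => β q.1) (c, Multiplicative.ofAdd k)) =
      ZMod.stdAddChar (-(t * k)) * ∑ c : C, cosetFun p α hα j ψ k c * conj (β c) := by
    intro k
    rw [Finset.mul_sum]
    apply Finset.sum_congr rfl
    intro c _
    simp only [Pi.mul_apply, prodHom_apply, cosetFun_apply, linHomT_apply, toAdd_ofAdd, map_mul]
    rw [← AddChar.map_neg_eq_conj]
    ring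
  rw [hcard, Fintype.sum_prod_type, Finset.sum_comm, ← Equiv.sum_comp Multiplicative.ofAdd]
  rw [Finset.sum_congr rfl (fun k _ => hinner k)]
  rw [Finset.mul_sum, Finset.mul_sum]
  apply Finset.sum_congr rfl
  intro k _
  rw [classInner_def, Nat.card_eq_fintype_card]
  have hC0 : (Fintype.card C : ℂ) ≠ 0 := by exact_mod_cast Fintype.card_ne_zero
  have hp0 : (p : ℂ) ≠ 0 := by exact_mod_cast hp.out.ne_zero
  field_simp

end Mult

/-- Parseval for class functions -/
theorem parseval_class {C : Type*} [Group C] [Fintype C] [Fintype (IrrCharacter C)]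
    (f g : C → ℂ) (hf : ∀ c x : C, f (x * c * x⁻¹) = f c) :
    classInner f g = ∑ β : IrrCharacter C,
      classInner f (β : C → ℂ) * conj (classInner g (β : C → ℂ)) := by
  have h := Helper83.class_fun_expansion f hf
  conv_lhs => rw [h]
  rw [Helper35.classInner_sum_left]
  apply Finset.sum_congr rfl
  intro β _
  rw [Helper35.classInner_smul_left, Helper4.classInner_conj_symm (β : C → ℂ) g]

theorem pm_not_dvd (p : ℕ) [hp : Fact p.Prime] (m : ℕ)
    (h : (m : ℤ) ≡ 1 [ZMOD p] ∨ (m : ℤ) ≡ -1 [ZMOD p]) : ¬ p ∣ m := by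
  intro hd
  have h0 : (m : ℤ) ≡ 0 [ZMOD p] :=
    (Int.modEq_zero_iff_dvd).mpr (Int.natCast_dvd_natCast.mpr hd)
  have h1 : (p : ℤ) ∣ 1 := by
    rcases h with h | h
    · have h2 := Int.modEq_iff_dvd.mp (h0.symm.trans h)
      simpa using h2
    · have h2 := Int.modEq_iff_dvd.mp (h0.symm.trans h)
      have h3 : (p : ℤ) ∣ -1 := by simpa using h2
      exact (dvd_neg.mp h3)
  have h4 : p ∣ 1 := by exact_mod_cast h1
  exact hp.out.one_lt.ne' (Nat.dvd_one.mp h4)

section One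

variable {B : Type*} [Group B] [Fintype B] (p : ℕ) [hp : Fact p.Prime] (α : MulAut B)
  (hα : α ^ p = 1) {C : Type*} [Group C] [Fintype C] (j : C →* B)

/-- the analysis of one invariant character through an extension `ψ` -/
theorem step_one [Fintype (IrrCharacter C)] (hB : ¬ p ∣ Fintype.card B)
    (hj : Function.Injective j) (hC : ∀ b : B, b ∈ j.range ↔ α b = b)
    (χ : B → ℂ) (hχ : IsIrrCharacter B χ)
    (ψ : B ⋊[autHom p α hα] Multiplicative (ZMod p) → ℂ)
    (hψ : IsIrrCharacter (B ⋊[autHom p α hα] Multiplicative (ZMod p)) ψ)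
    (hres : ∀ b, ψ ⟨b, 1⟩ = χ b) :
    ∃ β₀ : IrrCharacter C,
      (∀ β : IrrCharacter C, β ≠ β₀ → ∀ k : ZMod p, k ≠ 0 →
        classInner (cosetFun p α hα j ψ k) (β : C → ℂ) = 0) ∧
      (∀ k : ZMod p, k ≠ 0 → classInner (cosetFun p α hα j ψ k) (β₀ : C → ℂ) *
        conj (classInner (cosetFun p α hα j ψ k) (β₀ : C → ℂ)) = 1) ∧
      (∃ m : ℕ, classInner (fun c => χ (j c)) (β₀ : C → ℂ) = m ∧
        ((m : ℤ) ≡ 1 [ZMOD p] ∨ (m : ℤ) ≡ -1 [ZMOD p])) ∧
      (∀ β : IrrCharacter C, β ≠ β₀ →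
        ∃ m : ℕ, classInner (fun c => χ (j c)) (β : C → ℂ) = m ∧ p ∣ m) := by
  classical
  have hfix : ∀ c : C, α (j c) = j c := fun c => (hC (j c)).mp ⟨c, rfl⟩
  obtain ⟨F, hFdef⟩ : ∃ F : IrrCharacter C → ZMod p → ℂ,
      F = fun (β : IrrCharacter C) (k : ZMod p) =>
        classInner (cosetFun p α hα j ψ k) (β : C → ℂ) := ⟨_, rfl⟩
  have hgoal : ∀ (β : IrrCharacter C) (k : ZMod p),
      classInner (cosetFun p α hα j ψ k) (β : C → ℂ) = F β k := fun β k => by rw [hFdef]
  simp only [hgoal]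
  have hnat : ∀ (β : IrrCharacter C) (t : ZMod p), ∃ a : ℕ,
      (p : ℂ)⁻¹ * ∑ k : ZMod p, ZMod.stdAddChar (-(t * k)) * F β k = a := by
    intro β t
    rw [hFdef]
    exact mult_nat p α hα j hfix ψ hψ β β.2 t
  choose a ha using hnat
  have hFa : ∀ β k, F β k = ∑ t : ZMod p, (a β t : ℂ) * ZMod.stdAddChar (t * k) := by
    intro β k
    rw [four_inv p (F β) k]
    apply Finset.sum_congr rfl
    intro t _
    rw [ha]
  have hF0 : ∀ β, F β 0 = ((∑ t : ZMod p, a β t : ℕ) : ℂ) := by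
    intro β
    rw [hFa]
    push_cast
    apply Finset.sum_congr rfl
    intro t _
    simp
  have hχ0 : ∀ β : IrrCharacter C, F β 0 = classInner (fun c => χ (j c)) (β : C → ℂ) := by
    intro β
    rw [hFdef]
    simp only
    congr 1
    funext c
    rw [cosetFun_apply, ← hres]
    rfl
  have hPars : ∀ β, ∑ k : ZMod p, F β k * conj (F β k) =
      (p : ℂ) * ∑ t : ZMod p, ((a β t : ℂ)) ^ 2 := by
    intro β
    calc ∑ k : ZMod p, F β k * conj (F β k)
        = ∑ k : ZMod p, (∑ t : ZMod p, (a β t : ℂ) * ZMod.stdAddChar (t * k)) *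
            conj (∑ t : ZMod p, (a β t : ℂ) * ZMod.stdAddChar (t * k)) := by
          apply Finset.sum_congr rfl
          intro k _
          rw [hFa β k]
      _ = (p : ℂ) * ∑ t : ZMod p, (a β t : ℂ) * conj ((a β t : ℂ)) :=
          four_parseval p (fun t => (a β t : ℂ))
      _ = (p : ℂ) * ∑ t : ZMod p, ((a β t : ℂ)) ^ 2 := by
          congr 1
          apply Finset.sum_congr rfl
          intro t _
          rw [Complex.conj_natCast, sq]
  obtain ⟨D, hDdef⟩ : ∃ D : IrrCharacter C → ℤ,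
      D = fun β => (p : ℤ) * ∑ t : ZMod p, (a β t : ℤ) ^ 2 - (∑ t : ZMod p, (a β t : ℤ)) ^ 2 :=
    ⟨_, rfl⟩
  have hD : ∀ β, ((D β : ℤ) : ℂ) = ∑ k ∈ Finset.univ.erase (0 : ZMod p), F β k * conj (F β k) := by
    intro β
    have h1 := hPars β
    rw [← Finset.add_sum_erase Finset.univ _ (Finset.mem_univ (0 : ZMod p)), hF0,
      Complex.conj_natCast] at h1
    rw [hDdef]
    push_cast at h1 ⊢
    linear_combination (-1 : ℂ) * h1
  have hkey : ∀ k : ZMod p, k ≠ 0 → ∑ β : IrrCharacter C, F β k * conj (F β k) = 1 := by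
    intro k hk
    have h1 := parseval_class (cosetFun p α hα j ψ k) (cosetFun p α hα j ψ k)
      (cosetFun_class p α hα j hfix ψ hψ k)
    simp only [hgoal] at h1
    rw [← h1]
    exact fix_inner_self p α hα j hB hj hC ψ hψ χ hχ hres k hk
  have hp2 := hp.out.two_le
  have hsumD : ∑ β : IrrCharacter C, D β = (p : ℤ) - 1 := by
    have h1 : ((∑ β : IrrCharacter C, D β : ℤ) : ℂ) = (((p : ℤ) - 1 : ℤ) : ℂ) := by
      push_cast
      rw [Finset.sum_congr rfl (fun β _ => hD β), Finset.sum_comm,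
        Finset.sum_congr rfl (fun k hk => hkey k (Finset.ne_of_mem_erase hk)),
        Finset.sum_const, Finset.card_erase_of_mem (Finset.mem_univ _), Finset.card_univ,
        ZMod.card, nsmul_eq_mul, mul_one, Nat.cast_sub (by omega)]
      simp
    exact_mod_cast h1
  have hD01 : ∀ β, D β = 0 ∨ (p : ℤ) - 1 ≤ D β := by
    intro β
    have h1 := comb_var (fun t : ZMod p => (a β t : ℤ))
    rw [ZMod.card] at h1
    rw [hDdef]
    exact h1
  have hDnn : ∀ β, 0 ≤ D β := fun β => by rcases hD01 β with h | h <;> omega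
  obtain ⟨β₀, hβ₀⟩ : ∃ β₀, D β₀ ≠ 0 := by
    by_contra hcon
    push Not at hcon
    rw [Finset.sum_congr rfl (fun β _ => hcon β), Finset.sum_const_zero] at hsumD
    omega
  have hβ₀' : (p : ℤ) - 1 ≤ D β₀ := (hD01 β₀).resolve_left hβ₀
  have hrest : ∀ β, β ≠ β₀ → D β = 0 := by
    have h1 : ∑ β ∈ Finset.univ.erase β₀, D β = (p : ℤ) - 1 - D β₀ := by
      rw [← hsumD, ← Finset.add_sum_erase Finset.univ D (Finset.mem_univ β₀)]
      ring
    have h2 : ∑ β ∈ Finset.univ.erase β₀, D β ≤ 0 := by rw [h1]; omega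
    have h3 := (Finset.sum_eq_zero_iff_of_nonneg (fun β _ => hDnn β)).mp
      (le_antisymm h2 (Finset.sum_nonneg (fun β _ => hDnn β)))
    intro β hβ
    exact h3 β (Finset.mem_erase.mpr ⟨hβ, Finset.mem_univ _⟩)
  have hDβ₀ : D β₀ = (p : ℤ) - 1 := by
    have h1 : ∑ β ∈ Finset.univ.erase β₀, D β = 0 :=
      Finset.sum_eq_zero (fun β hβ => hrest β (Finset.ne_of_mem_erase hβ))
    rw [← Finset.add_sum_erase Finset.univ D (Finset.mem_univ β₀), h1, add_zero] at hsumD
    exact hsumD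
  have hvan : ∀ β, β ≠ β₀ → ∀ k : ZMod p, k ≠ 0 → F β k = 0 := by
    intro β hβ k hk
    have h1 := hD β
    rw [hrest β hβ] at h1
    simp only [Int.cast_zero] at h1
    have h2 : ∀ k, F β k * conj (F β k) = ((Complex.normSq (F β k) : ℝ) : ℂ) :=
      fun k => Complex.mul_conj _
    rw [Finset.sum_congr rfl (fun k _ => h2 k), ← Complex.ofReal_sum] at h1
    have h3 : ∑ k ∈ Finset.univ.erase (0 : ZMod p), Complex.normSq (F β k) = 0 := by
      exact_mod_cast h1.symm
    have h4 := (Finset.sum_eq_zero_iff_of_nonneg (fun k _ => Complex.normSq_nonneg _)).mp h3 k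
      (Finset.mem_erase.mpr ⟨hk, Finset.mem_univ _⟩)
    exact Complex.normSq_eq_zero.mp h4
  refine ⟨β₀, hvan, ?_, ?_, ?_⟩
  · intro k hk
    have h1 := hkey k hk
    rw [← Finset.add_sum_erase Finset.univ _ (Finset.mem_univ β₀),
      Finset.sum_eq_zero (fun β hβ => by rw [hvan β (Finset.ne_of_mem_erase hβ) k hk, zero_mul]),
      add_zero] at h1
    exact h1
  · refine ⟨∑ t : ZMod p, a β₀ t, ?_, ?_⟩
    · rw [← hχ0, hF0]
    · have h0 := hDβ₀
      rw [hDdef] at h0
      simp only at h0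
      have h1 : (p : ℤ) ∣ ((∑ t : ZMod p, a β₀ t : ℕ) : ℤ) ^ 2 - 1 := by
        refine ⟨∑ t : ZMod p, (a β₀ t : ℤ) ^ 2 - 1, ?_⟩
        push_cast
        linarith
      have h2 : (p : ℤ) ∣ (((∑ t : ZMod p, a β₀ t : ℕ) : ℤ) - 1) *
          (((∑ t : ZMod p, a β₀ t : ℕ) : ℤ) + 1) := by
        have h3 : (((∑ t : ZMod p, a β₀ t : ℕ) : ℤ) - 1) *
            (((∑ t : ZMod p, a β₀ t : ℕ) : ℤ) + 1) =
            ((∑ t : ZMod p, a β₀ t : ℕ) : ℤ) ^ 2 - 1 := by ring
        rw [h3]; exact h1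
      rcases (Nat.prime_iff_prime_int.mp hp.out).dvd_or_dvd h2 with h3 | h3
      · left
        exact (Int.modEq_iff_dvd.mpr h3).symm
      · right
        exact (Int.modEq_iff_dvd.mpr (by simpa using h3)).symm
  · intro β hβ
    refine ⟨∑ t : ZMod p, a β t, ?_, ?_⟩
    · rw [← hχ0, hF0]
    · have h1 := hrest β hβ
      rw [hDdef] at h1
      simp only at h1
      have h2 : (p : ℤ) ∣ ((∑ t : ZMod p, a β t : ℕ) : ℤ) ^ 2 :=
        ⟨∑ t : ZMod p, (a β t : ℤ) ^ 2, by push_cast; linarith⟩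
      have h3 := Int.Prime.dvd_pow' hp.out h2
      exact_mod_cast h3

end One

section Step

variable {B : Type*} [Group B] [Fintype B] (p : ℕ) [hp : Fact p.Prime] (α : MulAut B)
  (hα : α ^ p = 1) {C : Type*} [Group C] [Fintype C] (j : C →* B)

include hα

/-- existence of the Glauberman correspondent for an automorphism of order `p` -/
theorem step_ex (hB : ¬ p ∣ Fintype.card B) (hj : Function.Injective j)
    (hC : ∀ b : B, b ∈ j.range ↔ α b = b) (χ : IrrCharacter B)
    (hinv : ∀ b, (χ : B → ℂ) (α b) = (χ : B → ℂ) b) :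
    ∃ β₀ : IrrCharacter C,
      (∃ m : ℕ, classInner (fun c => (χ : B → ℂ) (j c)) (β₀ : C → ℂ) = m ∧
        ((m : ℤ) ≡ 1 [ZMOD p] ∨ (m : ℤ) ≡ -1 [ZMOD p])) ∧
      (∀ β : IrrCharacter C, β ≠ β₀ →
        ∃ m : ℕ, classInner (fun c => (χ : B → ℂ) (j c)) (β : C → ℂ) = m ∧ p ∣ m) := by
  classical
  have := Helper4.irr_finite (G := C)
  let _ : Fintype (IrrCharacter C) := Fintype.ofFinite _
  obtain ⟨ψ, hψ, hres⟩ := ext_exists p α hα χ χ.2 hinv
  obtain ⟨β₀, -, -, h3, h4⟩ := step_one p α hα j hB hj hC χ χ.2 ψ hψ hres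
  exact ⟨β₀, h3, h4⟩

/-- injectivity of the Glauberman correspondence for an automorphism of order `p` -/
theorem step_inj (hB : ¬ p ∣ Fintype.card B) (hj : Function.Injective j)
    (hC : ∀ b : B, b ∈ j.range ↔ α b = b) (χ χ' : IrrCharacter B)
    (hinv : ∀ b, (χ : B → ℂ) (α b) = (χ : B → ℂ) b)
    (hinv' : ∀ b, (χ' : B → ℂ) (α b) = (χ' : B → ℂ) b) (β : IrrCharacter C) (m m' : ℕ)
    (hm : classInner (fun c => (χ : B → ℂ) (j c)) (β : C → ℂ) = m) (hpm : ¬ p ∣ m)
    (hm' : classInner (fun c => (χ' : B → ℂ) (j c)) (β : C → ℂ) = m') (hpm' : ¬ p ∣ m') :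
    χ = χ' := by
  classical
  by_contra hne
  have := Helper4.irr_finite (G := C)
  let _ : Fintype (IrrCharacter C) := Fintype.ofFinite _
  have hfix : ∀ c : C, α (j c) = j c := fun c => (hC (j c)).mp ⟨c, rfl⟩
  obtain ⟨ψ, hψ, hres⟩ := ext_exists p α hα χ χ.2 hinv
  obtain ⟨ψ', hψ', hres'⟩ := ext_exists p α hα χ' χ'.2 hinv'
  obtain ⟨β₀, h1, h2, -, h4⟩ := step_one p α hα j hB hj hC χ χ.2 ψ hψ hres
  obtain ⟨β₀', h1', h2', -, h4'⟩ := step_one p α hα j hB hj hC χ' χ'.2 ψ' hψ' hres'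
  have hβ : β = β₀ := by
    by_contra hb
    obtain ⟨m₁, hm₁, hdvd⟩ := h4 β hb
    rw [hm] at hm₁
    have h5 : m = m₁ := by exact_mod_cast hm₁
    exact hpm (h5 ▸ hdvd)
  have hβ' : β = β₀' := by
    by_contra hb
    obtain ⟨m₁, hm₁, hdvd⟩ := h4' β hb
    rw [hm'] at hm₁
    have h5 : m' = m₁ := by exact_mod_cast hm₁
    exact hpm' (h5 ▸ hdvd)
  subst hβ
  subst hβ'
  have hk : (1 : ZMod p) ≠ 0 := one_ne_zero
  have horth := fix_inner_orth p α hα j hB hj hC ψ ψ' hψ hψ' χ χ' χ.2 χ'.2 hres hres'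
    (fun h => hne (Subtype.ext h)) 1 hk
  rw [parseval_class _ _ (cosetFun_class p α hα j hfix ψ hψ 1),
    ← Finset.add_sum_erase Finset.univ _ (Finset.mem_univ β),
    Finset.sum_eq_zero (fun β' hβ' => by
      rw [h1 β' (Finset.ne_of_mem_erase hβ') 1 hk, zero_mul]), add_zero] at horth
  have hne1 : classInner (cosetFun p α hα j ψ 1) (β : C → ℂ) ≠ 0 := by
    intro h0
    have h6 := h2 1 hk
    rw [h0, zero_mul] at h6
    exact zero_ne_one h6
  have hne2 : classInner (cosetFun p α hα j ψ' 1) (β : C → ℂ) ≠ 0 := by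
    intro h0
    have h6 := h2' 1 hk
    rw [h0, zero_mul] at h6
    exact zero_ne_one h6
  rcases mul_eq_zero.mp horth with h | h
  · exact hne1 h
  · exact hne2 (by simpa using h)

/-- fixed points which are conjugate in `B` are conjugate in `C` -/
theorem step_conj (hB : ¬ p ∣ Fintype.card B) (hj : Function.Injective j)
    (hC : ∀ b : B, b ∈ j.range ↔ α b = b) (c c' : C) (h : IsConj (j c) (j c')) : IsConj c c' := by
  have hz : (Multiplicative.ofAdd (1 : ZMod p)) ≠ 1 := fun h0 => one_ne_zero (ofAdd_eq_one.mp h0)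
  exact tw_conj (autHom p α hα) p j (by simp) hB _ hz hj
    (fun b => (hC b).trans (autHom_fix_iff p α hα _ hz b).symm) c c' h

/-- an invariant conjugacy class contains a fixed point -/
theorem step_fix (hB : ¬ p ∣ Fintype.card B)
    (hC : ∀ b : B, b ∈ j.range ↔ α b = b) (g : B) (h : IsConj (α g) g) :
    ∃ c : C, IsConj (j c) g := by
  classical
  let f : Function.End {x : B // IsConj g x} := fun x =>
    ⟨α x.1, h.symm.trans ((α : B ≃* B).toMonoidHom.map_isConj x.2)⟩
  have hf : ∀ (n : ℕ) (x : {x : B // IsConj g x}), ((f ^ n) x : B) = (α ^ n) x.1 := by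
    intro n
    induction n with
    | zero => intro x; rfl
    | succ n ih =>
      intro x
      rw [pow_succ, pow_succ]
      change ((f ^ n) (f x) : B) = (α ^ n) (α x.1)
      rw [ih]
  have hfp : f ^ p ^ 1 = 1 := by
    funext x
    apply Subtype.ext
    rw [pow_one, hf, hα]
    rfl
  have h1 := Equiv.Perm.card_fixedPoints_modEq (p := p) (n := 1) hfp
  have h2 : ¬ p ∣ Fintype.card {x : B // IsConj g x} := by
    intro hd
    apply hB
    have h3 := Helper83.card_conj_mul_card_centralizer g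
    rw [Nat.card_eq_fintype_card (α := B), Nat.card_eq_fintype_card] at h3
    exact dvd_trans hd (Dvd.intro _ h3)
  have h4 : Fintype.card (Function.fixedPoints f) ≠ 0 := by
    intro h0
    rw [h0] at h1
    exact h2 ((Nat.modEq_zero_iff_dvd).mp h1)
  obtain ⟨⟨x, hx⟩⟩ := Fintype.card_pos_iff.mp (Nat.pos_of_ne_zero h4)
  have h5 : α x.1 = x.1 := congrArg Subtype.val hx
  obtain ⟨c, hc⟩ := (hC x.1).mpr h5
  exact ⟨c, hc ▸ x.2.symm⟩

/-- surjectivity of the Glauberman correspondence for an automorphism of order `p` -/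
theorem step_surj (hB : ¬ p ∣ Fintype.card B) (hj : Function.Injective j)
    (hC : ∀ b : B, b ∈ j.range ↔ α b = b) (β : IrrCharacter C) :
    ∃ χ : IrrCharacter B, (∀ b, (χ : B → ℂ) (α b) = (χ : B → ℂ) b) ∧
      ∃ m : ℕ, classInner (fun c => (χ : B → ℂ) (j c)) (β : C → ℂ) = m ∧ ¬ p ∣ m := by
  classical
  have hfinC := Helper4.irr_finite (G := C)
  have hfinB := Helper4.irr_finite (G := B)
  have hfix : ∀ c : C, α (j c) = j c := fun c => (hC (j c)).mp ⟨c, rfl⟩
  have hex : ∀ x : {χ : IrrCharacter B // ∀ b, (χ : B → ℂ) (α b) = (χ : B → ℂ) b},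
      ∃ β₀ : IrrCharacter C,
      (∃ m : ℕ, classInner (fun c => (x.1 : B → ℂ) (j c)) (β₀ : C → ℂ) = m ∧
        ((m : ℤ) ≡ 1 [ZMOD p] ∨ (m : ℤ) ≡ -1 [ZMOD p])) ∧
      (∀ β : IrrCharacter C, β ≠ β₀ →
        ∃ m : ℕ, classInner (fun c => (x.1 : B → ℂ) (j c)) (β : C → ℂ) = m ∧ p ∣ m) :=
    fun x => step_ex p α hα j hB hj hC x.1 x.2
  choose Φ hΦ1 hΦ2 using hex
  have hinj : Function.Injective Φ := by
    intro x y hxy
    obtain ⟨m, hm, hm1⟩ := hΦ1 x
    obtain ⟨m', hm', hm1'⟩ := hΦ1 y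
    rw [hxy] at hm
    exact Subtype.ext (step_inj p α hα j hB hj hC x.1 y.1 x.2 y.2 (Φ y) m m' hm
      (pm_not_dvd p m hm1) hm' (pm_not_dvd p m' hm1'))
  have hcard : Nat.card (IrrCharacter C) ≤
      Nat.card {χ : IrrCharacter B // ∀ b, (χ : B → ℂ) (α b) = (χ : B → ℂ) b} := by
    have h1 : Nat.card {χ : IrrCharacter B // ∀ b, (χ : B → ℂ) (α b) = (χ : B → ℂ) b} =
        Nat.card {χ : IrrCharacter B // (χ : B → ℂ) ∘ (α : B ≃* B) = (χ : B → ℂ)} :=
      Nat.card_congr (Equiv.subtypeEquivRight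
        (fun χ => ⟨fun h => funext h, fun h b => congrFun h b⟩))
    rw [h1, ← brauer_perm (α : B ≃* B), Helper4.card_irr]
    have hmapfix : ∀ K : ConjClasses C,
        ConjClasses.map (α : B ≃* B).toMonoidHom (ConjClasses.map j K) = ConjClasses.map j K := by
      intro K
      obtain ⟨c, rfl⟩ := ConjClasses.mk_surjective K
      change ConjClasses.mk (α (j c)) = ConjClasses.mk (j c)
      rw [hfix]
    apply Nat.card_le_card_of_injective
      (fun K : ConjClasses C => (⟨ConjClasses.map j K, hmapfix K⟩ :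
        {K : ConjClasses B // ConjClasses.map (α : B ≃* B).toMonoidHom K = K}))
    intro K K' hKK
    have h2 : ConjClasses.map j K = ConjClasses.map j K' := congrArg Subtype.val hKK
    obtain ⟨c, rfl⟩ := ConjClasses.mk_surjective K
    obtain ⟨c', rfl⟩ := ConjClasses.mk_surjective K'
    have h3 : ConjClasses.mk (j c) = ConjClasses.mk (j c') := h2
    exact ConjClasses.mk_eq_mk_iff_isConj.mpr
      (step_conj p α hα j hB hj hC c c' (ConjClasses.mk_eq_mk_iff_isConj.mp h3))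
  have hbij := Function.Injective.bijective_of_nat_card_le hinj hcard
  obtain ⟨x, hx⟩ := hbij.2 β
  obtain ⟨m, hm, hm1⟩ := hΦ1 x
  exact ⟨x.1, x.2, m, hx ▸ hm, pm_not_dvd p m hm1⟩

end Step

end Cfsg.Agent.Lib.Helper5
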