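import Mathlib
import Cfsg.Agent.Lib.Helper5.GlStep
import Cfsg.Agent.Lib.Helper4.BrMono3
import Cfsg.Agent.Lib.Helper4.CharDecomp
import Cfsg.Agent.Lib.Helper35.Ind

/-!
# The Glauberman correspondence for a `p`-group of operators (helper5)

`S` is a finite `p`-group acting by automorphisms (`φ : S →* MulAut G`) on a finite group `G`
of order prime to `|S|`, and `j : C →* G` is an injective homomorphism whose range is the
subgroup of fixed points.  `gl_pgroup` proves `GlOK p φ j`: for every `S`-invariant irreducible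
character `χ` of `G` exactly one irreducible character `β` of `C` has multiplicity prime to `p`
in `χ ∘ j`, this multiplicity is `±1` mod `p`, `χ ↦ β` is a bijection, and the analogous
facts for conjugacy classes hold.
-/

set_option autoImplicit false

namespace Cfsg.Agent.Lib.Helper5

open Cfsg Cfsg.Agent.Lib

universe u v

section Aux

variable {S G : Type*} [Group S] [Group G]

/-- the subgroup of fixed points of an action by automorphisms -/
def fixSub (φ : S →* MulAut G) : Subgroup G where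
  carrier := {g | ∀ s, φ s g = g}
  mul_mem' := fun {a b} ha hb s => by rw [map_mul, ha s, hb s]
  one_mem' := fun s => map_one _
  inv_mem' := fun {a} ha s => by rw [map_inv, ha s]

theorem mem_fixSub (φ : S →* MulAut G) (g : G) : g ∈ fixSub φ ↔ ∀ s, φ s g = g := Iff.rfl

/-- the stabiliser of a point under an action by automorphisms -/
def stabSub (φ : S →* MulAut G) (g : G) : Subgroup S where
  carrier := {x | φ x g = g}
  mul_mem' := fun {x y} hx hy => by
    change φ (x * y) g = g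
    rw [map_mul, MulAut.mul_apply, (hy : φ y g = g), (hx : φ x g = g)]
  one_mem' := by change φ 1 g = g; rw [map_one, MulAut.one_apply]
  inv_mem' := fun {x} hx => by
    change φ x⁻¹ g = g
    rw [map_inv, MulAut.inv_apply, MulEquiv.symm_apply_eq]; exact (hx : φ x g = g).symm

theorem mem_stabSub (φ : S →* MulAut G) (g : G) (x : S) : x ∈ stabSub φ g ↔ φ x g = g := Iff.rfl

/-- the subgroup of operators leaving a function invariant -/
def invSub {Y : Type*} (φ : S →* MulAut G) (f : G → Y) : Subgroup S where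
  carrier := {x | ∀ g, f (φ x g) = f g}
  mul_mem' := fun {x y} hx hy g => by
    rw [map_mul, MulAut.mul_apply, hx, hy]
  one_mem' := fun g => by rw [map_one, MulAut.one_apply]
  inv_mem' := fun {x} hx g => by
    have := hx (φ x⁻¹ g)
    rw [← MulAut.mul_apply, ← map_mul, mul_inv_cancel, map_one, MulAut.one_apply] at this
    exact this.symm

theorem mem_invSub {Y : Type*} (φ : S →* MulAut G) (f : G → Y) (x : S) :
    x ∈ invSub φ f ↔ ∀ g, f (φ x g) = f g := Iff.rfl

/-- a subgroup containing a subgroup of prime index and an element outside it is everything -/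
theorem top_of_index_prime (p : ℕ) (hp : p.Prime) (T K : Subgroup S) (hT : T.index = p)
    (hTK : T ≤ K) (s : S) (hsK : s ∈ K) (hsT : s ∉ T) : K = ⊤ := by
  have h1 := Subgroup.relIndex_mul_index hTK
  rw [hT] at h1
  have h2 : K.index ∣ p := Dvd.intro_left _ h1
  rcases (Nat.dvd_prime hp).mp h2 with h3 | h3
  · exact Subgroup.index_eq_one.mp h3
  · exfalso
    rw [h3] at h1
    have h4 : T.relIndex K = 1 := by
      have h5 := hp.pos
      have h6 : T.relIndex K * p = 1 * p := by rw [h1, one_mul]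
      exact Nat.eq_of_mul_eq_mul_right h5 h6
    exact hsT (Subgroup.relIndex_eq_one.mp h4 hsK)

theorem pm_mul (p : ℕ) (a b c : ℤ) (ha : a ≡ 1 [ZMOD p] ∨ a ≡ -1 [ZMOD p])
    (hb : b ≡ 1 [ZMOD p] ∨ b ≡ -1 [ZMOD p]) (hc : c ≡ a * b [ZMOD p]) :
    c ≡ 1 [ZMOD p] ∨ c ≡ -1 [ZMOD p] := by
  rcases ha with ha | ha <;> rcases hb with hb | hb
  · left; simpa using hc.trans (ha.mul hb)
  · right; simpa using hc.trans (ha.mul hb)
  · right; simpa using hc.trans (ha.mul hb)
  · left; simpa using hc.trans (ha.mul hb)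

end Aux

/-- multiplicities through an intermediate group, modulo `p` -/
theorem mult_mod {G B C : Type*} [Group G] [Group B] [Group C] [Fintype B] [Fintype C]
    (p : ℕ) (j₁ : B →* G) (j' : C →* B) (χ : G → ℂ) (hχ : IsCharacter G χ)
    (β₁ : IrrCharacter B) (M₁ : ℕ)
    (hM₁ : classInner (fun b => χ (j₁ b)) (β₁ : B → ℂ) = M₁)
    (hdiv : ∀ η : IrrCharacter B, η ≠ β₁ →
      ∃ M : ℕ, classInner (fun b => χ (j₁ b)) (η : B → ℂ) = M ∧ p ∣ M)
    (β : IrrCharacter C) (N : ℕ)
    (hN : classInner (fun c => (β₁ : B → ℂ) (j' c)) (β : C → ℂ) = N) :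
    ∃ m : ℕ, classInner (fun c => χ (j₁ (j' c))) (β : C → ℂ) = m ∧ m ≡ M₁ * N [MOD p] := by
  classical
  have := Helper4.irr_finite (G := B)
  let _ : Fintype (IrrCharacter B) := Fintype.ofFinite _
  have hψ : IsCharacter B (fun b => χ (j₁ b)) := Helper20.isCharacter_comp j₁ hχ
  obtain ⟨mm, hmm⟩ := Helper4.exists_decomp_of_isCharacter _ hψ
  have hmm' : ∀ η : IrrCharacter B, classInner (fun b => χ (j₁ b)) (η : B → ℂ) = mm η := by
    intro η
    rw [hmm, Helper4.classInner_sum_irr]
  have hNN : ∀ η : IrrCharacter B, ∃ k : ℕ,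
      classInner (fun c => (η : B → ℂ) (j' c)) (β : C → ℂ) = k := fun η =>
    Helper35.classInner_char_nat (Helper20.isCharacter_comp j' (Helper35.isChar_of_irr η.2))
      (Helper35.isChar_of_irr β.2)
  choose NN hNN using hNN
  have h1 : (fun c => χ (j₁ (j' c))) =
      ∑ η : IrrCharacter B, (mm η : ℂ) • (fun c => (η : B → ℂ) (j' c)) := by
    funext c
    have h2 := congrFun hmm (j' c)
    simp only [Finset.sum_apply, Pi.smul_apply, smul_eq_mul] at h2 ⊢
    exact h2
  have hM : mm β₁ = M₁ := by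
    have h3 := hmm' β₁
    rw [hM₁] at h3
    exact_mod_cast h3.symm
  have hNβ : NN β₁ = N := by
    have h3 := hNN β₁
    rw [hN] at h3
    exact_mod_cast h3.symm
  refine ⟨∑ η : IrrCharacter B, mm η * NN η, ?_, ?_⟩
  · rw [h1, Helper83.classInner_sum_left]
    push_cast
    apply Finset.sum_congr rfl
    intro η _
    rw [Helper83.classInner_smul_left, hNN]
  · rw [← Finset.add_sum_erase Finset.univ _ (Finset.mem_univ β₁), hM, hNβ]
    have h4 : ∑ η ∈ Finset.univ.erase β₁, mm η * NN η ≡ 0 [MOD p] := by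
      apply (Nat.modEq_zero_iff_dvd).mpr
      apply Finset.dvd_sum
      intro η hη
      obtain ⟨M, hM', hd⟩ := hdiv η (Finset.ne_of_mem_erase hη)
      rw [hmm'] at hM'
      have h5 : mm η = M := by exact_mod_cast hM'
      rw [h5]
      exact Dvd.dvd.mul_right hd _
    simpa using Nat.ModEq.add_left (M₁ * N) h4

/-- the conclusions of the Glauberman correspondence for a `p`-group of operators -/
structure GlOK (p : ℕ) {S G C : Type*} [Group S] [Group G] [Group C] [Fintype C]
    (φ : S →* MulAut G) (j : C →* G) : Prop where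
  ex : ∀ χ : IrrCharacter G, (∀ s g, (χ : G → ℂ) (φ s g) = (χ : G → ℂ) g) →
    ∃ β₀ : IrrCharacter C,
      (∃ m : ℕ, classInner (fun c => (χ : G → ℂ) (j c)) (β₀ : C → ℂ) = m ∧
        ((m : ℤ) ≡ 1 [ZMOD p] ∨ (m : ℤ) ≡ -1 [ZMOD p])) ∧
      (∀ β : IrrCharacter C, β ≠ β₀ →
        ∃ m : ℕ, classInner (fun c => (χ : G → ℂ) (j c)) (β : C → ℂ) = m ∧ p ∣ m)
  inj : ∀ χ χ' : IrrCharacter G, (∀ s g, (χ : G → ℂ) (φ s g) = (χ : G → ℂ) g) →
    (∀ s g, (χ' : G → ℂ) (φ s g) = (χ' : G → ℂ) g) → ∀ (β : IrrCharacter C) (m m' : ℕ),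
    classInner (fun c => (χ : G → ℂ) (j c)) (β : C → ℂ) = m → ¬ p ∣ m →
    classInner (fun c => (χ' : G → ℂ) (j c)) (β : C → ℂ) = m' → ¬ p ∣ m' → χ = χ'
  surj : ∀ β : IrrCharacter C, ∃ χ : IrrCharacter G,
    (∀ s g, (χ : G → ℂ) (φ s g) = (χ : G → ℂ) g) ∧
      ∃ m : ℕ, classInner (fun c => (χ : G → ℂ) (j c)) (β : C → ℂ) = m ∧ ¬ p ∣ m
  cl_conj : ∀ c c' : C, IsConj (j c) (j c') → IsConj c c'
  cl_fix : ∀ g : G, (∀ s, IsConj (φ s g) g) → ∃ c : C, IsConj (j c) g

/-- the case of a trivial group of operators -/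
theorem gl_base (p : ℕ) {S G C : Type*} [Group S] [Group G] [Group C] [Fintype G] [Fintype C]
    (φ : S →* MulAut G) (j : C →* G) (hp1 : p ≠ 1) (hS : ∀ s : S, s = 1)
    (hj : Function.Injective j)
    (hC : ∀ g : G, g ∈ j.range ↔ ∀ s, φ s g = g) : GlOK p φ j := by
  classical
  have hjs : Function.Surjective j := by
    intro g
    exact (hC g).mpr (fun s => by rw [hS s, map_one, MulAut.one_apply])
  let e : C ≃* G := MulEquiv.ofBijective j ⟨hj, hjs⟩
  have he : ∀ c, e c = j c := fun c => rfl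
  have hirr : ∀ χ : IrrCharacter G, IsIrrCharacter C (fun c => (χ : G → ℂ) (j c)) := fun χ =>
    Helper20.irr_comp_surjective j hjs χ.2
  have hval : ∀ (χ : IrrCharacter G) (β : IrrCharacter C) (m : ℕ),
      classInner (fun c => (χ : G → ℂ) (j c)) (β : C → ℂ) = m → ¬ p ∣ m →
      (fun c => (χ : G → ℂ) (j c)) = (β : C → ℂ) ∧ m = 1 := by
    intro χ β m hm hpm
    rw [Helper35.classInner_irr' (hirr χ) β.2] at hm
    by_cases h : (fun c => (χ : G → ℂ) (j c)) = (β : C → ℂ)
    · rw [if_pos h] at hm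
      exact ⟨h, by exact_mod_cast hm.symm⟩
    · rw [if_neg h] at hm
      have h0 : m = 0 := by exact_mod_cast hm.symm
      exact absurd (h0 ▸ dvd_zero p) hpm
  refine ⟨?_, ?_, ?_, ?_, ?_⟩
  · intro χ _
    refine ⟨⟨_, hirr χ⟩, ⟨1, ?_, Or.inl (by simp)⟩, ?_⟩
    · rw [Helper35.classInner_irr' (hirr χ) (hirr χ), if_pos rfl]; simp
    · intro β hβ
      refine ⟨0, ?_, dvd_zero p⟩
      rw [Helper35.classInner_irr' (hirr χ) β.2, if_neg (fun h => hβ (Subtype.ext h.symm))]
      simp
  · intro χ χ' _ _ β m m' hm hpm hm' hpm'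
    have h1 := (hval χ β m hm hpm).1
    have h2 := (hval χ' β m' hm' hpm').1
    apply Subtype.ext
    funext g
    obtain ⟨c, rfl⟩ := hjs g
    exact (congrFun h1 c).trans (congrFun h2 c).symm
  · intro β
    refine ⟨⟨fun g => (β : C → ℂ) (e.symm g), Helper4.isIrrCharacter_comp_equiv e.symm β⟩,
      fun s g => by rw [hS s, map_one, MulAut.one_apply], 1, ?_, by simpa using hp1⟩
    have h1 : (fun c => (β : C → ℂ) (e.symm (j c))) = (β : C → ℂ) := by
      funext c
      rw [← he, MulEquiv.symm_apply_apply]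
    change classInner (fun c => (β : C → ℂ) (e.symm (j c))) (β : C → ℂ) = ((1 : ℕ) : ℂ)
    rw [h1, Helper35.classInner_irr' β.2 β.2, if_pos rfl]; simp
  · intro c c' h
    obtain ⟨g, hg⟩ := isConj_iff.mp h
    obtain ⟨d, rfl⟩ := hjs g
    apply isConj_iff.mpr
    refine ⟨d, hj ?_⟩
    rw [map_mul, map_mul, map_inv, hg]
  · intro g _
    obtain ⟨c, rfl⟩ := hjs g
    exact ⟨c, IsConj.refl _⟩

/-- the Glauberman correspondence for a group of operators of order `p ^ n` -/
theorem gl_main (p : ℕ) [hp : Fact p.Prime] {G : Type u} [Group G] [Fintype G] :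
    ∀ (n : ℕ) {S : Type v} [Group S] [Finite S] {C : Type u} [Group C] [Fintype C]
      (φ : S →* MulAut G) (j : C →* G), Nat.card S = p ^ n →
      (Fintype.card G).Coprime (Nat.card S) → Function.Injective j →
      (∀ g : G, g ∈ j.range ↔ ∀ s, φ s g = g) → GlOK p φ j := by
  intro n
  induction n with
  | zero =>
    intro S _ _ C _ _ φ j hS _ hj hC
    rw [pow_zero] at hS
    have hsub : Subsingleton S := (Nat.card_eq_one_iff_unique.mp hS).1
    exact gl_base p φ j hp.out.ne_one (fun s => Subsingleton.elim s 1) hj hC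
  | succ n ih =>
    intro S _ _ C _ _ φ j hS hcop hj hC
    classical
    have hG : ¬ p ∣ Fintype.card G := by
      rw [hS] at hcop
      have h1 : (Fintype.card G).Coprime p :=
        (Nat.coprime_pow_right_iff (Nat.succ_pos n) _ _).mp hcop
      exact (Nat.Prime.coprime_iff_not_dvd hp.out).mp h1.symm
    -- a normal subgroup of index `p`
    obtain ⟨T, hT⟩ := Sylow.exists_subgroup_card_pow_prime p (n := n) (G := S)
      (by rw [hS]; exact pow_dvd_pow p (Nat.le_succ n))
    have hTidx : T.index = p := by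
      have h1 := T.card_mul_index
      rw [hT, hS, pow_succ] at h1
      exact Nat.eq_of_mul_eq_mul_left (pow_pos hp.out.pos n) h1
    have hTn : T.Normal := by
      apply Subgroup.normal_of_index_eq_minFac_card
      rw [hTidx, hS, Nat.Prime.pow_minFac hp.out (Nat.succ_ne_zero n)]
    obtain ⟨s, hs⟩ : ∃ s : S, s ∉ T := by
      by_contra hcon
      push Not at hcon
      have h1 : T = ⊤ := (Subgroup.eq_top_iff' T).mpr hcon
      rw [h1, Subgroup.index_top] at hTidx
      exact hp.out.one_lt.ne hTidx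
    have hsp : s ^ p ∈ T := hTidx ▸ Subgroup.pow_index_mem T s
    -- the fixed points of `T`
    obtain ⟨B, hBmem⟩ : ∃ B : Subgroup G, ∀ g, g ∈ B ↔ ∀ t : T, φ t g = g :=
      ⟨fixSub (φ.comp T.subtype), fun g => Iff.rfl⟩
    have hBinv : ∀ (w : S), ∀ b ∈ B, φ w b ∈ B := by
      intro w b hb
      rw [hBmem] at hb ⊢
      intro t
      have h1 : w⁻¹ * (t : S) * w ∈ T := by
        have := hTn.conj_mem t t.2 w⁻¹
        simpa using this
      have h2 : φ (w⁻¹ * t * w) b = b := hb ⟨_, h1⟩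
      calc φ t (φ w b) = φ w (φ (w⁻¹ * t * w) b) := by
            rw [← MulAut.mul_apply, ← MulAut.mul_apply, ← map_mul, ← map_mul]
            congr 2
            group
        _ = φ w b := by rw [h2]
    obtain ⟨α, hα, hαdef⟩ : ∃ α : MulAut B, α ^ p = 1 ∧ ∀ b : B, ((α b : B) : G) = φ s b := by
      refine ⟨resAut φ B hBinv s, ?_, fun b => rfl⟩
      rw [← map_pow]
      apply MulEquiv.ext
      intro b
      apply Subtype.ext
      exact (hBmem b).mp b.2 ⟨s ^ p, hsp⟩
    have hjB : ∀ c : C, j c ∈ B := fun c =>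
      (hBmem (j c)).mpr (fun t => (hC (j c)).mp ⟨c, rfl⟩ t)
    obtain ⟨j', hj'def⟩ : ∃ j' : C →* B, ∀ c, ((j' c : B) : G) = j c :=
      ⟨j.codRestrict B hjB, fun c => rfl⟩
    have hj' : Function.Injective j' := fun c c' h =>
      hj (by rw [← hj'def, ← hj'def, h])
    have hfixall : ∀ b : B, α b = b → ∀ x : S, φ x (b : G) = b := by
      intro b h x
      have h1 : φ s b = b := by rw [← hαdef, h]
      have h2 : stabSub φ (b : G) = ⊤ :=
        top_of_index_prime p hp.out T _ hTidx (fun t ht => (hBmem b).mp b.2 ⟨t, ht⟩) s h1 hs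
      exact (mem_stabSub φ _ x).mp (h2 ▸ Subgroup.mem_top x)
    have hC' : ∀ b : B, b ∈ j'.range ↔ α b = b := by
      intro b
      constructor
      · rintro ⟨c, rfl⟩
        apply Subtype.ext
        rw [hαdef, hj'def]
        exact (hC (j c)).mp ⟨c, rfl⟩ s
      · intro h
        obtain ⟨c, hc⟩ := (hC b).mpr (hfixall b h)
        exact ⟨c, Subtype.ext (by rw [hj'def, hc])⟩
    letI : Fintype B := Fintype.ofFinite B
    have hBcard : ¬ p ∣ Fintype.card B := fun h => hG (dvd_trans h (by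
      have h1 := Subgroup.card_subgroup_dvd_card B
      rwa [Nat.card_eq_fintype_card, Nat.card_eq_fintype_card] at h1))
    have hcopT : (Fintype.card G).Coprime (Nat.card T) := by
      rw [hT]
      exact Nat.Coprime.pow_right n ((Nat.Prime.coprime_iff_not_dvd hp.out).mpr hG).symm
    have hrangeB : ∀ g : G, g ∈ B.subtype.range ↔ ∀ t : T, (φ.comp T.subtype) t g = g := by
      intro g
      rw [Subgroup.range_subtype]
      exact hBmem g
    have IH : GlOK p (φ.comp T.subtype) B.subtype :=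
      ih (φ.comp T.subtype) B.subtype hT hcopT B.subtype_injective hrangeB
    -- restriction to `B` of an `S`-invariant character is `α`-invariant
    have hresinv : ∀ χ : IrrCharacter G, (∀ g, (χ : G → ℂ) (φ s g) = (χ : G → ℂ) g) →
        (fun b : B => (χ : G → ℂ) (B.subtype (α b))) = fun b : B => (χ : G → ℂ) (B.subtype b) := by
      intro χ hinv
      funext b
      change (χ : G → ℂ) ((α b : B) : G) = (χ : G → ℂ) (b : G)
      rw [hαdef, hinv]
    have hjj : ∀ (f : G → ℂ), (fun c => f (B.subtype (j' c))) = fun c => f (j c) := by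
      intro f
      funext c
      change f ((j' c : B) : G) = f (j c)
      rw [hj'def]
    have key : ∀ χ : IrrCharacter G, (∀ s g, (χ : G → ℂ) (φ s g) = (χ : G → ℂ) g) →
        ∃ (β₁ : IrrCharacter B) (M₁ : ℕ), (∀ b, (β₁ : B → ℂ) (α b) = (β₁ : B → ℂ) b) ∧
          classInner (fun b : B => (χ : G → ℂ) (B.subtype b)) (β₁ : B → ℂ) = M₁ ∧
          ((M₁ : ℤ) ≡ 1 [ZMOD p] ∨ (M₁ : ℤ) ≡ -1 [ZMOD p]) ∧
          (∀ (η : IrrCharacter B) (M : ℕ),
            classInner (fun b : B => (χ : G → ℂ) (B.subtype b)) (η : B → ℂ) = M → ¬ p ∣ M →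
              η = β₁) ∧
          (∀ (β : IrrCharacter C) (N : ℕ),
            classInner (fun c => (β₁ : B → ℂ) (j' c)) (β : C → ℂ) = N →
            ∃ m : ℕ, classInner (fun c => (χ : G → ℂ) (j c)) (β : C → ℂ) = m ∧
              m ≡ M₁ * N [MOD p]) := by
      intro χ hinv
      obtain ⟨β₁, ⟨M₁, hM₁, hM₁pm⟩, hdiv⟩ := IH.ex χ (fun t g => hinv t g)
      have huniq : ∀ (η : IrrCharacter B) (M : ℕ),
          classInner (fun b : B => (χ : G → ℂ) (B.subtype b)) (η : B → ℂ) = M → ¬ p ∣ M →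
            η = β₁ := by
        intro η M hM hpM
        by_contra hne
        obtain ⟨M', hM', hd⟩ := hdiv η hne
        rw [hM] at hM'
        have h1 : M = M' := by exact_mod_cast hM'
        exact hpM (h1 ▸ hd)
      refine ⟨β₁, M₁, ?_, hM₁, hM₁pm, huniq, ?_⟩
      · have h1 := Helper20.classInner_comp_equiv (α : B ≃* B)
          (fun b : B => (χ : G → ℂ) (B.subtype b)) (β₁ : B → ℂ)
        rw [hresinv χ (hinv s), hM₁] at h1
        have h2 := huniq ⟨fun b => (β₁ : B → ℂ) (α b),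
          Helper4.isIrrCharacter_comp_equiv (α : B ≃* B) β₁⟩ M₁ h1 (pm_not_dvd p M₁ hM₁pm)
        intro b
        exact congrFun (congrArg Subtype.val h2) b
      · intro β N hN
        have h1 := mult_mod p B.subtype j' (χ : G → ℂ) (Helper35.isChar_of_irr χ.2) β₁ M₁ hM₁
          hdiv β N hN
        rw [hjj] at h1
        exact h1
    have key2 : ∀ (χ : IrrCharacter G), (∀ s g, (χ : G → ℂ) (φ s g) = (χ : G → ℂ) g) →
        ∀ (β : IrrCharacter C) (m : ℕ),
        classInner (fun c => (χ : G → ℂ) (j c)) (β : C → ℂ) = m → ¬ p ∣ m →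
        ∃ (β₁ : IrrCharacter B), (∀ b, (β₁ : B → ℂ) (α b) = (β₁ : B → ℂ) b) ∧
          (∃ M₁ : ℕ, classInner (fun b : B => (χ : G → ℂ) (B.subtype b)) (β₁ : B → ℂ) = M₁ ∧
            ¬ p ∣ M₁) ∧
          (∃ N : ℕ, classInner (fun c => (β₁ : B → ℂ) (j' c)) (β : C → ℂ) = N ∧ ¬ p ∣ N) := by
      intro χ hinv β m hm hpm
      obtain ⟨β₁, M₁, hβ₁, hM₁, hM₁pm, -, hmult⟩ := key χ hinv
      obtain ⟨β₀, ⟨N₀, hN₀, hN₀pm⟩, hdiv'⟩ := step_ex p α hα j' hBcard hj' hC' β₁ hβ₁
      have hβ : β = β₀ := by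
        by_contra hne
        obtain ⟨N, hN, hd⟩ := hdiv' β hne
        obtain ⟨m₂, hm₂, hmod⟩ := hmult β N hN
        rw [hm] at hm₂
        have h1 : m = m₂ := by exact_mod_cast hm₂
        apply hpm
        rw [h1]
        exact (Nat.modEq_zero_iff_dvd).mp
          (hmod.trans ((Nat.modEq_zero_iff_dvd).mpr (Dvd.dvd.mul_left hd M₁)))
      subst hβ
      exact ⟨β₁, hβ₁, ⟨M₁, hM₁, pm_not_dvd p M₁ hM₁pm⟩, ⟨N₀, hN₀, pm_not_dvd p N₀ hN₀pm⟩⟩
    refine ⟨?_, ?_, ?_, ?_, ?_⟩
    · -- existence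
      intro χ hinv
      obtain ⟨β₁, M₁, hβ₁, hM₁, hM₁pm, -, hmult⟩ := key χ hinv
      obtain ⟨β₀, ⟨N₀, hN₀, hN₀pm⟩, hdiv'⟩ := step_ex p α hα j' hBcard hj' hC' β₁ hβ₁
      refine ⟨β₀, ?_, ?_⟩
      · obtain ⟨m, hm, hmod⟩ := hmult β₀ N₀ hN₀
        refine ⟨m, hm, pm_mul p M₁ N₀ m hM₁pm hN₀pm ?_⟩
        have h1 := (Int.natCast_modEq_iff).mpr hmod
        push_cast at h1
        exact h1
      · intro β hne
        obtain ⟨N, hN, hd⟩ := hdiv' β hne
        obtain ⟨m, hm, hmod⟩ := hmult β N hN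
        exact ⟨m, hm, (Nat.modEq_zero_iff_dvd).mp
          (hmod.trans ((Nat.modEq_zero_iff_dvd).mpr (Dvd.dvd.mul_left hd M₁)))⟩
    · -- injectivity
      intro χ χ' hinv hinv' β m m' hm hpm hm' hpm'
      obtain ⟨β₁, hβ₁, ⟨M₁, hM₁, hpM₁⟩, ⟨N, hN, hpN⟩⟩ := key2 χ hinv β m hm hpm
      obtain ⟨β₁', hβ₁', ⟨M₁', hM₁', hpM₁'⟩, ⟨N', hN', hpN'⟩⟩ := key2 χ' hinv' β m' hm' hpm'
      have h1 : β₁ = β₁' := step_inj p α hα j' hBcard hj' hC' β₁ β₁' hβ₁ hβ₁' β N N' hN hpN
        hN' hpN'
      subst h1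
      exact IH.inj χ χ' (fun t g => hinv t g) (fun t g => hinv' t g) β₁ M₁ M₁' hM₁ hpM₁
        hM₁' hpM₁'
    · -- surjectivity
      intro β
      obtain ⟨η, hη, N, hN, hpN⟩ := step_surj p α hα j' hBcard hj' hC' β
      obtain ⟨χ, hχT, M, hM, hpM⟩ := IH.surj η
      have hχT' : ∀ (t : T) (g : G), (χ : G → ℂ) (φ t g) = (χ : G → ℂ) g := hχT
      -- `χ` is `s`-invariant
      have hχs : ∀ g, (χ : G → ℂ) (φ s g) = (χ : G → ℂ) g := by
        let χs : IrrCharacter G := ⟨fun g => (χ : G → ℂ) (φ s g),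
          Helper4.isIrrCharacter_comp_equiv (φ s : G ≃* G) χ⟩
        have hχsT : ∀ (t : T) (g : G), (χs : G → ℂ) ((φ.comp T.subtype) t g) =
            (χs : G → ℂ) g := by
          intro t g
          change (χ : G → ℂ) (φ s (φ t g)) = (χ : G → ℂ) (φ s g)
          have h1 : s * (t : S) * s⁻¹ ∈ T := hTn.conj_mem t t.2 s
          have h2 : φ s (φ t g) = φ (s * t * s⁻¹) (φ s g) := by
            rw [← MulAut.mul_apply, ← MulAut.mul_apply, ← map_mul, ← map_mul]
            congr 2
            group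
          rw [h2]
          exact hχT' ⟨_, h1⟩ (φ s g)
        have h3 : classInner (fun b : B => (χs : G → ℂ) (B.subtype b)) (η : B → ℂ) = M := by
          have h4 := Helper20.classInner_comp_equiv (α : B ≃* B)
            (fun b : B => (χ : G → ℂ) (B.subtype b)) (η : B → ℂ)
          rw [hM] at h4
          have h5 : (fun b : B => (η : B → ℂ) ((α : B ≃* B) b)) = (η : B → ℂ) := funext hη
          have h6 : (fun b : B => (χ : G → ℂ) (B.subtype ((α : B ≃* B) b))) =
              fun b : B => (χs : G → ℂ) (B.subtype b) := by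
            funext b
            change (χ : G → ℂ) ((α b : B) : G) = (χ : G → ℂ) (φ s (b : G))
            rw [hαdef]
          rw [h5, h6] at h4
          exact h4
        have h7 : χs = χ := IH.inj χs χ hχsT hχT η M M h3 hpM hM hpM
        intro g
        exact congrFun (congrArg Subtype.val h7) g
      have hχS : ∀ x g, (χ : G → ℂ) (φ x g) = (χ : G → ℂ) g := by
        intro x
        have h2 : invSub φ (χ : G → ℂ) = ⊤ :=
          top_of_index_prime p hp.out T _ hTidx (fun t ht => hχT' ⟨t, ht⟩) s hχs hs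
        exact (mem_invSub φ _ x).mp (h2 ▸ Subgroup.mem_top x)
      refine ⟨χ, hχS, ?_⟩
      obtain ⟨β₁, M₁, hβ₁, hM₁, hM₁pm, huniq, hmult⟩ := key χ hχS
      have h8 : η = β₁ := huniq η M hM hpM
      subst h8
      obtain ⟨m, hm, hmod⟩ := hmult β N hN
      refine ⟨m, hm, ?_⟩
      intro hd
      have h9 : p ∣ M₁ * N :=
        (Nat.modEq_zero_iff_dvd).mp (hmod.symm.trans ((Nat.modEq_zero_iff_dvd).mpr hd))
      rcases (Nat.Prime.dvd_mul hp.out).mp h9 with h | h
      · exact pm_not_dvd p M₁ hM₁pm h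
      · exact hpN h
    · -- conjugacy of fixed points
      intro c c' h
      have h1 : IsConj (B.subtype (j' c)) (B.subtype (j' c')) := by
        change IsConj ((j' c : B) : G) ((j' c' : B) : G)
        rw [hj'def, hj'def]
        exact h
      exact step_conj p α hα j' hBcard hj' hC' c c' (IH.cl_conj _ _ h1)
    · -- invariant classes contain fixed points
      intro g hg
      obtain ⟨b, hb⟩ := IH.cl_fix g (fun t => hg t)
      have hb' : IsConj (b : G) g := hb
      have h1 : IsConj (B.subtype (α b)) (B.subtype b) := by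
        change IsConj ((α b : B) : G) (b : G)
        rw [hαdef]
        have h2 : IsConj (φ s (b : G)) (φ s g) :=
          (φ s : G ≃* G).toMonoidHom.map_isConj hb'
        exact (h2.trans (hg s)).trans hb'.symm
      obtain ⟨c, hc⟩ := step_fix p α hα j' hBcard hC' b (IH.cl_conj _ _ h1)
      refine ⟨c, ?_⟩
      have h3 : IsConj ((j' c : B) : G) (b : G) := B.subtype.map_isConj hc
      rw [hj'def] at h3
      exact h3.trans hb'

/-- the Glauberman correspondence for a `p`-group of operators -/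
theorem gl_pgroup (p : ℕ) [hp : Fact p.Prime] {G : Type u} [Group G] [Fintype G]
    {S : Type v} [Group S] [Finite S] {C : Type u} [Group C] [Fintype C]
    (φ : S →* MulAut G) (j : C →* G) (hS : IsPGroup p S)
    (hcop : (Fintype.card G).Coprime (Nat.card S)) (hj : Function.Injective j)
    (hC : ∀ g : G, g ∈ j.range ↔ ∀ s, φ s g = g) : GlOK p φ j := by
  obtain ⟨n, hn⟩ := IsPGroup.iff_card.mp hS
  exact gl_main p n φ j hn hcop hj hC

end Cfsg.Agent.Lib.Helper5
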