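import Mathlib
import Cfsg.Agent.Lib.Helper5.GlMain
import Cfsg.Agent.Lib.Helper1.Hall
import Cfsg.Agent.Lib.Helper4.CharExp

/-!
# Counting invariant characters and invariant classes under a coprime solvable action (helper5)

`gl_count`: if the finite solvable group `S` acts on the finite group `G` by automorphisms and
`(|G|, |S|) = 1`, then the number of `S`-invariant irreducible characters of `G` equals the number
of `S`-invariant conjugacy classes of `G`.  The proof is by induction on `|S|` through a
nontrivial normal `p`-subgroup `P` of `S`: the Glauberman correspondence `GlOK` for `P` reduces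
both counts to the fixed-point subgroup of `P`, on which `S ⧸ P` acts.
-/

set_option autoImplicit false

namespace Cfsg.Agent.Lib.Helper5

open Cfsg Cfsg.Agent.Lib

universe u v

/-- the fixed points of a normal subgroup of operators are permuted by all operators -/
theorem fixSub_inv {S G : Type*} [Group S] [Group G] (φ : S →* MulAut G) (P : Subgroup S)
    (hP : P.Normal) (w : S) (b : G) (hb : b ∈ fixSub (φ.comp P.subtype)) :
    φ w b ∈ fixSub (φ.comp P.subtype) := by
  intro t
  have h1 : w⁻¹ * (t : S) * w ∈ P := by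
    have := hP.conj_mem t t.2 w⁻¹
    simpa using this
  have h2 : φ (w⁻¹ * t * w) b = b := hb ⟨_, h1⟩
  change φ t (φ w b) = φ w b
  calc φ t (φ w b) = φ w (φ (w⁻¹ * t * w) b) := by
        rw [← MulAut.mul_apply, ← MulAut.mul_apply, ← map_mul, ← map_mul]
        congr 2
        group
    _ = φ w b := by rw [h2]

theorem gl_count_aux : ∀ (n : ℕ) {S : Type v} [Group S] [Finite S] [Group.IsSolvable S]
    {G : Type u} [Group G] [Fintype G] (φ : S →* MulAut G), Nat.card S = n →
    (Fintype.card G).Coprime (Nat.card S) →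
    Nat.card {χ : IrrCharacter G // ∀ s g, (χ : G → ℂ) (φ s g) = (χ : G → ℂ) g} =
      Nat.card {K : ConjClasses G //
        ∀ s g, ConjClasses.mk g = K → ConjClasses.mk (φ s g) = K} := by
  intro n
  induction n using Nat.strong_induction_on with
  | _ n ih =>
    intro S _ _ _ G _ _ φ hn hcop
    classical
    rcases subsingleton_or_nontrivial S with hsub | hnt
    · have h1 : ∀ s : S, φ s = 1 := fun s => by rw [Subsingleton.elim s 1, map_one]
      rw [Nat.card_congr (Equiv.subtypeUnivEquiv (fun χ s g => by rw [h1 s]; rfl)),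
        Nat.card_congr (Equiv.subtypeUnivEquiv (fun K s g hg => by rw [h1 s]; exact hg))]
      exact Helper4.card_irr
    · obtain ⟨p, P, hp, hPn, hPp, hPne⟩ := Helper1.exists_normal_pgroup (G := S)
      haveI := Fact.mk hp
      haveI := hPn
      obtain ⟨φP, hφP⟩ : ∃ φP : P →* MulAut G, φP = φ.comp P.subtype := ⟨_, rfl⟩
      obtain ⟨C₁, hC₁⟩ : ∃ C₁ : Subgroup G, C₁ = fixSub (φ.comp P.subtype) := ⟨_, rfl⟩
      have hC₁mem : ∀ g : G, g ∈ C₁ ↔ ∀ t : P, φP t g = g := by
        intro g
        rw [hC₁, hφP]
        exact Iff.rfl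
      have hC₁inv : ∀ (w : S), ∀ b ∈ C₁, φ w b ∈ C₁ := by
        intro w b hb
        rw [hC₁] at hb ⊢
        exact fixSub_inv φ P hPn w b hb
      obtain ⟨φ₁, hφ₁⟩ : ∃ φ₁ : S →* MulAut C₁, ∀ (x : S) (c : C₁), ((φ₁ x c : C₁) : G) = φ x c :=
        ⟨resAut φ C₁ hC₁inv, fun x c => rfl⟩
      have hker : ∀ x ∈ P, φ₁ x = 1 := by
        intro x hx
        apply MulEquiv.ext
        intro c
        apply Subtype.ext
        rw [hφ₁]
        have h1 := (hC₁mem c).mp c.2 ⟨x, hx⟩
        rw [hφP] at h1
        exact h1
      obtain ⟨φq, hφq⟩ : ∃ φq : S ⧸ P →* MulAut C₁, ∀ x : S, φq (QuotientGroup.mk x) = φ₁ x :=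
        ⟨QuotientGroup.lift P φ₁ hker, fun x => rfl⟩
      letI : Fintype C₁ := Fintype.ofFinite C₁
      have hPcard : Nat.card P ∣ Nat.card S := Subgroup.card_subgroup_dvd_card P
      have hcopP : (Fintype.card G).Coprime (Nat.card P) :=
        Nat.Coprime.coprime_dvd_right hPcard hcop
      have hrange : ∀ g : G, g ∈ C₁.subtype.range ↔ ∀ t : P, φP t g = g := by
        intro g
        rw [Subgroup.range_subtype]
        exact hC₁mem g
      have hOK : GlOK p φP C₁.subtype :=
        gl_pgroup p φP C₁.subtype hPp hcopP C₁.subtype_injective hrange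
      have hφPapp : ∀ (t : P) (g : G), φP t g = φ t g := by
        intro t g
        rw [hφP]
        rfl
      -- the induction hypothesis for `S ⧸ P` acting on `C₁`
      have hmul := Subgroup.card_eq_card_quotient_mul_card_subgroup P
      have hqcard : Nat.card (S ⧸ P) < n := by
        have h2 : 1 < Nat.card P := (Subgroup.one_lt_card_iff_ne_bot P).mpr hPne
        have h3 : 0 < Nat.card (S ⧸ P) := Nat.card_pos
        rw [hn] at hmul
        nlinarith
      have hcopq : (Fintype.card C₁).Coprime (Nat.card (S ⧸ P)) := by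
        have h1 : Fintype.card C₁ ∣ Fintype.card G := by
          have h2 := Subgroup.card_subgroup_dvd_card C₁
          rwa [Nat.card_eq_fintype_card, Nat.card_eq_fintype_card] at h2
        have h3 : Nat.card (S ⧸ P) ∣ Nat.card S := Dvd.intro _ hmul.symm
        exact Nat.Coprime.coprime_dvd_left h1 (Nat.Coprime.coprime_dvd_right h3 hcop)
      have IH := ih (Nat.card (S ⧸ P)) hqcard φq rfl hcopq
      -- restriction commutes with the action
      have hres : ∀ (f : G → ℂ) (x : S) (β : C₁ → ℂ),
          classInner (fun c : C₁ => f (φ x (C₁.subtype c))) (fun c => β (φ₁ x c)) =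
            classInner (fun c : C₁ => f (C₁.subtype c)) β := by
        intro f x β
        have h1 := Helper20.classInner_comp_equiv (φ₁ x : C₁ ≃* C₁)
          (fun c : C₁ => f (C₁.subtype c)) β
        have h2 : (fun c : C₁ => f (C₁.subtype ((φ₁ x : C₁ ≃* C₁) c))) =
            fun c : C₁ => f (φ x (C₁.subtype c)) := by
          funext c
          change f ((φ₁ x c : C₁) : G) = f (φ x (c : G))
          rw [hφ₁]
        rw [h2] at h1
        exact h1
      -- the bijection between invariant characters
      have hexβ : ∀ X : {χ : IrrCharacter G // ∀ s g, (χ : G → ℂ) (φ s g) = (χ : G → ℂ) g},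
          ∃ β : {β : IrrCharacter C₁ //
              ∀ (x : S ⧸ P) c, (β : C₁ → ℂ) (φq x c) = (β : C₁ → ℂ) c},
            ∃ m : ℕ, classInner (fun c : C₁ => (X.1 : G → ℂ) (C₁.subtype c)) (β.1 : C₁ → ℂ) = m ∧
              ¬ p ∣ m := by
        intro X
        obtain ⟨β₀, ⟨m, hm, hpm⟩, hdiv⟩ := hOK.ex X.1 (fun t g => by rw [hφPapp]; exact X.2 t g)
        have hinvβ : ∀ (x : S) c, (β₀ : C₁ → ℂ) (φ₁ x c) = (β₀ : C₁ → ℂ) c := by
          intro x
          by_contra hne
          let β' : IrrCharacter C₁ := ⟨fun c => (β₀ : C₁ → ℂ) (φ₁ x c),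
            Helper4.isIrrCharacter_comp_equiv (φ₁ x : C₁ ≃* C₁) β₀⟩
          have hne' : β' ≠ β₀ := fun h => hne (fun c => congrFun (congrArg Subtype.val h) c)
          obtain ⟨m', hm', hd⟩ := hdiv β' hne'
          have h1 := hres (X.1 : G → ℂ) x (β₀ : C₁ → ℂ)
          have h2 : (fun c : C₁ => (X.1 : G → ℂ) (φ x (C₁.subtype c))) =
              fun c : C₁ => (X.1 : G → ℂ) (C₁.subtype c) := funext fun c => X.2 x _
          rw [h2, hm] at h1
          have h3 : classInner (fun c : C₁ => (X.1 : G → ℂ) (C₁.subtype c)) (β' : C₁ → ℂ) = m := h1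
          rw [h3] at hm'
          have h4 : m = m' := by exact_mod_cast hm'
          exact (pm_not_dvd p m hpm) (h4 ▸ hd)
        refine ⟨⟨β₀, ?_⟩, m, hm, pm_not_dvd p m hpm⟩
        intro x c
        obtain ⟨x, rfl⟩ := QuotientGroup.mk_surjective x
        rw [hφq]
        exact hinvβ x c
      choose f hf using hexβ
      have hfinj : Function.Injective f := by
        intro X Y hXY
        obtain ⟨m, hm, hpm⟩ := hf X
        obtain ⟨m', hm', hpm'⟩ := hf Y
        rw [hXY] at hm
        exact Subtype.ext (hOK.inj X.1 Y.1 (fun t g => by rw [hφPapp]; exact X.2 t g)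
          (fun t g => by rw [hφPapp]; exact Y.2 t g) (f Y).1 m m' hm hpm hm' hpm')
      have hfsurj : Function.Surjective f := by
        intro β
        obtain ⟨χ, hχP, m, hm, hpm⟩ := hOK.surj β.1
        have hχS : ∀ s g, (χ : G → ℂ) (φ s g) = (χ : G → ℂ) g := by
          intro x
          let χx : IrrCharacter G := ⟨fun g => (χ : G → ℂ) (φ x g),
            Helper4.isIrrCharacter_comp_equiv (φ x : G ≃* G) χ⟩
          have hχxP : ∀ (t : P) g, (χx : G → ℂ) (φP t g) = (χx : G → ℂ) g := by
            intro t g
            rw [hφPapp]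
            change (χ : G → ℂ) (φ x (φ t g)) = (χ : G → ℂ) (φ x g)
            have h1 : x * (t : S) * x⁻¹ ∈ P := hPn.conj_mem t t.2 x
            have h2 : φ x (φ t g) = φ (x * t * x⁻¹) (φ x g) := by
              rw [← MulAut.mul_apply, ← MulAut.mul_apply, ← map_mul, ← map_mul]
              congr 2
              group
            rw [h2]
            have h3 := hχP ⟨_, h1⟩ (φ x g)
            rw [hφPapp] at h3
            exact h3
          have h3 : classInner (fun c : C₁ => (χx : G → ℂ) (C₁.subtype c)) (β.1 : C₁ → ℂ) = m := by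
            have h4 := hres (χ : G → ℂ) x (β.1 : C₁ → ℂ)
            have h5 : (fun c => (β.1 : C₁ → ℂ) (φ₁ x c)) = (β.1 : C₁ → ℂ) :=
              funext fun c => by
                have h6 := β.2 (QuotientGroup.mk x) c
                rw [hφq] at h6
                exact h6
            rw [h5, hm] at h4
            exact h4
          have h6 : χx = χ := hOK.inj χx χ hχxP hχP β.1 m m h3 hpm hm hpm
          intro g
          exact congrFun (congrArg Subtype.val h6) g
        refine ⟨⟨χ, hχS⟩, ?_⟩
        obtain ⟨m', hm', hpm'⟩ := hf ⟨χ, hχS⟩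
        obtain ⟨β₀, -, hdiv⟩ := hOK.ex χ hχP
        have e1 : (f ⟨χ, hχS⟩).1 = β₀ := by
          by_contra hne
          obtain ⟨m₂, hm₂, hd⟩ := hdiv _ hne
          rw [hm'] at hm₂
          have h7 : m' = m₂ := by exact_mod_cast hm₂
          exact hpm' (h7 ▸ hd)
        have e2 : β.1 = β₀ := by
          by_contra hne
          obtain ⟨m₂, hm₂, hd⟩ := hdiv _ hne
          rw [hm] at hm₂
          have h7 : m = m₂ := by exact_mod_cast hm₂
          exact hpm (h7 ▸ hd)
        exact Subtype.ext (e1.trans e2.symm)
      have hcard1 := Nat.card_congr (Equiv.ofBijective f ⟨hfinj, hfsurj⟩)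
      -- the bijection between invariant classes
      have hcard2 : Nat.card {K₁ : ConjClasses C₁ //
            ∀ (x : S ⧸ P) c, ConjClasses.mk c = K₁ → ConjClasses.mk (φq x c) = K₁} =
          Nat.card {K : ConjClasses G //
            ∀ s g, ConjClasses.mk g = K → ConjClasses.mk (φ s g) = K} := by
        have hmapinv : ∀ K₁ : {K₁ : ConjClasses C₁ //
              ∀ (x : S ⧸ P) c, ConjClasses.mk c = K₁ → ConjClasses.mk (φq x c) = K₁},
            ∀ s g, ConjClasses.mk g = ConjClasses.map C₁.subtype K₁.1 →
              ConjClasses.mk (φ s g) = ConjClasses.map C₁.subtype K₁.1 := by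
          rintro ⟨K₁, hK₁⟩ s g hg
          obtain ⟨c, rfl⟩ := ConjClasses.mk_surjective K₁
          change ConjClasses.mk g = ConjClasses.mk (c : G) at hg
          change ConjClasses.mk (φ s g) = ConjClasses.mk (c : G)
          have h1 : IsConj g (c : G) := ConjClasses.mk_eq_mk_iff_isConj.mp hg
          have h2 : IsConj (φ s g) (φ s c) := (φ s : G ≃* G).toMonoidHom.map_isConj h1
          have h3 : ConjClasses.mk (φq (QuotientGroup.mk s) c) = ConjClasses.mk c :=
            hK₁ (QuotientGroup.mk s) c rfl
          rw [hφq] at h3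
          have h4 : IsConj (φ₁ s c) c := ConjClasses.mk_eq_mk_iff_isConj.mp h3
          have h5 : IsConj ((φ₁ s c : C₁) : G) (c : G) := C₁.subtype.map_isConj h4
          rw [hφ₁] at h5
          exact ConjClasses.mk_eq_mk_iff_isConj.mpr (h2.trans h5)
        let h : {K₁ : ConjClasses C₁ //
              ∀ (x : S ⧸ P) c, ConjClasses.mk c = K₁ → ConjClasses.mk (φq x c) = K₁} →
            {K : ConjClasses G // ∀ s g, ConjClasses.mk g = K → ConjClasses.mk (φ s g) = K} :=
          fun K₁ => ⟨ConjClasses.map C₁.subtype K₁.1, hmapinv K₁⟩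
        have hinj : Function.Injective h := by
          rintro ⟨K₁, hK₁⟩ ⟨K₂, hK₂⟩ hKK
          have h1 : ConjClasses.map C₁.subtype K₁ = ConjClasses.map C₁.subtype K₂ :=
            congrArg Subtype.val hKK
          obtain ⟨c, rfl⟩ := ConjClasses.mk_surjective K₁
          obtain ⟨c', rfl⟩ := ConjClasses.mk_surjective K₂
          apply Subtype.ext
          have h2 : IsConj (C₁.subtype c) (C₁.subtype c') :=
            ConjClasses.mk_eq_mk_iff_isConj.mp h1
          exact ConjClasses.mk_eq_mk_iff_isConj.mpr (hOK.cl_conj c c' h2)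
        have hsurj : Function.Surjective h := by
          rintro ⟨K, hK⟩
          obtain ⟨g, rfl⟩ := ConjClasses.mk_surjective K
          have hgS : ∀ s, IsConj (φ s g) g := fun s =>
            ConjClasses.mk_eq_mk_iff_isConj.mp (hK s g rfl)
          obtain ⟨c, hc⟩ := hOK.cl_fix g (fun t => by rw [hφPapp]; exact hgS t)
          have hc' : IsConj (c : G) g := hc
          refine ⟨⟨ConjClasses.mk c, ?_⟩, ?_⟩
          · intro x c' hc'c
            obtain ⟨x, rfl⟩ := QuotientGroup.mk_surjective x
            rw [hφq]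
            have h1 : IsConj c' c := ConjClasses.mk_eq_mk_iff_isConj.mp hc'c
            have h2 : IsConj (c' : G) g := (C₁.subtype.map_isConj h1).trans hc'
            have h3 : IsConj (φ x (c' : G)) (φ x g) := (φ x : G ≃* G).toMonoidHom.map_isConj h2
            have h4 : IsConj (C₁.subtype (φ₁ x c')) (C₁.subtype c) := by
              change IsConj ((φ₁ x c' : C₁) : G) (c : G)
              rw [hφ₁]
              exact (h3.trans (hgS x)).trans hc'.symm
            exact ConjClasses.mk_eq_mk_iff_isConj.mpr (hOK.cl_conj _ _ h4)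
          · apply Subtype.ext
            exact ConjClasses.mk_eq_mk_iff_isConj.mpr hc'
        exact Nat.card_congr (Equiv.ofBijective h ⟨hinj, hsurj⟩)
      rw [hcard1, IH, hcard2]

/-- Under a coprime action of a finite solvable group, the number of invariant irreducible
characters equals the number of invariant conjugacy classes. -/
theorem gl_count {S : Type v} [Group S] [Finite S] [Group.IsSolvable S]
    {G : Type u} [Group G] [Fintype G] (φ : S →* MulAut G)
    (hcop : (Fintype.card G).Coprime (Nat.card S)) :
    Nat.card {χ : IrrCharacter G // ∀ s g, (χ : G → ℂ) (φ s g) = (χ : G → ℂ) g} =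
      Nat.card {K : ConjClasses G //
        ∀ s g, ConjClasses.mk g = K → ConjClasses.mk (φ s g) = K} :=
  gl_count_aux (Nat.card S) φ rfl hcop

end Cfsg.Agent.Lib.Helper5
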