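import Mathlib
import Cfsg.Agent.Lib.Helper5.GlCount
import Cfsg.Agent.Lib.Helper20.Clifford
import Cfsg.Agent.Lib.Helper20.ExtPrime
import Cfsg.Agent.Lib.Helper83.Codeg

/-!
# The Glauberman correspondence and normal subgroups (helper5)

* `irrAct`: the action of a group of operators on the irreducible characters;
* `gl_equiv1`, `gl_equiv2`: the correspondence of `GlOK` commutes with further operators;
* `clifford_hom`: Clifford's theorem for an injective homomorphism with normal range;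
* `gl_res_conv`: (Isaacs 13.29, one direction) for a `p`-group of operators, if the correspondent
  of `θ ∈ Irr(N)` lies under the correspondent of `χ ∈ Irr(G)`, then `θ` lies under `χ`;
* `gl_over`: (Isaacs 13.31) under a coprime action of a solvable group, every invariant
  irreducible character of an invariant normal subgroup lies under an invariant irreducible
  character of the group.
-/

set_option autoImplicit false

namespace Cfsg.Agent.Lib.Helper5

open Cfsg Cfsg.Agent.Lib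

universe u v

section IrrAct

variable {P N : Type*} [Group P] [Group N] [Fintype N]

/-- the action of a group of operators on the irreducible characters -/
@[instance_reducible] noncomputable def irrAct (φ : P →* MulAut N) : MulAction P (IrrCharacter N) where
  smul x η := ⟨fun n => (η : N → ℂ) (φ x⁻¹ n),
    Helper4.isIrrCharacter_comp_equiv (φ x⁻¹ : N ≃* N) η⟩
  one_smul η := by
    apply Subtype.ext
    funext n
    change (η : N → ℂ) (φ 1⁻¹ n) = (η : N → ℂ) n
    rw [inv_one, map_one, MulAut.one_apply]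
  mul_smul x y η := by
    apply Subtype.ext
    funext n
    change (η : N → ℂ) (φ (x * y)⁻¹ n) = (η : N → ℂ) (φ y⁻¹ (φ x⁻¹ n))
    rw [mul_inv_rev, map_mul, MulAut.mul_apply]

theorem irrAct_apply (φ : P →* MulAut N) (x : P) (η : IrrCharacter N) (n : N) :
    (((irrAct φ).toSMul.smul x η : IrrCharacter N) : N → ℂ) n = (η : N → ℂ) (φ x⁻¹ n) := rfl

theorem irrAct_fixed_iff (φ : P →* MulAut N) (η : IrrCharacter N) :
    (∀ x : P, (irrAct φ).toSMul.smul x η = η) ↔
      ∀ x n, (η : N → ℂ) (φ x n) = (η : N → ℂ) n := by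
  constructor
  · intro h x n
    have h1 := congrFun (congrArg Subtype.val (h x⁻¹)) n
    change (η : N → ℂ) (φ x⁻¹⁻¹ n) = (η : N → ℂ) n at h1
    rw [inv_inv] at h1
    exact h1
  · intro h x
    apply Subtype.ext
    funext n
    exact h x⁻¹ n

theorem irrAct_inner (φ : P →* MulAut N) (ψ : N → ℂ) (hψ : ∀ x n, ψ (φ x n) = ψ n) (x : P)
    (η : IrrCharacter N) :
    classInner ψ (((irrAct φ).toSMul.smul x η : IrrCharacter N) : N → ℂ) =
      classInner ψ (η : N → ℂ) := by
  have h1 := Helper20.classInner_comp_equiv (φ x⁻¹ : N ≃* N) ψ (η : N → ℂ)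
  have h2 : (fun n => ψ ((φ x⁻¹ : N ≃* N) n)) = ψ := funext fun n => hψ x⁻¹ n
  rw [h2] at h1
  exact h1

theorem irrAct_deg (φ : P →* MulAut N) (x : P) (η : IrrCharacter N) :
    charDegree (((irrAct φ).toSMul.smul x η : IrrCharacter N) : N → ℂ) =
      charDegree (η : N → ℂ) := by
  have h1 : ((charDegree (((irrAct φ).toSMul.smul x η : IrrCharacter N) : N → ℂ) : ℕ) : ℂ) =
      (charDegree (η : N → ℂ) : ℂ) := by
    rw [← (Helper83.irr_degree ((irrAct φ).toSMul.smul x η).2).2, ← (Helper83.irr_degree η.2).2]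
    exact congrArg (η : N → ℂ) (map_one (φ x⁻¹))
  exact_mod_cast h1

end IrrAct

/-- the correspondent of an invariant character is invariant -/
theorem gl_equiv1 (p : ℕ) {S G C : Type*} [Group S] [Group G] [Group C]
    [Fintype C] (φ : S →* MulAut G) (φC : S →* MulAut C) (P : Subgroup S) (j : C →* G)
    (hcompat : ∀ x c, j (φC x c) = φ x (j c)) (hOK : GlOK p (φ.comp P.subtype) j)
    (χ : IrrCharacter G) (hχ : ∀ s g, (χ : G → ℂ) (φ s g) = (χ : G → ℂ) g)
    (β : IrrCharacter C) (m : ℕ) (hm : classInner (fun c => (χ : G → ℂ) (j c)) (β : C → ℂ) = m)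
    (hpm : ¬ p ∣ m) (x : S) (c : C) : (β : C → ℂ) (φC x c) = (β : C → ℂ) c := by
  obtain ⟨β₀, -, hdiv⟩ := hOK.ex χ (fun t g => hχ t g)
  have huniq : ∀ (β' : IrrCharacter C),
      classInner (fun c => (χ : G → ℂ) (j c)) (β' : C → ℂ) = m → β' = β₀ := by
    intro β' hm'
    by_contra hne
    obtain ⟨m₂, hm₂, hd⟩ := hdiv β' hne
    rw [hm'] at hm₂
    have h7 : m = m₂ := by exact_mod_cast hm₂
    exact hpm (h7 ▸ hd)
  let β' : IrrCharacter C := ⟨fun c => (β : C → ℂ) (φC x c),
    Helper4.isIrrCharacter_comp_equiv (φC x : C ≃* C) β⟩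
  have h1 := Helper20.classInner_comp_equiv (φC x : C ≃* C) (fun c => (χ : G → ℂ) (j c))
    (β : C → ℂ)
  have h2 : (fun c => (χ : G → ℂ) (j ((φC x : C ≃* C) c))) = fun c => (χ : G → ℂ) (j c) := by
    funext c
    rw [hcompat, hχ]
  rw [h2, hm] at h1
  have h3 : β' = β₀ := huniq β' h1
  have h4 : β = β₀ := huniq β hm
  have h5 : β' = β := h3.trans h4.symm
  exact congrFun (congrArg Subtype.val h5) c

/-- a character whose correspondent is invariant is invariant -/
theorem gl_equiv2 (p : ℕ) {S G C : Type*} [Group S] [Group G] [Group C]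
    [Fintype G] [Fintype C] (φ : S →* MulAut G) (φC : S →* MulAut C) (P : Subgroup S)
    (hPn : P.Normal) (j : C →* G)
    (hcompat : ∀ x c, j (φC x c) = φ x (j c)) (hOK : GlOK p (φ.comp P.subtype) j)
    (χ : IrrCharacter G) (hχP : ∀ (t : P) g, (χ : G → ℂ) (φ t g) = (χ : G → ℂ) g)
    (β : IrrCharacter C) (hβ : ∀ x c, (β : C → ℂ) (φC x c) = (β : C → ℂ) c)
    (m : ℕ) (hm : classInner (fun c => (χ : G → ℂ) (j c)) (β : C → ℂ) = m) (hpm : ¬ p ∣ m)
    (x : S) (g : G) : (χ : G → ℂ) (φ x g) = (χ : G → ℂ) g := by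
  let χx : IrrCharacter G := ⟨fun g => (χ : G → ℂ) (φ x g),
    Helper4.isIrrCharacter_comp_equiv (φ x : G ≃* G) χ⟩
  have hχxP : ∀ (t : P) g, (χx : G → ℂ) ((φ.comp P.subtype) t g) = (χx : G → ℂ) g := by
    intro t g
    change (χ : G → ℂ) (φ x (φ t g)) = (χ : G → ℂ) (φ x g)
    have h1 : x * (t : S) * x⁻¹ ∈ P := hPn.conj_mem t t.2 x
    have h2 : φ x (φ t g) = φ (x * t * x⁻¹) (φ x g) := by
      rw [← MulAut.mul_apply, ← MulAut.mul_apply, ← map_mul, ← map_mul]
      congr 2
      group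
    rw [h2]
    exact hχP ⟨_, h1⟩ (φ x g)
  have h3 : classInner (fun c => (χx : G → ℂ) (j c)) (β : C → ℂ) = m := by
    have h4 := Helper20.classInner_comp_equiv (φC x : C ≃* C) (fun c => (χ : G → ℂ) (j c))
      (β : C → ℂ)
    have h5 : (fun c => (β : C → ℂ) ((φC x : C ≃* C) c)) = (β : C → ℂ) := funext fun c => hβ x c
    have h6 : (fun c => (χ : G → ℂ) (j ((φC x : C ≃* C) c))) = fun c => (χx : G → ℂ) (j c) := by
      funext c
      rw [hcompat]
    rw [h5, h6, hm] at h4
    exact h4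
  have h7 : χx = χ := hOK.inj χx χ hχxP hχP β m m h3 hpm hm hpm
  exact congrFun (congrArg Subtype.val h7) g

/-- Clifford's theorem for an injective homomorphism with normal range -/
theorem clifford_hom {C D : Type*} [Group C] [Fintype C] [Group D] [Fintype D] (jC : D →* C)
    (hjC : Function.Injective jC) (hnorm : (jC.range).Normal) (β : IrrCharacter C)
    (δ δ' : IrrCharacter D) (h1 : classInner (fun d => (β : C → ℂ) (jC d)) (δ : D → ℂ) ≠ 0)
    (h2 : classInner (fun d => (β : C → ℂ) (jC d)) (δ' : D → ℂ) ≠ 0) :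
    ∃ (c : C) (κ : D ≃* D), (∀ d, jC (κ d) = c * jC d * c⁻¹) ∧
      ∀ d, (δ' : D → ℂ) d = (δ : D → ℂ) (κ d) := by
  classical
  haveI := hnorm
  letI : Fintype jC.range := Fintype.ofFinite _
  let eD : D ≃* jC.range := MonoidHom.ofInjective hjC
  have heD : ∀ d, ((eD d : jC.range) : C) = jC d := fun d => rfl
  have hirr : IsIrrCharacter jC.range (fun r => (δ : D → ℂ) (eD.symm r)) :=
    Helper4.isIrrCharacter_comp_equiv eD.symm δ
  have hirr' : IsIrrCharacter jC.range (fun r => (δ' : D → ℂ) (eD.symm r)) :=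
    Helper4.isIrrCharacter_comp_equiv eD.symm δ'
  have htr : ∀ ξ : IrrCharacter D,
      classInner (fun r : jC.range => (β : C → ℂ) r) (fun r => (ξ : D → ℂ) (eD.symm r)) =
        classInner (fun d => (β : C → ℂ) (jC d)) (ξ : D → ℂ) := by
    intro ξ
    have h3 := Helper20.classInner_comp_equiv eD (fun r : jC.range => (β : C → ℂ) r)
      (fun r => (ξ : D → ℂ) (eD.symm r))
    rw [← h3]
    congr 1
    funext d
    rw [MulEquiv.symm_apply_apply]
  obtain ⟨c, hc⟩ := Helper20.clifford_conj jC.range hirr β.2 (by rw [htr]; exact h1) hirr'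
    (by rw [htr]; exact h2)
  let κ : D ≃* D := eD.trans ((MulAut.conjNormal c : jC.range ≃* jC.range).trans eD.symm)
  have hκ : ∀ d, eD (κ d) = (MulAut.conjNormal c : jC.range ≃* jC.range) (eD d) := by
    intro d
    change eD (eD.symm ((MulAut.conjNormal c : jC.range ≃* jC.range) (eD d))) = _
    rw [MulEquiv.apply_symm_apply]
  refine ⟨c, κ, ?_, ?_⟩
  · intro d
    rw [← heD, hκ, MulAut.conjNormal_apply, heD]
  · intro d
    have h4 := congrFun hc (eD d)
    rw [Helper20.conjFun_apply] at h4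
    simp only [MulEquiv.symm_apply_apply] at h4
    rw [h4]
    congr 1

/-- (Isaacs 13.29, one direction, for a `p`-group of operators) if the Glauberman correspondent
`δ` of `θ ∈ Irr(N)` lies under the Glauberman correspondent `β` of `χ ∈ Irr(G)`, then `θ` lies
under `χ`. -/
theorem gl_res_conv (p : ℕ) [hp : Fact p.Prime] {P : Type*} [Group P] (hP : IsPGroup p P)
    {G : Type*} [Group G] [Fintype G] (N : Subgroup G) [hN : N.Normal] [Fintype N]
    (φ : P →* MulAut G) (φN : P →* MulAut N) (hφN : ∀ x n, ((φN x n : N) : G) = φ x n)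
    {C D : Type*} [Group C] [Fintype C] [Group D] [Fintype D]
    (iC : C →* G) (jN : D →* N) (jC : D →* C)
    (hsq : ∀ d, iC (jC d) = (jN d : G))
    (hiC : Function.Injective iC) (hjN : Function.Injective jN)
    (hfixC : ∀ g : G, g ∈ iC.range ↔ ∀ x, φ x g = g)
    (hfixD : ∀ n : N, n ∈ jN.range ↔ ∀ x, φN x n = n)
    (hG : ¬ p ∣ Fintype.card G)
    (hOKG : GlOK p φ iC) (hOKN : GlOK p φN jN)
    (χ : IrrCharacter G) (hχ : ∀ x g, (χ : G → ℂ) (φ x g) = (χ : G → ℂ) g)
    (θ : IrrCharacter N) (hθ : ∀ x n, (θ : N → ℂ) (φN x n) = (θ : N → ℂ) n)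
    (β : IrrCharacter C) (e : ℕ)
    (he : classInner (fun c => (χ : G → ℂ) (iC c)) (β : C → ℂ) = e) (hpe : ¬ p ∣ e)
    (δ : IrrCharacter D) (f : ℕ)
    (hf : classInner (fun d => (θ : N → ℂ) (jN d)) (δ : D → ℂ) = f) (hpf : ¬ p ∣ f)
    (hβδ : classInner (fun d => (β : C → ℂ) (jC d)) (δ : D → ℂ) ≠ 0) :
    classInner (fun n : N => (χ : G → ℂ) n) (θ : N → ℂ) ≠ 0 := by
  classical
  have hfinN := Helper4.irr_finite (G := N)
  letI : Fintype (IrrCharacter N) := Fintype.ofFinite _
  -- the restriction of `χ` to `N`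
  have hψ : IsCharacter N (fun n : N => (χ : G → ℂ) n) :=
    Helper35.isCharacter_res N (Helper35.isChar_of_irr χ.2)
  have hψinv : ∀ x n, (fun n : N => (χ : G → ℂ) n) (φN x n) = (fun n : N => (χ : G → ℂ) n) n := by
    intro x n
    change (χ : G → ℂ) ((φN x n : N) : G) = (χ : G → ℂ) (n : G)
    rw [hφN]
    exact hχ x n
  obtain ⟨mm, hmm⟩ := Helper4.exists_decomp_of_isCharacter _ hψ
  have hmm' : ∀ η : IrrCharacter N,
      classInner (fun n : N => (χ : G → ℂ) n) (η : N → ℂ) = mm η := by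
    intro η
    rw [hmm, Helper4.classInner_sum_irr]
  have hmminv : ∀ (x : P) (η : IrrCharacter N), mm ((irrAct φN).toSMul.smul x η) = mm η := by
    intro x η
    have h1 := irrAct_inner φN (fun n : N => (χ : G → ℂ) n) hψinv x η
    rw [hmm' η, hmm'] at h1
    exact_mod_cast h1
  -- Step 1: a `P`-invariant constituent `θ'` of `χ_N` with multiplicity prime to `p`
  have hdeg : charDegree (χ : G → ℂ) = ∑ η : IrrCharacter N, mm η * charDegree (η : N → ℂ) := by
    have h1 := congrFun hmm 1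
    simp only [Finset.sum_apply, Pi.smul_apply, smul_eq_mul] at h1
    have h2 : ((1 : N) : G) = 1 := rfl
    rw [h2, (Helper83.irr_degree χ.2).2] at h1
    have h3 : ∀ η : IrrCharacter N, (η : N → ℂ) 1 = (charDegree (η : N → ℂ) : ℂ) := fun η =>
      (Helper83.irr_degree η.2).2
    simp only [h3] at h1
    exact_mod_cast h1
  have hpdeg : ¬ p ∣ charDegree (χ : G → ℂ) := fun h => hG (dvd_trans h (by
    have h1 := Helper83.irr_degree_dvd_card' χ.2
    rwa [Nat.card_eq_fintype_card] at h1))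
  have hQ : ∀ η : IrrCharacter N, (∀ x n, (η : N → ℂ) (φN x n) = (η : N → ℂ) n) ↔
      ∀ g : P, (irrAct φN).toSMul.smul g η = η := fun η => (irrAct_fixed_iff φN η).symm
  have hsum1 := @sum_modEq_fixed P (IrrCharacter N) _ (irrAct φN) _ p _ hP
    (fun η => mm η * charDegree (η : N → ℂ)) (fun g η => by
      change mm ((irrAct φN).toSMul.smul g η) *
        charDegree (((irrAct φN).toSMul.smul g η : IrrCharacter N) : N → ℂ) =
          mm η * charDegree (η : N → ℂ)
      rw [hmminv, irrAct_deg])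
    (fun η => ∀ x n, (η : N → ℂ) (φN x n) = (η : N → ℂ) n) _ hQ
  obtain ⟨θ', hθ'inv, hθ'p⟩ : ∃ θ' : IrrCharacter N,
      (∀ x n, (θ' : N → ℂ) (φN x n) = (θ' : N → ℂ) n) ∧ ¬ p ∣ mm θ' := by
    by_contra hcon
    push Not at hcon
    apply hpdeg
    rw [hdeg]
    apply (Nat.modEq_zero_iff_dvd).mp
    refine hsum1.trans ((Nat.modEq_zero_iff_dvd).mpr (Finset.dvd_sum fun η _ => ?_))
    by_cases hq : ∀ x n, (η : N → ℂ) (φN x n) = (η : N → ℂ) n
    · rw [if_pos hq]
      exact Dvd.dvd.mul_right (hcon η hq) _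
    · rw [if_neg hq]
      exact dvd_zero p
  -- Step 2: the correspondent `δ'` of `θ'` lies under `β`
  obtain ⟨δ', ⟨f', hf', hf'pm⟩, -⟩ := hOKN.ex θ' hθ'inv
  have hpf' := pm_not_dvd p f' hf'pm
  obtain ⟨β₀, -, hdivC⟩ := hOKG.ex χ hχ
  have hβ₀ : β₀ = β := by
    by_contra hne
    obtain ⟨m₂, hm₂, hd⟩ := hdivC β (fun h => hne h.symm)
    rw [he] at hm₂
    have h7 : e = m₂ := by exact_mod_cast hm₂
    exact hpe (h7 ▸ hd)
  subst hβ₀
  obtain ⟨N', hN'⟩ := Helper35.classInner_char_nat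
    (Helper20.isCharacter_comp jC (Helper35.isChar_of_irr β₀.2)) (Helper35.isChar_of_irr δ'.2)
  obtain ⟨m₁, hm₁, hmod₁⟩ := mult_mod p iC jC (χ : G → ℂ) (Helper35.isChar_of_irr χ.2) β₀ e he
    hdivC δ' N' hN'
  have hnn : ∀ η : IrrCharacter N, ∃ k : ℕ,
      classInner (fun d => (η : N → ℂ) (jN d)) (δ' : D → ℂ) = k := fun η =>
    Helper35.classInner_char_nat (Helper20.isCharacter_comp jN (Helper35.isChar_of_irr η.2))
      (Helper35.isChar_of_irr δ'.2)
  choose nn hnn using hnn
  have hnninv : ∀ (x : P) (η : IrrCharacter N), nn ((irrAct φN).toSMul.smul x η) = nn η := by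
    intro x η
    have h1 := hnn ((irrAct φN).toSMul.smul x η)
    have h2 : (fun d => (((irrAct φN).toSMul.smul x η : IrrCharacter N) : N → ℂ) (jN d)) =
        fun d => (η : N → ℂ) (jN d) := by
      funext d
      change (η : N → ℂ) (φN x⁻¹ (jN d)) = (η : N → ℂ) (jN d)
      rw [(hfixD (jN d)).mp ⟨d, rfl⟩ x⁻¹]
    rw [h2, hnn η] at h1
    exact_mod_cast h1.symm
  have hm₁eq : m₁ = ∑ η : IrrCharacter N, mm η * nn η := by
    have hm₁' : (m₁ : ℂ) = ((∑ η : IrrCharacter N, mm η * nn η : ℕ) : ℂ) := by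
      rw [← hm₁]
      have h1 : (fun d => (χ : G → ℂ) (iC (jC d))) =
          ∑ η : IrrCharacter N, (mm η : ℂ) • (fun d => (η : N → ℂ) (jN d)) := by
        funext d
        have h2 := congrFun hmm (jN d)
        simp only [Finset.sum_apply, Pi.smul_apply, smul_eq_mul] at h2 ⊢
        rw [hsq]
        exact h2
      rw [h1, Helper83.classInner_sum_left]
      push_cast
      apply Finset.sum_congr rfl
      intro η _
      rw [Helper83.classInner_smul_left, hnn]
    exact_mod_cast hm₁'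
  have hsum2 := @sum_modEq_fixed P (IrrCharacter N) _ (irrAct φN) _ p _ hP
    (fun η => mm η * nn η) (fun g η => by
      change mm ((irrAct φN).toSMul.smul g η) * nn ((irrAct φN).toSMul.smul g η) = mm η * nn η
      rw [hmminv, hnninv])
    (fun η => ∀ x n, (η : N → ℂ) (φN x n) = (η : N → ℂ) n) _ hQ
  have hnnθ' : nn θ' = f' := by
    have h1 := hnn θ'
    rw [hf'] at h1
    exact_mod_cast h1.symm
  have hsum3 : ∑ η : IrrCharacter N,
      (if (∀ x n, (η : N → ℂ) (φN x n) = (η : N → ℂ) n) then mm η * nn η else 0) ≡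
        mm θ' * f' [MOD p] := by
    rw [← Finset.add_sum_erase Finset.univ _ (Finset.mem_univ θ'), if_pos hθ'inv, hnnθ']
    have h4 : ∑ η ∈ Finset.univ.erase θ',
        (if (∀ x n, (η : N → ℂ) (φN x n) = (η : N → ℂ) n) then mm η * nn η else 0) ≡
          0 [MOD p] := by
      apply (Nat.modEq_zero_iff_dvd).mpr
      apply Finset.dvd_sum
      intro η hη
      by_cases hq : ∀ x n, (η : N → ℂ) (φN x n) = (η : N → ℂ) n
      · rw [if_pos hq]
        apply Dvd.dvd.mul_left
        by_contra hnd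
        exact (Finset.ne_of_mem_erase hη)
          (hOKN.inj η θ' hq hθ'inv δ' (nn η) f' (hnn η) hnd hf' hpf')
      · rw [if_neg hq]
        exact dvd_zero p
    simpa using Nat.ModEq.add_left (mm θ' * f') h4
  have hN'ne : N' ≠ 0 := by
    intro h0
    have h5 : m₁ ≡ 0 [MOD p] := by
      rw [h0, mul_zero] at hmod₁
      exact hmod₁
    rw [hm₁eq] at h5
    have h6 : mm θ' * f' ≡ 0 [MOD p] := hsum3.symm.trans (hsum2.symm.trans h5)
    rcases (Nat.Prime.dvd_mul hp.out).mp ((Nat.modEq_zero_iff_dvd).mp h6) with h | h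
    · exact hθ'p h
    · exact hpf' h
  have hβδ' : classInner (fun d => (β₀ : C → ℂ) (jC d)) (δ' : D → ℂ) ≠ 0 := by
    rw [hN']
    exact_mod_cast hN'ne
  -- Step 3: Clifford's theorem in `C`
  have hjC : Function.Injective jC := by
    intro d d' h
    apply hjN
    apply Subtype.ext
    rw [← hsq, ← hsq, h]
  have hfixjN : ∀ (d : D) (x : P), φ x (jN d : G) = (jN d : G) := by
    intro d x
    have h1 := congrArg Subtype.val ((hfixD (jN d)).mp ⟨d, rfl⟩ x)
    rw [hφN] at h1
    exact h1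
  have hnormal : (jC.range).Normal := by
    constructor
    rintro _ ⟨d, rfl⟩ c
    have hg : ∀ x, φ x (iC c) = iC c := (hfixC (iC c)).mp ⟨c, rfl⟩
    have hmem : iC c * (jN d : G) * (iC c)⁻¹ ∈ N := hN.conj_mem _ (jN d).2 _
    have hfix : ∀ x, φN x ⟨_, hmem⟩ = ⟨_, hmem⟩ := by
      intro x
      apply Subtype.ext
      rw [hφN]
      change φ x (iC c * (jN d : G) * (iC c)⁻¹) = iC c * (jN d : G) * (iC c)⁻¹
      rw [map_mul, map_mul, map_inv, hg x, hfixjN d x]
    obtain ⟨d', hd'⟩ := (hfixD ⟨_, hmem⟩).mpr hfix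
    refine ⟨d', hiC ?_⟩
    rw [hsq, hd', map_mul, map_mul, map_inv, hsq]
  obtain ⟨c, κ, hκ, hδ'⟩ := clifford_hom jC hjC hnormal β₀ δ δ' hβδ hβδ'
  -- Step 4: the conjugate of `θ` by `c` is `θ'`
  obtain ⟨g, hgdef⟩ : ∃ g : G, g = iC c := ⟨_, rfl⟩
  have hg : ∀ x, φ x g = g := (hfixC g).mp ⟨c, hgdef.symm⟩
  let θg : IrrCharacter N := ⟨Helper20.conjFun N (θ : N → ℂ) g, Helper20.conjFun_irr N θ.2 g⟩
  have hθgapp : ∀ n : N, (θg : N → ℂ) n =
      (θ : N → ℂ) ⟨g * (n : G) * g⁻¹, hN.conj_mem (n : G) n.2 g⟩ := fun n => rfl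
  have hθginv : ∀ x n, (θg : N → ℂ) (φN x n) = (θg : N → ℂ) n := by
    intro x n
    rw [hθgapp, hθgapp]
    have h1 : (⟨g * ((φN x n : N) : G) * g⁻¹, hN.conj_mem _ (φN x n).2 g⟩ : N) =
        φN x ⟨g * (n : G) * g⁻¹, hN.conj_mem _ n.2 g⟩ := by
      apply Subtype.ext
      have e1 : ((φN x n : N) : G) = φ x n := hφN x n
      have e2 : ((φN x ⟨g * (n : G) * g⁻¹, hN.conj_mem _ n.2 g⟩ : N) : G) =
          φ x (g * (n : G) * g⁻¹) := hφN x _
      change g * ((φN x n : N) : G) * g⁻¹ =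
        ((φN x ⟨g * (n : G) * g⁻¹, hN.conj_mem _ n.2 g⟩ : N) : G)
      rw [e1, e2, map_mul, map_mul, map_inv, hg x]
    rw [h1, hθ]
  have hθgδ' : classInner (fun d => (θg : N → ℂ) (jN d)) (δ' : D → ℂ) = f := by
    have h1 := Helper20.classInner_comp_equiv κ (fun d => (θ : N → ℂ) (jN d)) (δ : D → ℂ)
    rw [hf] at h1
    have h2 : (fun d => (δ : D → ℂ) (κ d)) = (δ' : D → ℂ) := funext fun d => (hδ' d).symm
    have h3 : (fun d => (θ : N → ℂ) (jN (κ d))) = fun d => (θg : N → ℂ) (jN d) := by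
      funext d
      rw [hθgapp]
      refine congrArg (θ : N → ℂ) (Subtype.ext ?_)
      change ((jN (κ d) : N) : G) = g * (jN d : G) * g⁻¹
      rw [← hsq, hκ, map_mul, map_mul, map_inv, hsq, hgdef]
    rw [h2, h3] at h1
    exact h1
  have hθeq : θg = θ' := hOKN.inj θg θ' hθginv hθ'inv δ' f f' hθgδ' hpf hf' hpf'
  -- Step 5
  have h5 := Helper20.classInner_res_conjFun N
    (Helper35.isClassFunction_of_isCharacter (Helper35.isChar_of_irr χ.2)) (θ : N → ℂ) g
  rw [← h5]
  have h6 : Helper20.conjFun N (θ : N → ℂ) g = (θ' : N → ℂ) := congrArg Subtype.val hθeq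
  rw [h6, hmm' θ']
  intro h0
  have h7 : mm θ' = 0 := by exact_mod_cast h0
  exact hθ'p (h7 ▸ dvd_zero p)

theorem gl_over_aux : ∀ (n : ℕ) {S : Type v} [Group S] [Finite S] [Group.IsSolvable S]
    {G : Type u} [Group G] [Fintype G] (N : Subgroup G) [N.Normal] [Fintype N]
    (φ : S →* MulAut G) (φN : S →* MulAut N) (_ : ∀ x n, ((φN x n : N) : G) = φ x n),
    Nat.card S = n → (Fintype.card G).Coprime (Nat.card S) →
    ∀ θ : IrrCharacter N, (∀ x n, (θ : N → ℂ) (φN x n) = (θ : N → ℂ) n) →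
    ∃ χ : IrrCharacter G, (∀ x g, (χ : G → ℂ) (φ x g) = (χ : G → ℂ) g) ∧
      classInner (fun n : N => (χ : G → ℂ) n) (θ : N → ℂ) ≠ 0 := by
  intro n
  induction n using Nat.strong_induction_on with
  | _ n ih =>
    intro S _ _ _ G _ _ N hNn _ φ φN hφN hn hcop θ hθ
    classical
    rcases subsingleton_or_nontrivial S with hsub | hnt
    · obtain ⟨χ, hχ, hne⟩ := Helper20.exists_irr_over N θ.2
      refine ⟨⟨χ, hχ⟩, fun x g => ?_, hne⟩
      rw [Subsingleton.elim x 1, map_one, MulAut.one_apply]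
    · obtain ⟨p, P, hp, hPn, hPp, hPne⟩ := Helper1.exists_normal_pgroup (G := S)
      haveI := Fact.mk hp
      haveI := hPn
      obtain ⟨φP, hφPdef⟩ : ∃ φP : P →* MulAut G, φP = φ.comp P.subtype := ⟨_, rfl⟩
      have hφP : ∀ (t : P) (g : G), φP t g = φ t g := by
        intro t g
        rw [hφPdef]
        rfl
      obtain ⟨C₁, hC₁⟩ : ∃ C₁ : Subgroup G, C₁ = fixSub (φ.comp P.subtype) := ⟨_, rfl⟩
      have hC₁mem : ∀ g : G, g ∈ C₁ ↔ ∀ t : P, φP t g = g := by
        intro g
        rw [hC₁, hφPdef]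
        exact Iff.rfl
      have hC₁inv : ∀ (w : S), ∀ b ∈ C₁, φ w b ∈ C₁ := by
        intro w b hb
        rw [hC₁] at hb ⊢
        exact fixSub_inv φ P hPn w b hb
      obtain ⟨φ₁, hφ₁⟩ : ∃ φ₁ : S →* MulAut C₁, ∀ (x : S) (c : C₁), ((φ₁ x c : C₁) : G) = φ x c :=
        ⟨resAut φ C₁ hC₁inv, fun x c => rfl⟩
      have hker : ∀ x ∈ P, φ₁ x = 1 := by
        intro x hx
        apply MulEquiv.ext
        intro c
        apply Subtype.ext
        rw [hφ₁]
        have h1 := (hC₁mem c).mp c.2 ⟨x, hx⟩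
        rw [hφP] at h1
        exact h1
      obtain ⟨φq, hφq⟩ : ∃ φq : S ⧸ P →* MulAut C₁, ∀ x : S, φq (QuotientGroup.mk x) = φ₁ x :=
        ⟨QuotientGroup.lift P φ₁ hker, fun x => rfl⟩
      letI : Fintype C₁ := Fintype.ofFinite C₁
      -- the fixed points of `P` in `N`, as a subgroup of `C₁`
      obtain ⟨N₁, hN₁mem⟩ : ∃ N₁ : Subgroup C₁, ∀ c : C₁, c ∈ N₁ ↔ (c : G) ∈ N :=
        ⟨N.subgroupOf C₁, fun c => Subgroup.mem_subgroupOf⟩
      have hN₁n : N₁.Normal := by
        constructor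
        intro n hn c
        rw [hN₁mem] at hn ⊢
        exact hNn.conj_mem _ hn _
      letI : Fintype N₁ := Fintype.ofFinite N₁
      have hN₁inv : ∀ (x : S), ∀ c ∈ N₁, φ₁ x c ∈ N₁ := by
        intro x c hc
        rw [hN₁mem] at hc ⊢
        rw [hφ₁]
        have h1 := (φN x ⟨(c : G), hc⟩).2
        rw [hφN] at h1
        exact h1
      obtain ⟨φN₁, hφN₁⟩ : ∃ φN₁ : S →* MulAut N₁,
          ∀ (x : S) (c : N₁), ((φN₁ x c : N₁) : C₁) = φ₁ x c :=
        ⟨resAut φ₁ N₁ hN₁inv, fun x c => rfl⟩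
      have hkerN : ∀ x ∈ P, φN₁ x = 1 := by
        intro x hx
        apply MulEquiv.ext
        intro c
        apply Subtype.ext
        rw [hφN₁, hker x hx]
        rfl
      obtain ⟨φN₁q, hφN₁q⟩ : ∃ φN₁q : S ⧸ P →* MulAut N₁,
          ∀ x : S, φN₁q (QuotientGroup.mk x) = φN₁ x :=
        ⟨QuotientGroup.lift P φN₁ hkerN, fun x => rfl⟩
      have hcompatq : ∀ (x : S ⧸ P) (c : N₁), ((φN₁q x c : N₁) : C₁) = φq x c := by
        intro x c
        obtain ⟨x, rfl⟩ := QuotientGroup.mk_surjective x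
        rw [hφN₁q, hφq, hφN₁]
      obtain ⟨jN, hjN⟩ : ∃ jN : N₁ →* N, ∀ c : N₁, ((jN c : N) : G) = ((c : C₁) : G) :=
        ⟨(C₁.subtype.comp N₁.subtype).codRestrict N (fun c => (hN₁mem c).mp c.2), fun c => rfl⟩
      have hjNinj : Function.Injective jN := by
        intro c c' h
        apply Subtype.ext
        apply Subtype.ext
        rw [← hjN, ← hjN, h]
      obtain ⟨φNP, hφNPdef⟩ : ∃ φNP : P →* MulAut N, φNP = φN.comp P.subtype := ⟨_, rfl⟩
      have hφNP : ∀ (t : P) (n : N), φNP t n = φN t n := by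
        intro t n
        rw [hφNPdef]
        rfl
      have hfixD : ∀ n : N, n ∈ jN.range ↔ ∀ t : P, φNP t n = n := by
        intro n
        constructor
        · rintro ⟨c, rfl⟩ t
          apply Subtype.ext
          rw [hφNP, hφN, hjN]
          have h1 := (hC₁mem (c : C₁)).mp (c : C₁).2 t
          rw [hφP] at h1
          exact h1
        · intro h
          have hc : (n : G) ∈ C₁ := by
            rw [hC₁mem]
            intro t
            have h1 := congrArg Subtype.val (h t)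
            rw [hφNP, hφN] at h1
            rw [hφP]
            exact h1
          have hc' : (⟨(n : G), hc⟩ : C₁) ∈ N₁ := (hN₁mem _).mpr n.2
          exact ⟨⟨⟨(n : G), hc⟩, hc'⟩, Subtype.ext (by rw [hjN])⟩
      -- orders
      have hPcard : Nat.card P ∣ Nat.card S := Subgroup.card_subgroup_dvd_card P
      have hcopP : (Fintype.card G).Coprime (Nat.card P) :=
        Nat.Coprime.coprime_dvd_right hPcard hcop
      have hNcard : Fintype.card N ∣ Fintype.card G := by
        have h2 := Subgroup.card_subgroup_dvd_card N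
        rwa [Nat.card_eq_fintype_card, Nat.card_eq_fintype_card] at h2
      have hcopNP : (Fintype.card N).Coprime (Nat.card P) :=
        Nat.Coprime.coprime_dvd_left hNcard hcopP
      have hG : ¬ p ∣ Fintype.card G := by
        obtain ⟨k, hk⟩ := IsPGroup.iff_card.mp hPp
        have hk0 : k ≠ 0 := by
          intro h0
          rw [h0, pow_zero] at hk
          exact hPne (Subgroup.card_eq_one.mp hk)
        have h1 : p ∣ Nat.card P := by
          rw [hk]
          exact dvd_pow_self p hk0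
        intro h2
        have h3 : p ∣ Nat.gcd (Fintype.card G) (Nat.card P) := Nat.dvd_gcd h2 h1
        rw [hcopP] at h3
        exact hp.one_lt.ne' (Nat.dvd_one.mp h3)
      have hrange : ∀ g : G, g ∈ C₁.subtype.range ↔ ∀ t : P, φP t g = g := by
        intro g
        rw [Subgroup.range_subtype]
        exact hC₁mem g
      have hOKG : GlOK p φP C₁.subtype :=
        gl_pgroup p φP C₁.subtype hPp hcopP C₁.subtype_injective hrange
      have hOKN : GlOK p φNP jN := gl_pgroup p φNP jN hPp hcopNP hjNinj hfixD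
      -- the correspondent of `θ`
      obtain ⟨δ, ⟨f, hf, hfpm⟩, -⟩ := hOKN.ex θ (fun t n => by rw [hφNP]; exact hθ t n)
      have hpf := pm_not_dvd p f hfpm
      have hδinv : ∀ (x : S) (c : N₁), (δ : N₁ → ℂ) (φN₁ x c) = (δ : N₁ → ℂ) c :=
        gl_equiv1 p φN φN₁ P jN (fun x c => by
          apply Subtype.ext
          rw [hjN, hφN₁, hφ₁, hφN, hjN]) (hφNPdef ▸ hOKN) θ hθ δ f hf hpf
      -- the induction hypothesis for `S ⧸ P` acting on `C₁`
      have hmul := Subgroup.card_eq_card_quotient_mul_card_subgroup P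
      have hqcard : Nat.card (S ⧸ P) < n := by
        have h2 : 1 < Nat.card P := (Subgroup.one_lt_card_iff_ne_bot P).mpr hPne
        have h3 : 0 < Nat.card (S ⧸ P) := Nat.card_pos
        rw [hn] at hmul
        nlinarith
      have hcopq : (Fintype.card C₁).Coprime (Nat.card (S ⧸ P)) := by
        have h1 : Fintype.card C₁ ∣ Fintype.card G := by
          have h2 := Subgroup.card_subgroup_dvd_card C₁
          rwa [Nat.card_eq_fintype_card, Nat.card_eq_fintype_card] at h2
        have h3 : Nat.card (S ⧸ P) ∣ Nat.card S := Dvd.intro _ hmul.symm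
        exact Nat.Coprime.coprime_dvd_left h1 (Nat.Coprime.coprime_dvd_right h3 hcop)
      haveI := hN₁n
      obtain ⟨β, hβinv, hβδ⟩ := ih (Nat.card (S ⧸ P)) hqcard N₁ φq φN₁q hcompatq rfl hcopq δ
        (fun x c => by
          obtain ⟨x, rfl⟩ := QuotientGroup.mk_surjective x
          rw [hφN₁q]
          exact hδinv x c)
      obtain ⟨χ, hχP, e, he, hpe⟩ := hOKG.surj β
      have hχS : ∀ x g, (χ : G → ℂ) (φ x g) = (χ : G → ℂ) g :=
        gl_equiv2 p φ φ₁ P hPn C₁.subtype (fun x c => hφ₁ x c) (hφPdef ▸ hOKG) χ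
          (fun t g => by
            have h1 := hχP t g
            rwa [hφP] at h1) β
          (fun x c => by
            have h1 := hβinv (QuotientGroup.mk x) c
            rwa [hφq] at h1) e he hpe
      refine ⟨χ, hχS, ?_⟩
      exact gl_res_conv p hPp N φP φNP (fun t n => by rw [hφNP, hφN, hφP]) C₁.subtype jN
        N₁.subtype (fun d => (hjN d).symm) C₁.subtype_injective hjNinj hrange hfixD hG hOKG hOKN
        χ hχP θ (fun t n => by rw [hφNP]; exact hθ t n) β e he hpe δ f hf hpf hβδ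

/-- (Isaacs 13.31) Under a coprime action of a finite solvable group `S` on `G`, every
`S`-invariant irreducible character of an `S`-invariant normal subgroup `N` lies under an
`S`-invariant irreducible character of `G`. -/
theorem gl_over {S : Type v} [Group S] [Finite S] [Group.IsSolvable S]
    {G : Type u} [Group G] [Fintype G] (N : Subgroup G) [N.Normal] [Fintype N]
    (φ : S →* MulAut G) (φN : S →* MulAut N) (hφN : ∀ x n, ((φN x n : N) : G) = φ x n)
    (hcop : (Fintype.card G).Coprime (Nat.card S))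
    (θ : IrrCharacter N) (hθ : ∀ x n, (θ : N → ℂ) (φN x n) = (θ : N → ℂ) n) :
    ∃ χ : IrrCharacter G, (∀ x g, (χ : G → ℂ) (φ x g) = (χ : G → ℂ) g) ∧
      classInner (fun n : N => (χ : G → ℂ) n) (θ : N → ℂ) ≠ 0 :=
  gl_over_aux (Nat.card S) N φ φN hφN rfl hcop θ hθ

end Cfsg.Agent.Lib.Helper5
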