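import Mathlib
import Cfsg.Agent.Lib.Helper4.TPDefs

/-! Project TP (S4033, owner helper4), piece AVG: conjugacy by an element of an abelian normal
subgroup `B` of coprime order (vanishing of `H¹` of a cyclic group of order prime to `|B|`). -/

set_option autoImplicit false

namespace Cfsg.Agent.Lib.Helper4.TP

universe u

/-- partial norms `z · τz · … · τ^(k-1) z` -/
def avg_helper5_P {A : Type*} [Group A] (τ : A →* A) (z : A) : ℕ → A
  | 0 => 1
  | k + 1 => avg_helper5_P τ z k * τ^[k] z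

/-- weighted partial norms `∏_{i<k} (τ^i z)^i` -/
def avg_helper5_D {A : Type*} [Group A] (τ : A →* A) (z : A) : ℕ → A
  | 0 => 1
  | k + 1 => avg_helper5_D τ z k * (τ^[k] z) ^ k

theorem avg_helper5_ident {A : Type*} [Group A] (hc : ∀ u v : A, u * v = v * u)
    (τ : A →* A) (z : A) (k : ℕ) :
    τ (avg_helper5_D τ z k) * avg_helper5_P τ z (k + 1) = z * avg_helper5_D τ z (k + 1) := by
  induction k with
  | zero => simp [avg_helper5_P, avg_helper5_D]
  | succ k ih =>
    have h1 : avg_helper5_D τ z (k + 1) = avg_helper5_D τ z k * (τ^[k] z) ^ k := rfl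
    have h2 : avg_helper5_P τ z (k + 1 + 1) = avg_helper5_P τ z (k + 1) * τ^[k + 1] z := rfl
    have h3 : avg_helper5_D τ z (k + 1 + 1) =
        avg_helper5_D τ z (k + 1) * (τ^[k + 1] z) ^ (k + 1) := rfl
    have h4 : τ (τ^[k] z) = τ^[k + 1] z := (Function.iterate_succ_apply' τ k z).symm
    calc τ (avg_helper5_D τ z (k + 1)) * avg_helper5_P τ z (k + 1 + 1)
        = τ (avg_helper5_D τ z k) * (τ^[k + 1] z) ^ k *
            (avg_helper5_P τ z (k + 1) * τ^[k + 1] z) := by
          rw [h1, h2, map_mul, map_pow, h4]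
      _ = τ (avg_helper5_D τ z k) * ((τ^[k + 1] z) ^ k * avg_helper5_P τ z (k + 1)) *
            τ^[k + 1] z := by simp only [mul_assoc]
      _ = τ (avg_helper5_D τ z k) * (avg_helper5_P τ z (k + 1) * (τ^[k + 1] z) ^ k) *
            τ^[k + 1] z := by rw [hc ((τ^[k + 1] z) ^ k)]
      _ = (τ (avg_helper5_D τ z k) * avg_helper5_P τ z (k + 1)) *
            ((τ^[k + 1] z) ^ k * τ^[k + 1] z) := by simp only [mul_assoc]
      _ = z * avg_helper5_D τ z (k + 1) * (τ^[k + 1] z) ^ (k + 1) := by rw [ih, pow_succ]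
      _ = z * avg_helper5_D τ z (k + 1 + 1) := by rw [h3, mul_assoc]

theorem avg_helper5_coh {A : Type*} [Group A] [Finite A] (hc : ∀ u v : A, u * v = v * u)
    (τ : A →* A) (n : ℕ) (hn : n.Coprime (Nat.card A)) (hτ : ∀ a, τ^[n] a = a) (z : A)
    (hN : avg_helper5_P τ z n = 1) : ∃ b : A, b * (τ b)⁻¹ = z := by
  have hid := avg_helper5_ident hc τ z n
  have hP : avg_helper5_P τ z (n + 1) = z := by
    show avg_helper5_P τ z n * τ^[n] z = z
    rw [hN, hτ, one_mul]
  have hD : avg_helper5_D τ z (n + 1) = avg_helper5_D τ z n * z ^ n := by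
    show avg_helper5_D τ z n * (τ^[n] z) ^ n = _
    rw [hτ]
  rw [hP, hD] at hid
  generalize avg_helper5_D τ z n = d at hid
  have hzn : z ^ n = d⁻¹ * τ d := by
    have h1 : τ d * z = (d * z ^ n) * z := by rw [hid, hc z]
    have h2 : τ d = d * z ^ n := mul_right_cancel h1
    rw [h2]; group
  have hn' : Nat.gcd n (Nat.card A) = 1 := hn
  have hbez : (n : ℤ) * Nat.gcdA n (Nat.card A) + (Nat.card A : ℤ) * Nat.gcdB n (Nat.card A)
      = 1 := by
    have h := Nat.gcd_eq_gcd_ab n (Nat.card A)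
    rw [hn'] at h
    rw [← h]; simp
  generalize Nat.gcdA n (Nat.card A) = a at hbez
  generalize Nat.gcdB n (Nat.card A) = a' at hbez
  have hz : z = (z ^ n) ^ a := by
    have h1 : z ^ ((n : ℤ) * a + (Nat.card A : ℤ) * a') = z := by rw [hbez, zpow_one]
    rw [zpow_add, zpow_mul, zpow_mul, zpow_natCast, zpow_natCast, pow_card_eq_one', one_zpow,
      mul_one] at h1
    exact h1.symm
  refine ⟨(d ^ a)⁻¹, ?_⟩
  rw [map_inv, inv_inv, map_zpow]
  have h5 : (d⁻¹ * τ d) ^ a = (d ^ a)⁻¹ * (τ d) ^ a := by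
    rw [(show Commute d⁻¹ (τ d) from hc _ _).mul_zpow, inv_zpow]
  rw [← h5, ← hzn, ← hz]

theorem avg : AvgStmt.{u} := by
  intro G _ _ B hBn hBc x g hcop hz
  let τ : B →* B := MonoidHom.mk' (fun b => ⟨x * b * x⁻¹, hBn.conj_mem b b.2 x⟩)
    (by intro a b; apply Subtype.ext; simp)
  have hτ1 : ∀ b : B, ((τ b : B) : G) = x * b * x⁻¹ := fun b => rfl
  have hiter : ∀ (k : ℕ) (b : B), ((τ^[k] b : B) : G) = x ^ k * b * (x ^ k)⁻¹ := by
    intro k
    induction k with
    | zero => intro b; simp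
    | succ k ih =>
      intro b
      rw [Function.iterate_succ_apply', hτ1, ih, pow_succ']
      group
  have hcB : ∀ u v : B, u * v = v * u := fun u v => Subtype.ext (hBc u u.2 v v.2)
  let z : B := ⟨g * x * g⁻¹ * x⁻¹, hz⟩
  have hpow : ∀ k : ℕ, (g * x * g⁻¹) ^ k = ((avg_helper5_P τ z k : B) : G) * x ^ k := by
    intro k
    induction k with
    | zero => simp [avg_helper5_P]
    | succ k ih =>
      have h2 : avg_helper5_P τ z (k + 1) = avg_helper5_P τ z k * τ^[k] z := rfl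
      rw [pow_succ, ih, h2, Subgroup.coe_mul, hiter]
      show _ = _ * (x ^ k * (g * x * g⁻¹ * x⁻¹) * (x ^ k)⁻¹) * x ^ (k + 1)
      rw [pow_succ]; group
  have hx : x ^ orderOf x = 1 := pow_orderOf_eq_one x
  have hN : avg_helper5_P τ z (orderOf x) = 1 := by
    have h := hpow (orderOf x)
    rw [hx, mul_one] at h
    have h3 : (g * x * g⁻¹) ^ orderOf x = 1 := by
      rw [conj_pow, hx]; group
    apply Subtype.ext
    rw [← h, h3]; rfl
  have hτn : ∀ a : B, τ^[orderOf x] a = a := by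
    intro a
    apply Subtype.ext
    rw [hiter, hx]; group
  obtain ⟨b, hb⟩ := avg_helper5_coh hcB τ (orderOf x) hcop hτn z hN
  refine ⟨b, b.2, ?_⟩
  have hb' : (b : G) * (x * b * x⁻¹)⁻¹ = g * x * g⁻¹ * x⁻¹ := by
    have h := congrArg Subtype.val hb
    rw [Subgroup.coe_mul, Subgroup.coe_inv, hτ1] at h
    exact h
  calc (b : G) * x * (b : G)⁻¹ = ((b : G) * (x * b * x⁻¹)⁻¹) * x := by group
    _ = g * x * g⁻¹ := by rw [hb']; group

end Cfsg.Agent.Lib.Helper4.TP
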