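import Mathlib

/-!
# Arithmetic for the order of a group with a self-centralizing Sylow `2`-subgroup of order four
(helper5)

Elementary arithmetic behind `v4_order`: the degree equation and the order formula of the
principal `2`-block force the order to be `12` or `60`.
-/

set_option autoImplicit false

namespace Cfsg.Agent.Lib.Helper5

/-- Signs `(+,+,-)`: the order is `12`. -/
theorem v4_core_ppm (N g a b c : ℕ) (hN : N = 4 * g) (hg : Odd g) (ha : 0 < a) (hb : 0 < b)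
    (hc : c = a + b + 1)
    (hform : (N : ℤ) * ((a : ℤ) * b * c + b * c + a * c - a * b) = 32 * ((a : ℤ) * b * c))
    (hsq : 1 + a ^ 2 + b ^ 2 + c ^ 2 ≤ N) : N = 12 := by
  subst hc
  push_cast at hform
  obtain ⟨k, rfl⟩ := hg
  have hform' : N * (a * b * (a + b + 1) + (a * a + a * b + b * b + a + b)) =
      32 * (a * b * (a + b + 1)) := by
    zify
    linear_combination hform
  have hlt : N < 32 := by
    by_contra h
    push Not at h
    have h1 := Nat.mul_le_mul_right (a * b * (a + b + 1) + (a * a + a * b + b * b + a + b)) h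
    have h2 : 0 < a * a + a * b + b * b + a + b := by positivity
    rw [hform'] at h1
    omega
  have ha3 : a ≤ 5 := by nlinarith
  have hb3 : b ≤ 5 := by nlinarith
  interval_cases a <;> interval_cases b <;> omega

/-- Signs `(+,-,-)`: the order is `60`. -/
theorem v4_core_pmm (N g a b c : ℕ) (hN : N = 4 * g) (hg : Odd g) (ha : 0 < a) (hb : 0 < b)
    (hc : c + 1 = a + b)
    (hform : (N : ℤ) * ((a : ℤ) * b * c + a * b - b * c - a * c) = 32 * ((a : ℤ) * b * c))
    (hsq : 1 + a ^ 2 + b ^ 2 + c ^ 2 ≤ N) : N = 60 := by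
  obtain ⟨a', rfl⟩ : ∃ a', a = a' + 1 := ⟨a - 1, by omega⟩
  obtain ⟨b', rfl⟩ : ∃ b', b = b' + 1 := ⟨b - 1, by omega⟩
  obtain rfl : c = a' + b' + 1 := by omega
  push_cast at hform
  obtain ⟨k, rfl⟩ := hg
  have hform' : N * ((a' + b' + 2) * (a' * b')) =
      32 * ((a' + b' + 1) * ((a' + 1) * (b' + 1))) := by
    zify
    linear_combination hform
  have ha0 : a' ≠ 0 := by
    rintro rfl
    simp at hform'
  have hb0 : b' ≠ 0 := by
    rintro rfl
    simp at hform'
  have hlt : N < 128 := by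
    by_contra h
    push Not at h
    have h1 := Nat.mul_le_mul_right ((a' + b' + 2) * (a' * b')) h
    have h2 : (a' + b' + 1) * ((a' + 1) * (b' + 1)) < (a' + b' + 2) * ((2 * a') * (2 * b')) :=
      Nat.mul_lt_mul_of_lt_of_le (by omega) (Nat.mul_le_mul (by omega) (by omega))
        (by positivity)
    have h3 : (a' + b' + 2) * ((2 * a') * (2 * b')) = 4 * ((a' + b' + 2) * (a' * b')) := by ring
    rw [hform'] at h1
    omega
  have ha9 : a' ≤ 10 := by nlinarith
  have hb9 : b' ≤ 10 := by nlinarith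
  interval_cases a' <;> interval_cases b' <;> omega

/-- The arithmetic of the principal block with four characters. -/
theorem v4_arith (N g x₁ x₂ x₃ : ℕ) (ε₁ ε₂ ε₃ : ℤ) (hN : N = 4 * g) (hg : Odd g)
    (h1 : 0 < x₁) (h2 : 0 < x₂) (h3 : 0 < x₃)
    (hε₁ : ε₁ = 1 ∨ ε₁ = -1) (hε₂ : ε₂ = 1 ∨ ε₂ = -1) (hε₃ : ε₃ = 1 ∨ ε₃ = -1)
    (hlin : 1 + ε₁ * (x₁ : ℤ) + ε₂ * (x₂ : ℤ) + ε₃ * (x₃ : ℤ) = 0)
    (hform : (N : ℚ) * (1 + (ε₁ : ℚ) / (x₁ : ℚ) + (ε₂ : ℚ) / (x₂ : ℚ) + (ε₃ : ℚ) / (x₃ : ℚ)) = 32)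
    (hsq : 1 + x₁ ^ 2 + x₂ ^ 2 + x₃ ^ 2 ≤ N) : N = 12 ∨ N = 60 := by
  have hz : (N : ℤ) * ((x₁ : ℤ) * x₂ * x₃ + ε₁ * (x₂ * x₃) + ε₂ * (x₁ * x₃) + ε₃ * (x₁ * x₂)) =
      32 * ((x₁ : ℤ) * x₂ * x₃) := by
    have h1' : (x₁ : ℚ) ≠ 0 := by positivity
    have h2' : (x₂ : ℚ) ≠ 0 := by positivity
    have h3' : (x₃ : ℚ) ≠ 0 := by positivity
    have hq : (N : ℚ) * ((x₁ : ℚ) * x₂ * x₃ + ε₁ * (x₂ * x₃) + ε₂ * (x₁ * x₃) + ε₃ * (x₁ * x₂)) =
        32 * ((x₁ : ℚ) * x₂ * x₃) := by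
      rw [← hform]
      field_simp
    exact_mod_cast hq
  rcases hε₁ with rfl | rfl <;> rcases hε₂ with rfl | rfl <;> rcases hε₃ with rfl | rfl
  · omega
  · left
    exact v4_core_ppm N g x₁ x₂ x₃ hN hg h1 h2 (by omega) (by linear_combination hz)
      (by linarith)
  · left
    exact v4_core_ppm N g x₁ x₃ x₂ hN hg h1 h3 (by omega) (by linear_combination hz)
      (by linarith)
  · right
    exact v4_core_pmm N g x₂ x₃ x₁ hN hg h2 h3 (by omega) (by linear_combination hz)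
      (by linarith)
  · left
    exact v4_core_ppm N g x₂ x₃ x₁ hN hg h2 h3 (by omega) (by linear_combination hz)
      (by linarith)
  · right
    exact v4_core_pmm N g x₁ x₃ x₂ hN hg h1 h3 (by omega) (by linear_combination hz)
      (by linarith)
  · right
    exact v4_core_pmm N g x₁ x₂ x₃ hN hg h1 h2 (by omega) (by linear_combination hz)
      (by linarith)
  · omega

end Cfsg.Agent.Lib.Helper5
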