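import Mathlib
import Cfsg.Agent.Lib.Helper5.V4Arith
import Cfsg.Agent.S0947
import Cfsg.Agent.Lib.Helper79.Klein6
import Cfsg.Agent.Lib.Helper82.PQ
import Cfsg.Agent.Lib.Helper82.LocalRing
import Cfsg.Agent.Lib.Helper83.Linear
import Cfsg.Agent.Lib.Helper35.Ind
import Cfsg.Agent.Lib.Helper20.Clifford
import Cfsg.Agent.Lib.Helper4.CharExp2

/-!
# Groups with a self-centralizing Sylow `2`-subgroup of order four (helper5)

If a Sylow `2`-subgroup `P` of order `4` is the centralizer of one of its involutions and `G` has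
no normal `2`-complement, then `|G| = 12` or `|G| = 60` (`v4_order`).  The proof is Brauer's:
the principal `2`-block consists of four characters taking the values `±1` at the involution,
and the degree equation together with the order formula (S4479, `klein_four_relations`) leaves
only the two orders.
-/

set_option autoImplicit false

namespace Cfsg.Agent.Lib.Helper5

open Cfsg
open scoped ComplexConjugate

universe u

/-- The homomorphism from the cyclic group of order two determined by an involution. -/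
def c2hom {G : Type*} [Group G] (J : G) (hJ : J * J = 1) : Multiplicative (ZMod 2) →* G where
  toFun k := J ^ (Multiplicative.toAdd k).val
  map_one' := by simp
  map_mul' x y := by
    show J ^ (Multiplicative.toAdd (x * y)).val =
      J ^ (Multiplicative.toAdd x).val * J ^ (Multiplicative.toAdd y).val
    rw [toAdd_mul, ZMod.val_add, ← pow_add, ← pow_eq_pow_mod _ (by rw [pow_two]; exact hJ)]

theorem c2hom_zero {G : Type*} [Group G] (J : G) (hJ : J * J = 1) :
    c2hom J hJ (Multiplicative.ofAdd 0) = 1 := by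
  show J ^ (0 : ZMod 2).val = 1
  simp

theorem c2hom_one {G : Type*} [Group G] (J : G) (hJ : J * J = 1) :
    c2hom J hJ (Multiplicative.ofAdd 1) = J := by
  show J ^ (1 : ZMod 2).val = J
  have : (1 : ZMod 2).val = 1 := rfl
  rw [this, pow_one]

theorem c2_sum (F : Multiplicative (ZMod 2) → ℂ) :
    ∑ k : Multiplicative (ZMod 2), F k = F (Multiplicative.ofAdd 0) + F (Multiplicative.ofAdd 1) := by
  rw [← Fintype.sum_equiv (Multiplicative.ofAdd : ZMod 2 ≃ Multiplicative (ZMod 2))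
    (fun k => F (Multiplicative.ofAdd k)) F (fun _ => rfl)]
  exact Fin.sum_univ_two (fun k : ZMod 2 => F (Multiplicative.ofAdd k))

/-- The value of a character at an involution: the multiplicities `k0`, `k1` of the eigenvalues
`1` and `-1`. -/
theorem char_invol_data {G : Type*} [Group G] {χ : G → ℂ} (hχ : IsCharacter G χ) (J : G)
    (hJ : J * J = 1) : ∃ k0 k1 : ℕ, χ 1 = (k0 : ℂ) + k1 ∧ χ J = (k0 : ℂ) - k1 := by
  classical
  have hψ : IsCharacter (Multiplicative (ZMod 2)) (fun k => χ (c2hom J hJ k)) :=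
    Cfsg.Agent.Lib.Helper20.isCharacter_comp (c2hom J hJ) hχ
  have hcard2 : (Nat.card (Multiplicative (ZMod 2)) : ℂ) = 2 := by
    rw [Nat.card_eq_fintype_card]; simp
  have hm : (-1 : ℂˣ) * (-1 : ℂˣ) = 1 := by simp
  obtain ⟨k0, hk0⟩ := Cfsg.Agent.Lib.Helper35.classInner_char_nat hψ
    (Cfsg.Agent.Lib.Helper35.isChar_of_irr
      (Cfsg.Agent.Lib.Helper83.isIrr_one (G := Multiplicative (ZMod 2))))
  obtain ⟨k1, hk1⟩ := Cfsg.Agent.Lib.Helper35.classInner_char_nat hψ
    (Cfsg.Agent.Lib.Helper35.isChar_of_irr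
      (Cfsg.Agent.Lib.Helper83.isIrr_of_hom (c2hom (-1 : ℂˣ) hm)))
  unfold classInner at hk0 hk1
  rw [hcard2, c2_sum] at hk0 hk1
  beta_reduce at hk0 hk1
  rw [c2hom_zero, c2hom_one] at hk0
  rw [c2hom_zero J hJ, c2hom_one J hJ, c2hom_zero, c2hom_one] at hk1
  simp only [map_one, mul_one, Units.val_one, Units.val_neg, map_neg, mul_neg] at hk0 hk1
  refine ⟨k0, k1, ?_, ?_⟩
  · linear_combination hk0 + hk1
  · linear_combination hk0 - hk1

/-- Integers with squares summing to `4`, none of them zero, one of them equal to `1`: there are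
exactly four of them, each `±1`. -/
theorem v4_four {ι : Type*} [DecidableEq ι] (B : Finset ι) (c : ι → ℤ)
    (h4 : ∑ i ∈ B, c i ^ 2 = 4) (hnz : ∀ i ∈ B, c i ≠ 0) (i0 : ι) (hi0 : i0 ∈ B)
    (hc0 : c i0 = 1) :
    ∃ i1 i2 i3 : ι, i1 ≠ i0 ∧ i2 ≠ i0 ∧ i3 ≠ i0 ∧ i1 ≠ i2 ∧ i1 ≠ i3 ∧ i2 ≠ i3 ∧
      (c i1 = 1 ∨ c i1 = -1) ∧ (c i2 = 1 ∨ c i2 = -1) ∧ (c i3 = 1 ∨ c i3 = -1) ∧
      ∀ i, i ∈ B ↔ (i = i0 ∨ i = i1 ∨ i = i2 ∨ i = i3) := by
  have hsplit := Finset.add_sum_erase B (fun i => c i ^ 2) hi0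
  rw [h4, hc0] at hsplit
  have h3 : ∑ i ∈ B.erase i0, c i ^ 2 = 3 := by linarith
  have hle : ∀ i ∈ B.erase i0, c i ^ 2 ≤ 3 := by
    intro i hi
    have := Finset.single_le_sum (f := fun i => c i ^ 2) (fun j _ => sq_nonneg (c j)) hi
    rw [h3] at this
    exact this
  have hpm : ∀ i ∈ B.erase i0, c i = 1 ∨ c i = -1 := by
    intro i hi
    have h1 := hle i hi
    have h2 := hnz i (Finset.mem_of_mem_erase hi)
    have h5 : c i ≤ 1 := by nlinarith
    have h6 : -1 ≤ c i := by nlinarith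
    omega
  have hone : ∀ i ∈ B.erase i0, c i ^ 2 = 1 := by
    intro i hi
    rcases hpm i hi with h | h <;> rw [h] <;> norm_num
  have hcard : (B.erase i0).card = 3 := by
    rw [Finset.sum_congr rfl hone] at h3
    simp only [Finset.sum_const, nsmul_eq_mul, mul_one] at h3
    exact_mod_cast h3
  obtain ⟨i1, i2, i3, h12, h13, h23, hset⟩ := Finset.card_eq_three.mp hcard
  have hmem : ∀ i, i ∈ B.erase i0 ↔ (i = i1 ∨ i = i2 ∨ i = i3) := by
    intro i
    rw [hset]
    simp
  have hi1 := (hmem i1).mpr (Or.inl rfl)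
  have hi2 := (hmem i2).mpr (Or.inr (Or.inl rfl))
  have hi3 := (hmem i3).mpr (Or.inr (Or.inr rfl))
  refine ⟨i1, i2, i3, Finset.ne_of_mem_erase hi1, Finset.ne_of_mem_erase hi2,
    Finset.ne_of_mem_erase hi3, h12, h13, h23, hpm i1 hi1, hpm i2 hi2, hpm i3 hi3, ?_⟩
  intro i
  constructor
  · intro hi
    by_cases h0 : i = i0
    · exact Or.inl h0
    · exact Or.inr ((hmem i).mp (Finset.mem_erase.mpr ⟨h0, hi⟩))
  · rintro (rfl | h)
    · exact hi0
    · exact Finset.mem_of_mem_erase ((hmem i).mpr h)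

set_option maxHeartbeats 1600000 in
/-- **Brauer.** If a Sylow `2`-subgroup `P` of order `4` is the centralizer of one of its
involutions and `G` has no normal `2`-complement, then `|G| = 12` or `|G| = 60`. -/
theorem v4_order {G : Type u} [Group G] [Finite G] (P : Sylow 2 G) (hP : Nat.card P = 4)
    (J : G) (hJ : orderOf J = 2)
    (hC : Subgroup.centralizer ({J} : Set G) = (P : Subgroup G))
    (hnc : ¬ ∃ N : Subgroup G, N.Normal ∧ N.IsComplement' (P : Subgroup G)) :
    Nat.card G = 12 ∨ Nat.card G = 60 := by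
  classical
  haveI : Fact (Nat.Prime 2) := ⟨Nat.prime_two⟩
  letI : Fintype G := Fintype.ofFinite G
  haveI := Cfsg.Agent.Lib.Helper4.irr_finite (G := G)
  letI : Fintype (IrrCharacter G) := Fintype.ofFinite _
  obtain ⟨M, hM⟩ := Cfsg.Agent.Lib.Helper82.exists_isPModular 2
  have hJP : J ∈ (P : Subgroup G) := by
    rw [← hC]
    exact Subgroup.mem_centralizer_singleton_iff.mpr rfl
  have hJJ : J * J = 1 := by
    rw [← pow_two, ← hJ]; exact pow_orderOf_eq_one J
  have hJ1 : J ≠ 1 := by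
    rintro rfl
    rw [orderOf_one] at hJ
    omega
  -- the order of `G`
  have hidx : ¬ 2 ∣ (P : Subgroup G).index := P.not_dvd_index
  have hcard : Nat.card G = 4 * (P : Subgroup G).index := by
    rw [← hP]; exact ((P : Subgroup G).card_mul_index).symm
  obtain ⟨g₀, hg₀def⟩ : ∃ g₀ : ℕ, g₀ = (P : Subgroup G).index := ⟨_, rfl⟩
  rw [← hg₀def] at hidx hcard
  have hg₀ : Odd g₀ := by
    rw [Nat.odd_iff]; omega
  have hnc' : ¬ ∃ N : Subgroup G, N.Normal ∧ Nat.card N = g₀ := by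
    rintro ⟨N, hNn, hNc⟩
    apply hnc
    refine ⟨N, hNn, Subgroup.isComplement'_of_coprime ?_ ?_⟩
    · rw [hNc, hP, hcard]; ring
    · rw [hNc, hP]
      have h4 : (4 : ℕ) = 2 ^ 2 := by norm_num
      rw [h4]
      exact Nat.Coprime.pow_right 2 ((Nat.coprime_comm).mp
        ((Nat.Prime.coprime_iff_not_dvd Nat.prime_two).mpr hidx))
  -- centralizers
  have hCP : Subgroup.centralizer ((P : Subgroup G) : Set G) = (P : Subgroup G) := by
    apply le_antisymm
    · intro x hx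
      rw [← hC, Subgroup.mem_centralizer_singleton_iff]
      exact (hx J hJP).symm
    · intro x hx
      rw [Subgroup.mem_centralizer_iff]
      intro y hy
      exact Cfsg.Agent.Lib.Helper79.sylow_four_comm P hP hy hx
  have hcJ : Nat.card (Subgroup.centralizer ({J} : Set G)) = 4 := by rw [hC]; exact hP
  have hcP : Nat.card (Subgroup.centralizer ((P : Subgroup G) : Set G)) = 4 := by
    rw [hCP]; exact hP
  -- the norm sum at `J`
  have hidxK := Cfsg.Agent.Lib.Helper79.index_pPrimeCore_centralizer P hP hJP hJ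
  have h947 := (Cfsg.Agent.S0947.result 2 M hM J ⟨1, by rw [hJ, pow_one]⟩ hJ1
    (1 : Subgroup.centralizer ({J} : Set G)) (by rw [orderOf_one]; norm_num)).2
    ⟨2, by rw [hidxK]; norm_num⟩
  rw [hcJ] at h947
  have hfac : (4 : ℕ).factorization 2 = 2 := by
    have h4 : (4 : ℕ) = 2 ^ 2 := by norm_num
    rw [h4, Nat.Prime.factorization_pow Nat.prime_two]
    simp
  rw [hfac] at h947
  simp only [OneMemClass.coe_one, mul_one] at h947
  -- integrality
  have hint : ∀ χ : IrrCharacter G, ∃ c : ℤ, (χ : G → ℂ) J = c := by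
    intro χ
    obtain ⟨k0, k1, -, h⟩ := char_invol_data (Cfsg.Agent.Lib.Helper35.isChar_of_irr χ.2) J hJJ
    exact ⟨(k0 : ℤ) - k1, by rw [h]; push_cast; ring⟩
  choose c hc using hint
  have hsum : ∑ χ ∈ Finset.univ.filter (· ∈ principalBlock M G), c χ ^ 2 = 4 := by
    rw [Cfsg.Agent.Lib.Helper79.finsum_mem_eq_sum_filter_univ] at h947
    have h1 : ((∑ χ ∈ Finset.univ.filter (· ∈ principalBlock M G), c χ ^ 2 : ℤ) : ℝ) =
        ((4 : ℤ) : ℝ) := by
      have h4 : (((2 ^ 2 : ℕ) : ℝ)) = ((4 : ℤ) : ℝ) := by norm_num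
      rw [← h4, ← h947]
      push_cast
      refine Finset.sum_congr rfl (fun χ _ => ?_)
      rw [hc χ, Complex.norm_intCast, sq_abs]
    exact_mod_cast h1
  -- non-vanishing
  have hnz : ∀ χ ∈ Finset.univ.filter (· ∈ principalBlock M G), c χ ≠ 0 := by
    intro χ hχ h0
    rw [Finset.mem_filter] at hχ
    have hs : SameBlock M (fun _ : G => (1 : ℂ)) (χ : G → ℂ) := hχ.2
    have h1 := hs J
    unfold centralChar at h1
    rw [hc χ, h0] at h1
    simp only [Int.cast_zero, mul_zero, zero_div, sub_zero, mul_one, div_one] at h1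
    rw [hC, ← hg₀def] at h1
    exact Cfsg.Agent.Lib.Helper82.not_memLocalIdeal_natCast hM hidx h1
  have ht0 : Cfsg.Agent.Lib.Helper83.trivIrr G ∈
      Finset.univ.filter (· ∈ principalBlock M G) := by
    rw [Finset.mem_filter]
    exact ⟨Finset.mem_univ _, Cfsg.Agent.Lib.Helper79.trivIrr_mem_principalBlock hM⟩
  have hc0 : c (Cfsg.Agent.Lib.Helper83.trivIrr G) = 1 := by
    have h := hc (Cfsg.Agent.Lib.Helper83.trivIrr G)
    rw [Cfsg.Agent.Lib.Helper83.trivIrr_apply] at h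
    exact_mod_cast h.symm
  obtain ⟨χ₁, χ₂, χ₃, h10, h20, h30, h12, h13, h23, hε₁, hε₂, hε₃, hmem⟩ :=
    v4_four (Finset.univ.filter (· ∈ principalBlock M G)) c hsum hnz
      (Cfsg.Agent.Lib.Helper83.trivIrr G) ht0 hc0
  have htriv : ∀ χ : IrrCharacter G, χ = Cfsg.Agent.Lib.Helper83.trivIrr G ↔
      (χ : G → ℂ) = (fun _ => 1) := by
    intro χ
    constructor
    · rintro rfl; rfl
    · intro h; exact Subtype.ext h
  have hB : principalBlock M G = {χ : IrrCharacter G | (χ : G → ℂ) = (fun _ => 1) ∨ χ = χ₁ ∨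
      χ = χ₂ ∨ χ = χ₃} := by
    ext χ
    have h := hmem χ
    rw [Finset.mem_filter, htriv χ] at h
    rw [Set.mem_setOf_eq]
    constructor
    · intro hχ; exact h.mp ⟨Finset.mem_univ _, hχ⟩
    · intro hχ; exact (h.mpr hχ).2
  have hdist : (χ₁ : G → ℂ) ≠ (fun _ => 1) ∧ (χ₂ : G → ℂ) ≠ (fun _ => 1) ∧
      (χ₃ : G → ℂ) ≠ (fun _ => 1) ∧ χ₁ ≠ χ₂ ∧ χ₁ ≠ χ₃ ∧ χ₂ ≠ χ₃ :=
    ⟨fun h => h10 ((htriv χ₁).mpr h), fun h => h20 ((htriv χ₂).mpr h),
      fun h => h30 ((htriv χ₃).mpr h), h12, h13, h23⟩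
  obtain ⟨hrel, n, hn, hform⟩ := Cfsg.Agent.Lib.Helper79.klein_four_relations hM g₀ hg₀ hcard
    hnc' P J hJP hJ χ₁ χ₂ χ₃ (c χ₁) (c χ₂) (c χ₃) hB hdist ⟨hε₁, hε₂, hε₃⟩
    ⟨hc χ₁, hc χ₂, hc χ₃⟩
  rw [hcP, hcJ] at hn
  have hn1 : n = 1 := by omega
  rw [hcJ, hn1] at hform
  -- sum of squares of the degrees
  have hsq : 1 + charDegree (χ₁ : G → ℂ) ^ 2 + charDegree (χ₂ : G → ℂ) ^ 2 +
      charDegree (χ₃ : G → ℂ) ^ 2 ≤ Nat.card G := by
    have htot : ∑ χ : IrrCharacter G, charDegree (χ : G → ℂ) ^ 2 = Nat.card G := by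
      have h := Cfsg.Agent.Lib.Helper4.sum_sq_irr (G := G)
      have h2 : ((∑ χ : IrrCharacter G, charDegree (χ : G → ℂ) ^ 2 : ℕ) : ℂ) =
          (Nat.card G : ℂ) := by
        rw [← h]
        push_cast
        exact Finset.sum_congr rfl
          (fun χ _ => by rw [Cfsg.Agent.Lib.Helper79.irr_one_eq_charDegree])
      exact_mod_cast h2
    have hle := Finset.sum_le_sum_of_subset
      (f := fun χ : IrrCharacter G => charDegree (χ : G → ℂ) ^ 2)
      (Finset.subset_univ ({Cfsg.Agent.Lib.Helper83.trivIrr G, χ₁, χ₂, χ₃} :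
        Finset (IrrCharacter G)))
    rw [htot, Finset.sum_insert, Finset.sum_insert, Finset.sum_insert,
      Finset.sum_singleton] at hle
    · have hd0 : charDegree (Cfsg.Agent.Lib.Helper83.trivIrr G : G → ℂ) = 1 := by
        unfold charDegree
        rw [Cfsg.Agent.Lib.Helper83.trivIrr_apply]
        simp
      rw [hd0] at hle
      omega
    · simp only [Finset.mem_singleton]; exact h23
    · simp only [Finset.mem_insert, Finset.mem_singleton, not_or]; exact ⟨h12, h13⟩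
    · simp only [Finset.mem_insert, Finset.mem_singleton, not_or]
      exact ⟨h10.symm, h20.symm, h30.symm⟩
  refine v4_arith (Nat.card G) g₀ (charDegree (χ₁ : G → ℂ)) (charDegree (χ₂ : G → ℂ))
    (charDegree (χ₃ : G → ℂ)) (c χ₁) (c χ₂) (c χ₃) hcard hg₀
    (Cfsg.Agent.Lib.Helper79.charDegree_pos χ₁) (Cfsg.Agent.Lib.Helper79.charDegree_pos χ₂)
    (Cfsg.Agent.Lib.Helper79.charDegree_pos χ₃) hε₁ hε₂ hε₃ hrel ?_ hsq
  rw [hform]
  norm_num

end Cfsg.Agent.Lib.Helper5
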