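import Mathlib
import Cfsg.Agent.S3224
import Cfsg.Agent.S0111
import Cfsg.Agent.Lib.Helper79.Klein3
import Cfsg.Agent.Lib.Helper79.Blk5

/-!
# An involution whose centralizer has a normal Klein four Sylow `2`-subgroup (helper5)

Group-theoretic part of S3278: in a simple group, if the centralizer `C` of an involution `x`
has a normal Klein four-subgroup `S₀` of odd index, then `S₀` is a Sylow `2`-subgroup of `G`
and `C` centralizes `S₀`.
-/

set_option autoImplicit false

namespace Cfsg.Agent.Lib.Helper5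

open Cfsg Subgroup

/-- An element whose order is prime to the index of a normal subgroup lies in it. -/
theorem mem_of_coprime_index {C : Type*} [Group C] [Finite C] (N : Subgroup C) [N.Normal]
    (c : C) (h : (orderOf c).Coprime N.index) : c ∈ N := by
  rw [← QuotientGroup.eq_one_iff]
  have h1 : orderOf ((QuotientGroup.mk' N) c) ∣ orderOf c := orderOf_map_dvd _ c
  have h2 : orderOf ((QuotientGroup.mk' N) c) ∣ N.index := by
    rw [Subgroup.index_eq_card]
    exact orderOf_dvd_natCard _
  have h3 : orderOf ((QuotientGroup.mk' N) c) = 1 :=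
    Nat.eq_one_of_dvd_coprimes h h1 h2
  exact orderOf_eq_one_iff.mp h3

/-- Existence of a subgroup of index two all of whose involutions are central, in a dihedral or
quasi-dihedral group. -/
theorem exists_index_two_central_invol (T : Type*) [Group T] [Finite T]
    (h : (∃ n : ℕ, Nonempty (T ≃* DihedralGroup n)) ∨ IsQuasiDihedral T) :
    ∃ Q : Subgroup T, Q.index = 2 ∧ ∀ q ∈ Q, q * q = 1 → ∀ t : T, q * t = t * q := by
  rcases h with ⟨n, ⟨e⟩⟩ | ⟨n, hn, hcard, x₀, y₀, hx₀, hy₀, hrel⟩
  · -- dihedral
    have hn : n ≠ 0 := by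
      rintro rfl
      have h1 : Nat.card T = Nat.card (DihedralGroup 0) := Nat.card_congr e.toEquiv
      rw [DihedralGroup.nat_card] at h1
      have h2 : 0 < Nat.card T := Nat.card_pos
      omega
    haveI : NeZero n := ⟨hn⟩
    have hcardR : Nat.card (zpowers (DihedralGroup.r 1 : DihedralGroup n)) = n := by
      rw [Nat.card_zpowers, DihedralGroup.orderOf_r_one]
    have hidxR : (zpowers (DihedralGroup.r 1 : DihedralGroup n)).index = 2 := by
      have h1 := Subgroup.card_mul_index (zpowers (DihedralGroup.r 1 : DihedralGroup n))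
      rw [hcardR, DihedralGroup.nat_card] at h1
      have hn' : 0 < n := Nat.pos_of_ne_zero hn
      nlinarith
    refine ⟨(zpowers (DihedralGroup.r 1 : DihedralGroup n)).comap e.toMonoidHom, ?_, ?_⟩
    · rw [Subgroup.index_comap_of_surjective _ e.surjective]
      exact hidxR
    · intro q hq hqq t
      rw [Subgroup.mem_comap] at hq
      obtain ⟨k, hk⟩ := hq
      have hk' : e q = DihedralGroup.r (k : ZMod n) := by
        rw [← DihedralGroup.r_one_zpow]
        exact hk.symm
      have hsq : e q * e q = 1 := by rw [← map_mul, hqq, map_one]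
      rw [hk', DihedralGroup.r_mul_r, DihedralGroup.one_def] at hsq
      have hi : (k : ZMod n) + (k : ZMod n) = 0 := by
        injection hsq
      apply e.injective
      rw [map_mul, map_mul, hk']
      rcases e t with j | j
      · rw [DihedralGroup.r_mul_r, DihedralGroup.r_mul_r, add_comm]
      · rw [DihedralGroup.r_mul_sr, DihedralGroup.sr_mul_r]
        congr 1
        linear_combination (-1 : ZMod n) * hi
  · -- quasi-dihedral
    have hcardQ : Nat.card (zpowers x₀) = 2 ^ n := by rw [Nat.card_zpowers, hx₀]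
    have hidx : (zpowers x₀).index = 2 := by
      have h1 := Subgroup.card_mul_index (zpowers x₀)
      rw [hcardQ, hcard, pow_succ] at h1
      have h2 : 0 < 2 ^ n := by positivity
      exact Nat.eq_of_mul_eq_mul_left h2 h1
    obtain ⟨m, hm⟩ : ∃ m : ℕ, 2 ^ (n - 1) = 2 * m + 4 := by
      obtain ⟨n', rfl⟩ : ∃ n', n = n' + 3 := ⟨n - 3, by omega⟩
      refine ⟨2 ^ (n' + 1) - 2, ?_⟩
      have h1 : n' + 3 - 1 = (n' + 1) + 1 := by omega
      rw [h1, pow_succ]
      have h2 : 2 ≤ 2 ^ (n' + 1) := by
        calc 2 = 2 ^ 1 := by norm_num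
          _ ≤ 2 ^ (n' + 1) := Nat.pow_le_pow_right (by norm_num) (by omega)
      omega
    have hord : orderOf x₀ = 2 * (2 * m + 4) := by
      rw [hx₀, ← hm, ← pow_succ']
      congr 1
      omega
    rw [hm] at hrel
    have hy₀Q : y₀ ∉ zpowers x₀ := by
      intro hy
      obtain ⟨j, hj⟩ := hy
      have hc : y₀ * x₀ = x₀ * y₀ := by
        rw [← hj]
        exact ((Commute.refl x₀).zpow_left j).eq
      have h1 : x₀ ^ (2 * m + 4 - 1) = x₀ ^ 1 := by
        rw [← hrel, hc, mul_inv_cancel_right, pow_one]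
      rw [pow_eq_pow_iff_modEq, hord] at h1
      have h2 := Nat.ModEq.eq_of_lt_of_lt h1 (by omega) (by omega)
      omega
    refine ⟨zpowers x₀, hidx, ?_⟩
    intro q hq hqq t
    obtain ⟨j, hj⟩ := hq
    have hj : x₀ ^ j = q := hj
    have hconj : y₀ * q * y₀⁻¹ = q := by
      have h1 : y₀ * q * y₀⁻¹ = (y₀ * x₀ * y₀⁻¹) ^ j := by
        rw [← hj]
        exact (map_zpow (MulAut.conj y₀) x₀ j)
      rw [h1, hrel, ← zpow_natCast, ← zpow_mul, mul_comm, zpow_mul, hj, zpow_natCast]
      have h2 : 2 * m + 4 - 1 = 2 * (m + 1) + 1 := by omega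
      rw [h2, pow_succ, pow_mul, pow_two, hqq, one_pow, one_mul]
    have hy : q * y₀ = y₀ * q := by
      have := congrArg (· * y₀) hconj
      simp only [inv_mul_cancel_right] at this
      exact this.symm
    by_cases ht : t ∈ zpowers x₀
    · obtain ⟨i, hi⟩ := ht
      have hi : x₀ ^ i = t := hi
      rw [← hj, ← hi]
      exact (zpow_mul_comm x₀ j i)
    · have h1 : t * y₀ ∈ zpowers x₀ :=
        (Subgroup.mul_mem_iff_of_index_two hidx).mpr ⟨fun h => absurd h ht, fun h => absurd h hy₀Q⟩
      obtain ⟨i, hi⟩ := h1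
      have hi : x₀ ^ i = t * y₀ := hi
      have h2 : q * (t * y₀) = (t * y₀) * q := by
        rw [← hj, ← hi]
        exact (zpow_mul_comm x₀ j i)
      have h3 : t = (t * y₀) * y₀⁻¹ := by rw [mul_inv_cancel_right]
      have hy' : q * y₀⁻¹ = y₀⁻¹ * q := by
        have := congrArg (fun w => y₀⁻¹ * w * y₀⁻¹) hy
        simp only [mul_assoc, mul_inv_cancel, mul_one, inv_mul_cancel_left] at this
        exact this.symm
      calc q * t = q * ((t * y₀) * y₀⁻¹) := by rw [mul_inv_cancel_right]
        _ = (q * (t * y₀)) * y₀⁻¹ := (mul_assoc _ _ _).symm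
        _ = ((t * y₀) * q) * y₀⁻¹ := by rw [h2]
        _ = (t * y₀) * (q * y₀⁻¹) := mul_assoc _ _ _
        _ = (t * y₀) * (y₀⁻¹ * q) := by rw [hy']
        _ = t * q := by rw [← mul_assoc, mul_inv_cancel_right]

section S0

variable {G : Type*} [Group G] [Finite G] (x : G) (S₀ : Subgroup G)

/-- The `2`-elements of `C(x)` lie in the normal subgroup `S₀` of odd index. -/
theorem two_elt_mem_s0 (hle : S₀ ≤ centralizer ({x} : Set G))
    (hodd : ¬ 2 ∣ S₀.relIndex (centralizer ({x} : Set G)))
    (hn : (S₀.subgroupOf (centralizer ({x} : Set G))).Normal)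
    (g : G) (hg : g ∈ centralizer ({x} : Set G)) (hg2 : ∃ k : ℕ, orderOf g = 2 ^ k) :
    g ∈ S₀ := by
  haveI := hn
  obtain ⟨k, hk⟩ := hg2
  have h := mem_of_coprime_index (S₀.subgroupOf (centralizer ({x} : Set G)))
    (⟨g, hg⟩ : centralizer ({x} : Set G)) (by
      rw [Subgroup.orderOf_mk, hk]
      exact Nat.Coprime.pow_left k ((Nat.Prime.coprime_iff_not_dvd Nat.prime_two).mpr hodd))
  exact Subgroup.mem_subgroupOf.mp h

theorem x_mem_s0 (hx : orderOf x = 2) (hle : S₀ ≤ centralizer ({x} : Set G))
    (hodd : ¬ 2 ∣ S₀.relIndex (centralizer ({x} : Set G)))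
    (hn : (S₀.subgroupOf (centralizer ({x} : Set G))).Normal) : x ∈ S₀ :=
  two_elt_mem_s0 x S₀ hle hodd hn x (mem_centralizer_singleton_iff.mpr rfl)
    ⟨1, by rw [hx, pow_one]⟩

theorem card_centralizer_s0 (hcard : Nat.card S₀ = 4) (hle : S₀ ≤ centralizer ({x} : Set G)) :
    Nat.card (centralizer ({x} : Set G)) = 4 * S₀.relIndex (centralizer ({x} : Set G)) := by
  have h1 := (S₀.subgroupOf (centralizer ({x} : Set G))).card_mul_index
  rw [Nat.card_congr (Subgroup.subgroupOfEquivOfLe hle).toEquiv, hcard] at h1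
  exact h1.symm

/-- The centralizer of `x` centralizes `S₀`. -/
theorem s0_central (hx : orderOf x = 2) (hcard : Nat.card S₀ = 4)
    (hle : S₀ ≤ centralizer ({x} : Set G))
    (hodd : ¬ 2 ∣ S₀.relIndex (centralizer ({x} : Set G)))
    (hn : (S₀.subgroupOf (centralizer ({x} : Set G))).Normal)
    (g : G) (hg : g ∈ centralizer ({x} : Set G)) (v : G) (hv : v ∈ S₀) : g * v = v * g := by
  haveI := hn
  have hxS : x ∈ S₀ := x_mem_s0 x S₀ hx hle hodd hn
  have hxx : x * x = 1 := by rw [← pow_two, ← hx]; exact pow_orderOf_eq_one x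
  have hgx : g * x = x * g := mem_centralizer_singleton_iff.mp hg
  have hnorm : ∀ w ∈ S₀, g * w * g⁻¹ ∈ S₀ := by
    intro w hw
    have h1 := hn.conj_mem (⟨w, hle hw⟩ : centralizer ({x} : Set G))
      (Subgroup.mem_subgroupOf.mpr hw) ⟨g, hg⟩
    exact Subgroup.mem_subgroupOf.mp h1
  have hpow : g ^ (S₀.subgroupOf (centralizer ({x} : Set G))).index ∈ S₀ := by
    have h1 := Subgroup.pow_index_mem (S₀.subgroupOf (centralizer ({x} : Set G)))
      (⟨g, hg⟩ : centralizer ({x} : Set G))
    exact Subgroup.mem_subgroupOf.mp h1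
  have hsq : Commute (g * g) v := by
    by_cases h1 : v = 1
    · rw [h1]; exact Commute.one_right _
    by_cases hvx : v = x
    · rw [hvx]
      have hc : Commute g x := hgx
      exact hc.mul_left hc
    by_cases hfix : g * v * g⁻¹ = v
    · have hc : Commute g v := by
        have := congrArg (· * g) hfix
        simp only [inv_mul_cancel_right] at this
        exact this
      exact hc.mul_left hc
    · have hw := hnorm v hv
      have hw1 : g * v * g⁻¹ ≠ 1 := by
        intro h
        apply h1
        have := congrArg (fun w => g⁻¹ * w * g) h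
        simp only [mul_assoc, inv_mul_cancel_left, inv_mul_cancel, mul_one] at this
        exact this
      have hwx : g * v * g⁻¹ ≠ x := by
        intro h
        apply hvx
        have := congrArg (fun w => g⁻¹ * w * g) h
        simp only [mul_assoc, inv_mul_cancel_left, inv_mul_cancel, mul_one] at this
        rw [this, ← hgx, inv_mul_cancel_left]
      rcases Cfsg.Agent.Lib.Helper79.subgroup_four_enum S₀ hcard hxS hx hv h1 hvx hw hw1 hwx
        with h | h
      · exact absurd h hfix
      · -- `g v g⁻¹ = x v`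
        show g * g * v = v * (g * g)
        have h2 : g * v = x * v * g := by
          have := congrArg (· * g) h
          simp only [inv_mul_cancel_right] at this
          exact this
        calc g * g * v = g * (g * v) := mul_assoc _ _ _
          _ = g * (x * v * g) := by rw [h2]
          _ = (g * x) * (v * g) := by simp only [mul_assoc]
          _ = (x * g) * (v * g) := by rw [hgx]
          _ = x * ((g * v) * g) := by simp only [mul_assoc]
          _ = x * ((x * v * g) * g) := by rw [h2]
          _ = (x * x) * v * (g * g) := by simp only [mul_assoc]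
          _ = v * (g * g) := by rw [hxx, one_mul]
  have hmodd : (S₀.subgroupOf (centralizer ({x} : Set G))).index % 2 = 1 := by
    have : ¬ 2 ∣ (S₀.subgroupOf (centralizer ({x} : Set G))).index := hodd
    omega
  obtain ⟨j, hj⟩ : ∃ j, (S₀.subgroupOf (centralizer ({x} : Set G))).index = 2 * j + 1 :=
    ⟨(S₀.subgroupOf (centralizer ({x} : Set G))).index / 2, by omega⟩
  rw [hj] at hpow
  have h1 : Commute (g ^ (2 * j + 1)) v := by
    have := Cfsg.Agent.Lib.Helper79.comm_of_card_four (Q := S₀) hcard ⟨g ^ (2 * j + 1), hpow⟩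
      ⟨v, hv⟩
    exact congrArg Subtype.val this
  have h2 : Commute ((g * g) ^ j) v := hsq.pow_left j
  have h3 : g ^ (2 * j + 1) = (g * g) ^ j * g := by
    rw [pow_succ, pow_mul, pow_two]
  have h4 : g = ((g * g) ^ j)⁻¹ * g ^ (2 * j + 1) := by rw [h3, inv_mul_cancel_left]
  have h5 : Commute g v := by
    rw [h4]
    exact h2.inv_left.mul_left h1
  exact h5.eq

/-- Transfer step: with a subgroup of index two in a Sylow `2`-subgroup `T ≥ S₀` all of whose
involutions are central in `T`, the Sylow subgroup has order four. -/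
theorem s0_sylow_aux [IsSimpleGroup G] (hx : orderOf x = 2) (hcard : Nat.card S₀ = 4)
    (hle : S₀ ≤ centralizer ({x} : Set G))
    (hodd : ¬ 2 ∣ S₀.relIndex (centralizer ({x} : Set G)))
    (T : Sylow 2 G) (hT : S₀ ≤ (T : Subgroup G)) (hxT : x ∈ (T : Subgroup G))
    (hC4 : Nat.card (centralizer ({(⟨x, hxT⟩ : (T : Subgroup G))} : Set (T : Subgroup G))) = 4)
    (Q' : Subgroup (T : Subgroup G)) (hQidx : Q'.index = 2)
    (hQc : ∀ q ∈ Q', q * q = 1 → ∀ t : (T : Subgroup G), q * t = t * q) :
    Nat.card (T : Subgroup G) = 4 := by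
  classical
  haveI : Fact (Nat.Prime 2) := ⟨Nat.prime_two⟩
  letI : Fintype G := Fintype.ofFinite G
  have hxx : x * x = 1 := by rw [← pow_two, ← hx]; exact pow_orderOf_eq_one x
  by_cases hxQ : (⟨x, hxT⟩ : (T : Subgroup G)) ∈ Q'
  · have htop : centralizer ({(⟨x, hxT⟩ : (T : Subgroup G))} : Set (T : Subgroup G)) = ⊤ := by
      rw [eq_top_iff]
      intro t _
      rw [mem_centralizer_singleton_iff]
      exact (hQc _ hxQ (Subtype.ext hxx) t).symm
    rw [htop, Subgroup.card_top] at hC4
    exact hC4
  · have hQP : Q'.map (T : Subgroup G).subtype ≤ (T : Subgroup G) := Subgroup.map_subtype_le _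
    have hQi : (Q'.map (T : Subgroup G).subtype).relIndex (T : Subgroup G) = 2 := by
      have h1 : (Q'.map (T : Subgroup G).subtype).subgroupOf (T : Subgroup G) = Q' :=
        Subgroup.comap_map_eq_self_of_injective (Subgroup.subtype_injective _) Q'
      show ((Q'.map (T : Subgroup G).subtype).subgroupOf (T : Subgroup G)).index = 2
      rw [h1]
      exact hQidx
    have hxQ' : x ∉ Q'.map (T : Subgroup G).subtype := by
      rintro ⟨q, hq, hqx⟩
      apply hxQ
      have : q = ⟨x, hxT⟩ := Subtype.ext hqx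
      rwa [← this]
    rcases Cfsg.Agent.S0111.result T (Q'.map (T : Subgroup G).subtype) hQP hQi x hx hxT hxQ' with
      ⟨M, hMn, hMi, -⟩ | ⟨g, hg⟩
    · rcases hMn.eq_bot_or_eq_top with h | h
      · rw [h, Subgroup.index_bot] at hMi
        have h1 := Subgroup.card_subgroup_dvd_card S₀
        rw [hcard, hMi] at h1
        omega
      · rw [h, Subgroup.index_top] at hMi
        omega
    · obtain ⟨q, hq, hqg⟩ := hg
      have hqg : (q : G) = g * x * g⁻¹ := hqg
      have hqq : q * q = 1 := by
        apply Subtype.ext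
        show (q : G) * (q : G) = 1
        rw [hqg]
        calc g * x * g⁻¹ * (g * x * g⁻¹) = g * (x * x) * g⁻¹ := by
              simp only [mul_assoc, inv_mul_cancel_left]
          _ = 1 := by rw [hxx, mul_one, mul_inv_cancel]
      have hcen : (T : Subgroup G) ≤ centralizer ({g * x * g⁻¹} : Set G) := by
        intro t ht
        rw [mem_centralizer_singleton_iff]
        have h1 := congrArg Subtype.val (hQc q hq hqq ⟨t, ht⟩)
        have h2 : (q : G) * t = t * (q : G) := h1
        rw [hqg] at h2
        exact h2.symm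
      have hdvd := Subgroup.card_dvd_of_le hcen
      have hconjcard : Nat.card (centralizer ({g * x * g⁻¹} : Set G)) =
          Nat.card (centralizer ({x} : Set G)) := by
        have h1 := Cfsg.Agent.Lib.Helper79.index_centralizer_eq_of_isConj
          (isConj_iff.mpr ⟨g, rfl⟩ : IsConj x (g * x * g⁻¹))
        have h2 := Subgroup.card_mul_index (centralizer ({x} : Set G))
        have h3 := Subgroup.card_mul_index (centralizer ({g * x * g⁻¹} : Set G))
        rw [← h1] at h3
        have hpos : 0 < (centralizer ({x} : Set G)).index :=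
          Nat.pos_of_ne_zero Subgroup.index_ne_zero_of_finite
        exact Nat.eq_of_mul_eq_mul_right hpos (h3.trans h2.symm)
      rw [hconjcard, card_centralizer_s0 x S₀ hcard hle] at hdvd
      obtain ⟨m, hm⟩ := (IsPGroup.iff_card).mp T.isPGroup'
      rw [hm] at hdvd
      have h4 : 2 ^ m ∣ 4 :=
        Nat.Coprime.dvd_of_dvd_mul_right (Nat.Coprime.pow_left m
          ((Nat.Prime.coprime_iff_not_dvd Nat.prime_two).mpr hodd)) hdvd
      have h5 : 4 ≤ Nat.card (T : Subgroup G) := by
        rw [← hcard]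
        exact Subgroup.card_le_of_le hT
      have h6 := Nat.le_of_dvd (by norm_num) h4
      omega

/-- `S₀` is a Sylow `2`-subgroup of the simple group `G`. -/
theorem s0_sylow [IsSimpleGroup G] (hx : orderOf x = 2) (hcard : Nat.card S₀ = 4)
    (hle : S₀ ≤ centralizer ({x} : Set G))
    (hodd : ¬ 2 ∣ S₀.relIndex (centralizer ({x} : Set G)))
    (hn : (S₀.subgroupOf (centralizer ({x} : Set G))).Normal) :
    ∃ P : Sylow 2 G, (P : Subgroup G) = S₀ := by
  haveI : Fact (Nat.Prime 2) := ⟨Nat.prime_two⟩
  have hpg : IsPGroup 2 S₀ := IsPGroup.of_card (n := 2) (by rw [hcard]; norm_num)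
  obtain ⟨T, hT⟩ := hpg.exists_le_sylow
  have hxS : x ∈ S₀ := x_mem_s0 x S₀ hx hle hodd hn
  have hxT : x ∈ (T : Subgroup G) := hT hxS
  have hTC : ∀ t ∈ (T : Subgroup G), t ∈ centralizer ({x} : Set G) → t ∈ S₀ := by
    intro t ht htC
    apply two_elt_mem_s0 x S₀ hle hodd hn t htC
    obtain ⟨k, hk⟩ := T.isPGroup' ⟨t, ht⟩
    have h1 : t ^ 2 ^ k = 1 := congrArg Subtype.val hk
    obtain ⟨j, -, hj⟩ := (Nat.dvd_prime_pow Nat.prime_two).mp (orderOf_dvd_of_pow_eq_one h1)
    exact ⟨j, hj⟩
  suffices hT4 : Nat.card (T : Subgroup G) = 4 by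
    refine ⟨T, ?_⟩
    exact (Subgroup.eq_of_le_of_card_ge hT (by rw [hT4, hcard])).symm
  have hx'2 : orderOf (⟨x, hxT⟩ : (T : Subgroup G)) = 2 := by
    rw [Subgroup.orderOf_mk]; exact hx
  have hmap : (centralizer ({(⟨x, hxT⟩ : (T : Subgroup G))} : Set (T : Subgroup G))).map
      (T : Subgroup G).subtype = S₀ := by
    ext g
    constructor
    · rintro ⟨t, ht, rfl⟩
      apply hTC t t.2
      rw [SetLike.mem_coe, mem_centralizer_singleton_iff] at ht
      rw [mem_centralizer_singleton_iff]
      exact congrArg Subtype.val ht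
    · intro hg
      refine ⟨⟨g, hT hg⟩, ?_, rfl⟩
      rw [SetLike.mem_coe, mem_centralizer_singleton_iff]
      apply Subtype.ext
      exact mem_centralizer_singleton_iff.mp (hle hg)
  have hC4 : Nat.card (centralizer ({(⟨x, hxT⟩ : (T : Subgroup G))} : Set (T : Subgroup G))) =
      4 := by
    rw [← hcard, ← hmap]
    exact (Subgroup.card_map_of_injective (Subgroup.subtype_injective _)).symm
  rcases Cfsg.Agent.S3224.result T.isPGroup' (⟨x, hxT⟩ : (T : Subgroup G)) hx'2 hC4 with
    h | h | h
  · obtain ⟨Q', hQidx, hQc⟩ := exists_index_two_central_invol (T : Subgroup G) (Or.inl h)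
    exact s0_sylow_aux x S₀ hx hcard hle hodd T hT hxT hC4 Q' hQidx hQc
  · obtain ⟨Q', hQidx, hQc⟩ := exists_index_two_central_invol (T : Subgroup G) (Or.inr h)
    exact s0_sylow_aux x S₀ hx hcard hle hodd T hT hxT hC4 Q' hQidx hQc
  · exact h

end S0

end Cfsg.Agent.Lib.Helper5
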